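import Groth.Prelude.Def_RelProj
import Groth.Agent.ProjRed.Basic
import Mathlib

/-! Local properties of relative `Proj` and of the morphisms between relative `Proj`s. -/

set_option autoImplicit false
set_option linter.style.haveILetI false
set_option backward.isDefEq.respectTransparency false
universe u
open CategoryTheory CategoryTheory.Limits AlgebraicGeometry TopologicalSpace Opposite
open scoped HomogeneousIdeal

noncomputable section

namespace Groth.Agent.RelProjLib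

section proj

variable {A σ B τ : Type u} [CommRing A] [SetLike σ A] [AddSubgroupClass σ A] {𝒜 : ℕ → σ} [GradedRing 𝒜]
  [CommRing B] [SetLike τ B] [AddSubgroupClass τ B] {ℬ : ℕ → τ} [GradedRing ℬ]

/-- degree zero part of a graded hom. -/
def zeroHom (φ : 𝒜 →+*ᵍ ℬ) : 𝒜 0 →+* ℬ 0 where
  toFun a := ⟨φ a, φ.2 a.2⟩
  map_one' := Subtype.ext (map_one φ.toRingHom)
  map_mul' a b := Subtype.ext (map_mul φ.toRingHom _ _)
  map_zero' := Subtype.ext (map_zero φ.toRingHom)
  map_add' a b := Subtype.ext (map_add φ.toRingHom _ _)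

lemma map_toSpecZero (φ : 𝒜 →+*ᵍ ℬ) (hφ : ℬ₊ ≤ 𝒜₊.map φ) :
    Proj.map φ hφ ≫ Proj.toSpecZero 𝒜 =
      Proj.toSpecZero ℬ ≫ Spec.map (CommRingCat.ofHom (zeroHom φ)) := by
  refine (Proj.mapAffineOpenCover φ hφ).openCover.hom_ext _ _ fun i => ?_
  simp only [Scheme.AffineOpenCover.openCover_f, Proj.mapAffineOpenCover_f]
  rw [Proj.awayι_comp_map_assoc φ hφ i.1.2 _ i.2.2, Proj.awayι_toSpecZero]
  erw [Proj.awayι_toSpecZero_assoc]
  rw [← Spec.map_comp, ← Spec.map_comp]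
  refine congrArg Spec.map (CommRingCat.hom_ext (RingHom.ext fun a => ?_))
  change HomogeneousLocalization.Away.map φ _ (HomogeneousLocalization.fromZeroRingHom 𝒜 _ a) =
    HomogeneousLocalization.fromZeroRingHom ℬ _ (zeroHom φ a)
  ext
  change (HomogeneousLocalization.map φ _ (HomogeneousLocalization.mk _)).val =
    (HomogeneousLocalization.mk _).val
  rw [HomogeneousLocalization.map_mk, HomogeneousLocalization.val_mk, HomogeneousLocalization.val_mk]
  congr 1
  exact Subtype.ext (map_one φ.toRingHom)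

lemma locallyOfFiniteType_quasiCompact {R : CommRingCat.{u}} (s : R ⟶ CommRingCat.of (𝒜 0))
    (T : Finset A) (hT : ∀ t ∈ T, t ∈ 𝒜 1)
    (hspan : 𝒜₊.toIdeal ≤ Ideal.span (T : Set A))
    (hft : ∀ t ∈ T, ((HomogeneousLocalization.fromZeroRingHom 𝒜 (Submonoid.powers t)).comp s.hom).FiniteType) :
    LocallyOfFiniteType (Proj.toSpecZero 𝒜 ≫ Spec.map s) ∧
      QuasiCompact (Proj.toSpecZero 𝒜 ≫ Spec.map s) := by
  have hcov : (⨆ t : T, Proj.basicOpen 𝒜 (t : A)) = ⊤ :=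
    Proj.iSup_basicOpen_eq_top 𝒜 _ (by simpa using hspan)
  constructor
  · rw [IsZariskiLocalAtSource.iff_of_iSup_eq_top (P := @LocallyOfFiniteType) _ hcov]
    intro t
    rw [← MorphismProperty.cancel_left_of_respectsIso (P := @LocallyOfFiniteType)
      (Proj.basicOpenIsoSpec 𝒜 (t : A) (hT _ t.2) one_pos).inv, ← Category.assoc,
      ← Proj.awayι, Proj.awayι_toSpecZero_assoc, ← Spec.map_comp,
      HasRingHomProperty.Spec_iff (P := @LocallyOfFiniteType)]
    exact hft t t.2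
  · rw [HasAffineProperty.iff_of_isAffine (P := @QuasiCompact)]
    have H (t : T) : IsCompact (Proj.basicOpen 𝒜 (t : A)).1 := by
      rw [← Proj.opensRange_awayι _ _ (hT _ t.2) one_pos]
      exact isCompact_range (Proj.awayι _ _ (hT _ t.2) one_pos).continuous
    have := congr($(hcov).1)
    simp only [TopologicalSpace.Opens.iSup_mk, TopologicalSpace.Opens.carrier_eq_coe,
      TopologicalSpace.Opens.coe_mk, TopologicalSpace.Opens.coe_top] at this
    rw [← isCompact_univ_iff, ← this]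
    exact isCompact_iUnion H

/-- `Proj.map` of a map which is bijective in high degrees is an isomorphism. -/
lemma isIso_map (φ : 𝒜 →+*ᵍ ℬ) (hφ : ℬ₊ ≤ 𝒜₊.map φ) (n₀ : ℕ)
    (hb : ∀ n, n₀ ≤ n → Set.BijOn φ (𝒜 n) (ℬ n)) : IsIso (Proj.map φ hφ) := by
  change MorphismProperty.isomorphisms Scheme.{u} _
  refine IsZariskiLocalAtTarget.of_openCover (Proj.affineOpenCover 𝒜).openCover ?_
  rintro ⟨⟨d, hd⟩, f, hf⟩
  have hpb : IsPullback (Spec.map (CommRingCat.ofHom (HomogeneousLocalization.Away.map φ f)))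
      (Proj.awayι ℬ (φ f) (φ.2 hf) hd) (Proj.awayι 𝒜 f hf hd) (Proj.map φ hφ) := by
    refine IsOpenImmersion.isPullback _ _ _ _ (Proj.awayι_comp_map φ hφ hd f hf) ?_
    rw [Proj.opensRange_awayι, Proj.opensRange_awayι]
    exact Proj.map_preimage_basicOpen φ hφ f
  have hmem : ∀ (n : ℕ) (a : A), a ∈ 𝒜 (n • d) → a * f ^ n₀ ∈ 𝒜 ((n + n₀) • d) := fun n a ha => by
    rw [add_smul]
    exact SetLike.mul_mem_graded ha (SetLike.pow_mem_graded n₀ hf)
  have hge : ∀ n, n₀ ≤ (n + n₀) • d := fun n =>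
    le_trans (Nat.le_mul_of_pos_right n₀ hd) (by simp [add_mul])
  have hbij : Function.Bijective (HomogeneousLocalization.Away.map φ f) := by
    constructor
    · rw [injective_iff_map_eq_zero]
      intro x hx
      obtain ⟨n, a, ha, rfl⟩ := HomogeneousLocalization.Away.mk_surjective 𝒜 hf x
      have h := congrArg HomogeneousLocalization.val hx
      rw [HomogeneousLocalization.Away.map_mk, HomogeneousLocalization.Away.val_mk,
        HomogeneousLocalization.val_zero, ← Localization.mk_zero 1, Localization.mk_eq_mk_iff,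
        Localization.r_iff_exists] at h
      obtain ⟨⟨_, m, rfl⟩, hm⟩ := h
      simp only [OneMemClass.coe_one, one_mul, mul_zero] at hm
      have hdeg : f ^ (m + n₀) * a ∈ 𝒜 ((n + m + n₀) • d) := by
        rw [show (n + m + n₀) • d = (m + n₀) • d + n • d by simp; ring]
        exact SetLike.mul_mem_graded (SetLike.pow_mem_graded _ hf) ha
      have hzero : f ^ (m + n₀) * a = 0 := by
        refine (hb _ (hge (n + m))).injOn hdeg (zero_mem _) ?_
        rw [map_zero, map_mul, map_pow, pow_add, mul_right_comm, hm, zero_mul]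
      ext
      rw [HomogeneousLocalization.Away.val_mk, HomogeneousLocalization.val_zero,
        ← Localization.mk_zero 1, Localization.mk_eq_mk_iff, Localization.r_iff_exists]
      exact ⟨⟨f ^ (m + n₀), m + n₀, rfl⟩, by simpa using hzero⟩
    · intro y
      obtain ⟨n, b, hb', rfl⟩ := HomogeneousLocalization.Away.mk_surjective ℬ (φ.2 hf) y
      have hb'' : b * φ f ^ n₀ ∈ ℬ ((n + n₀) • d) := by
        rw [add_smul]
        exact SetLike.mul_mem_graded hb' (SetLike.pow_mem_graded n₀ (φ.2 hf))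
      obtain ⟨a, ha, hab⟩ := (hb _ (hge n)).surjOn hb''
      refine ⟨HomogeneousLocalization.Away.mk 𝒜 hf (n + n₀) a ha, ?_⟩
      rw [HomogeneousLocalization.Away.map_mk]
      ext
      rw [HomogeneousLocalization.Away.val_mk, HomogeneousLocalization.Away.val_mk,
        Localization.mk_eq_mk_iff, Localization.r_iff_exists]
      exact ⟨1, by simp [hab, pow_add]; ring⟩
  haveI : IsIso (CommRingCat.ofHom (HomogeneousLocalization.Away.map φ f)) :=
    (ConcreteCategory.isIso_iff_bijective _).2 hbij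
  change IsIso (pullback.snd (Proj.map φ hφ) (Proj.awayι 𝒜 f hf hd))
  rw [← hpb.flip.isoPullback_inv_snd]
  infer_instance

end proj

variable {S : Scheme.{u}} {𝒮 : RelProj.QCGrAlg S} {P : Scheme.{u}} {p : P ⟶ S}
  {chart : ∀ (U : S.Opens) (hU : IsAffineOpen U), (((p ⁻¹ᵁ U : P.Opens) : Scheme.{u}) ≅ Proj (𝒮.deg U hU))}

lemma restrict_eq (hP : RelProj.IsRelProj 𝒮 p chart) (U : S.Opens) (hU : IsAffineOpen U) :
    p ∣_ U = (chart U hU).hom ≫ (Proj.toSpecZero (𝒮.deg U hU) ≫ Spec.map (𝒮.strZero U hU)) ≫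
      hU.isoSpec.inv := by
  rw [← cancel_mono U.ι, morphismRestrict_ι, Category.assoc, Category.assoc, Category.assoc,
    IsAffineOpen.isoSpec_inv_ι, hP.chart_over]

lemma of_charts (hP : RelProj.IsRelProj 𝒮 p chart) (Q : MorphismProperty Scheme.{u})
    [IsZariskiLocalAtTarget Q]
    (h : ∀ (U : S.Opens) (hU : IsAffineOpen U),
      Q (Proj.toSpecZero (𝒮.deg U hU) ≫ Spec.map (𝒮.strZero U hU))) : Q p := by
  refine IsZariskiLocalAtTarget.of_iSup_eq_top (fun U : S.affineOpens => (U : S.Opens))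
    (iSup_affineOpens_eq_top S) fun U => ?_
  rw [restrict_eq hP U U.2, MorphismProperty.cancel_left_of_respectsIso (P := Q),
    MorphismProperty.cancel_right_of_respectsIso (P := Q)]
  exact h U U.2

section hom

variable {𝒜 ℬ : RelProj.QCGrAlg S} {φ : 𝒜.toQCAlg ⟶ ℬ.toQCAlg} {hφ : RelProj.IsGradedHom φ}
  {hirr : ∀ (U : S.Opens) (hU : IsAffineOpen U),
      (ℬ.deg U hU)₊ ≤ ((𝒜.deg U hU)₊).map (RelProj.gradedHomAt φ hφ U hU)}
  {PA PB : Scheme.{u}} {pA : PA ⟶ S} {pB : PB ⟶ S}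
  {chartA : ∀ (U : S.Opens) (hU : IsAffineOpen U), (((pA ⁻¹ᵁ U : PA.Opens) : Scheme.{u}) ≅ Proj (𝒜.deg U hU))}
  {chartB : ∀ (U : S.Opens) (hU : IsAffineOpen U), (((pB ⁻¹ᵁ U : PB.Opens) : Scheme.{u}) ≅ Proj (ℬ.deg U hU))}

lemma iSup_preimage {X : Scheme.{u}} (q : X ⟶ S) :
    ⨆ U : S.affineOpens, q ⁻¹ᵁ (U : S.Opens) = ⊤ := by
  refine eq_top_iff.2 fun x _ => ?_
  obtain ⟨U, hU, hx, -⟩ := exists_isAffineOpen_mem_and_subset (x := q.base x) (U := ⊤) trivial
  exact Opens.mem_iSup.2 ⟨⟨U, hU⟩, hx⟩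

lemma strZero_zeroHom (U : S.Opens) (hU : IsAffineOpen U) :
    𝒜.strZero U hU ≫ CommRingCat.ofHom (zeroHom (RelProj.gradedHomAt φ hφ U hU)) =
      ℬ.strZero U hU := by
  refine CommRingCat.hom_ext (RingHom.ext fun r => Subtype.ext ?_)
  change (φ.hom.app (op U)).hom ((𝒜.str.app (op U)).hom r) = (ℬ.str.app (op U)).hom r
  rw [← φ.comm]
  rfl

lemma chartMap_comp (hA : RelProj.IsRelProj 𝒜 pA chartA) (hB : RelProj.IsRelProj ℬ pB chartB)
    (U : S.Opens) (hU : IsAffineOpen U) :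
    (chartB U hU).hom ≫ Proj.map (RelProj.gradedHomAt φ hφ U hU) (hirr U hU) ≫ (chartA U hU).inv ≫
      (pA ⁻¹ᵁ U).ι ≫ pA = (pB ⁻¹ᵁ U).ι ≫ pB := by
  rw [← hA.chart_over U hU, Iso.inv_hom_id_assoc, reassoc_of% map_toSpecZero,
    ← Spec.map_comp_assoc, strZero_zeroHom, hB.chart_over U hU]

lemma comp_eq (hA : RelProj.IsRelProj 𝒜 pA chartA) (hB : RelProj.IsRelProj ℬ pB chartB)
    {h : PB ⟶ PA} (hh : RelProj.IsRelProjMap φ hφ hirr chartA chartB h) : h ≫ pA = pB := by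
  refine (PB.openCoverOfIsOpenCover _ (iSup_preimage pB)).hom_ext _ _ fun (U : S.affineOpens) => ?_
  change (pB ⁻¹ᵁ (U : S.Opens)).ι ≫ h ≫ pA = (pB ⁻¹ᵁ (U : S.Opens)).ι ≫ pB
  rw [reassoc_of% (hh U U.2), chartMap_comp hA hB U U.2]

lemma of_charts_map (hA : RelProj.IsRelProj 𝒜 pA chartA) (hB : RelProj.IsRelProj ℬ pB chartB)
    {h : PB ⟶ PA} (hh : RelProj.IsRelProjMap φ hφ hirr chartA chartB h)
    (Q : MorphismProperty Scheme.{u}) [IsZariskiLocalAtTarget Q]
    (hQ : ∀ (U : S.Opens) (hU : IsAffineOpen U),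
      Q (Proj.map (RelProj.gradedHomAt φ hφ U hU) (hirr U hU))) : Q h := by
  refine IsZariskiLocalAtTarget.of_iSup_eq_top (fun U : S.affineOpens => pA ⁻¹ᵁ (U : S.Opens))
    (iSup_preimage pA) fun U => ?_
  have e : h ⁻¹ᵁ (pA ⁻¹ᵁ (U : S.Opens)) = pB ⁻¹ᵁ (U : S.Opens) := by
    rw [← Scheme.Hom.comp_preimage, comp_eq hA hB hh]
  have key : h ∣_ (pA ⁻¹ᵁ (U : S.Opens)) = (PB.isoOfEq e).hom ≫ (chartB U U.2).hom ≫
      Proj.map (RelProj.gradedHomAt φ hφ U U.2) (hirr U U.2) ≫ (chartA U U.2).inv := by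
    rw [← cancel_mono (pA ⁻¹ᵁ (U : S.Opens)).ι, morphismRestrict_ι]
    simp only [Category.assoc]
    rw [← hh U U.2, Scheme.isoOfEq_hom_ι_assoc]
  rw [key, MorphismProperty.cancel_left_of_respectsIso (P := Q),
    MorphismProperty.cancel_left_of_respectsIso (P := Q),
    MorphismProperty.cancel_right_of_respectsIso (P := Q)]
  exact hQ U U.2

lemma gradedHomAt_res (U : S.Opens) (hU : IsAffineOpen U) (r : Γ(S, U)) :
    (RelProj.gradedHomAt φ hφ (S.basicOpen r) (hU.basicOpen r)).comp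
        (𝒜.res hU (hU.basicOpen r) (S.basicOpen_le r)) =
      (ℬ.res hU (hU.basicOpen r) (S.basicOpen_le r)).comp (RelProj.gradedHomAt φ hφ U hU) := by
  refine GradedRingHom.ext fun x => ?_
  have := φ.hom.naturality (homOfLE (S.basicOpen_le r)).op
  exact congr(($this).hom x)

variable (φ hφ hirr chartA chartB) in
/-- The chartwise candidate of the map between relative Projs. -/
def chartMap (U : S.Opens) (hU : IsAffineOpen U) : ((pB ⁻¹ᵁ U : PB.Opens) : Scheme.{u}) ⟶ PA :=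
  (chartB U hU).hom ≫ Proj.map (RelProj.gradedHomAt φ hφ U hU) (hirr U hU) ≫ (chartA U hU).inv ≫
    (pA ⁻¹ᵁ U).ι

lemma chartMap_res (hA : RelProj.IsRelProj 𝒜 pA chartA) (hB : RelProj.IsRelProj ℬ pB chartB)
    (U : S.Opens) (hU : IsAffineOpen U) (r : Γ(S, U)) :
    PB.homOfLE (pB.preimage_mono (S.basicOpen_le r)) ≫ chartMap φ hφ hirr chartA chartB U hU =
      chartMap φ hφ hirr chartA chartB (S.basicOpen r) (hU.basicOpen r) := by
  have h2 := hA.chart_res U hU r
  have h3 : Proj.map (RelProj.gradedHomAt φ hφ (S.basicOpen r) (hU.basicOpen r))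
        (hirr (S.basicOpen r) (hU.basicOpen r)) ≫
        Proj.map (𝒜.res hU (hU.basicOpen r) (S.basicOpen_le r)) (𝒜.irrelevant_le_map U hU r) =
      Proj.map (ℬ.res hU (hU.basicOpen r) (S.basicOpen_le r)) (ℬ.irrelevant_le_map U hU r) ≫
        Proj.map (RelProj.gradedHomAt φ hφ U hU) (hirr U hU) := by
    rw [← Proj.map_comp, ← Proj.map_comp]
    congr 1
    exact gradedHomAt_res U hU r
  simp only [chartMap]
  rw [reassoc_of% (hB.chart_res U hU r), ← reassoc_of% h3]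
  have h4 : Proj.map (𝒜.res hU (hU.basicOpen r) (S.basicOpen_le r)) (𝒜.irrelevant_le_map U hU r) ≫
      (chartA U hU).inv ≫ (pA ⁻¹ᵁ U).ι =
      (chartA (S.basicOpen r) (hU.basicOpen r)).inv ≫ (pA ⁻¹ᵁ S.basicOpen r).ι := by
    rw [← cancel_epi (chartA (S.basicOpen r) (hU.basicOpen r)).hom, ← reassoc_of% h2,
      Iso.hom_inv_id_assoc, Iso.hom_inv_id_assoc, Scheme.homOfLE_ι]
  rw [h4]

theorem existsUnique_map (hA : RelProj.IsRelProj 𝒜 pA chartA) (hB : RelProj.IsRelProj ℬ pB chartB) :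
    ∃! h : PB ⟶ PA, RelProj.IsRelProjMap φ hφ hirr chartA chartB h := by
  let 𝒰 := PB.openCoverOfIsOpenCover _ (iSup_preimage pB)
  have hcompat : ∀ U V : S.affineOpens,
      pullback.fst (𝒰.f U) (𝒰.f V) ≫ chartMap φ hφ hirr chartA chartB U U.2 =
        pullback.snd (𝒰.f U) (𝒰.f V) ≫ chartMap φ hφ hirr chartA chartB V V.2 := by
    intro U V
    let W := pullback (𝒰.f U) (𝒰.f V)
    have hloc : ∀ x : W, ∃ (r : Γ(S, (U : S.Opens))) (r' : Γ(S, (V : S.Opens))),
        S.basicOpen r = S.basicOpen r' ∧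
          x ∈ (pullback.fst (𝒰.f U) (𝒰.f V) ≫ 𝒰.f U ≫ pB) ⁻¹ᵁ S.basicOpen r := by
      intro x
      set s := (pullback.fst (𝒰.f U) (𝒰.f V) ≫ 𝒰.f U ≫ pB).base x with hs
      have hsU : s ∈ (U : S.Opens) := (pullback.fst (𝒰.f U) (𝒰.f V) x).2
      have hsV : s ∈ (V : S.Opens) := by
        rw [hs, pullback.condition_assoc]
        exact (pullback.snd (𝒰.f U) (𝒰.f V) x).2
      obtain ⟨r, r', e, hx⟩ := exists_basicOpen_le_affine_inter U.2 V.2 s ⟨hsU, hsV⟩
      exact ⟨r, r', e, hx⟩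
    choose r r' he hmem using hloc
    let O : W → W.Opens := fun x => (pullback.fst (𝒰.f U) (𝒰.f V) ≫ 𝒰.f U ≫ pB) ⁻¹ᵁ S.basicOpen (r x)
    have hO : ⨆ x, O x = ⊤ := eq_top_iff.2 fun x _ => Opens.mem_iSup.2 ⟨x, hmem x⟩
    refine (W.openCoverOfIsOpenCover O hO).hom_ext _ _ fun x => ?_
    change (O x).ι ≫ pullback.fst _ _ ≫ _ = (O x).ι ≫ pullback.snd _ _ ≫ _
    let z : ((O x : W.Opens) : Scheme.{u}) ⟶ PB := (O x).ι ≫ pullback.fst _ _ ≫ 𝒰.f U
    have hz : Set.range z.base ⊆ Set.range (pB ⁻¹ᵁ S.basicOpen (r x)).ι.base := by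
      rw [Scheme.Opens.range_ι]
      rintro _ ⟨y, rfl⟩
      exact y.2
    let l := IsOpenImmersion.lift (pB ⁻¹ᵁ S.basicOpen (r x)).ι z hz
    have hl : l ≫ (pB ⁻¹ᵁ S.basicOpen (r x)).ι = z := IsOpenImmersion.lift_fac _ _ _
    have e1 : (O x).ι ≫ pullback.fst _ _ =
        l ≫ PB.homOfLE (pB.preimage_mono (S.basicOpen_le (r x))) := by
      rw [← cancel_mono (pB ⁻¹ᵁ (U : S.Opens)).ι, Category.assoc, Category.assoc,
        Scheme.homOfLE_ι, hl]
      rfl
    have e2 : (O x).ι ≫ pullback.snd _ _ =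
        l ≫ PB.homOfLE (show pB ⁻¹ᵁ S.basicOpen (r x) ≤ pB ⁻¹ᵁ (V : S.Opens) from
          pB.preimage_mono ((he x).le.trans (S.basicOpen_le _))) := by
      rw [← cancel_mono (pB ⁻¹ᵁ (V : S.Opens)).ι, Category.assoc, Category.assoc,
        Scheme.homOfLE_ι, hl]
      exact congrArg ((O x).ι ≫ ·) pullback.condition.symm
    rw [reassoc_of% e1, reassoc_of% e2, chartMap_res hA hB]
    congr 1
    have key : ∀ (D D' : S.Opens) (hD : IsAffineOpen D) (hD' : IsAffineOpen D') (e : D = D')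
        (hle : D' ≤ (V : S.Opens))
        (_ : PB.homOfLE (pB.preimage_mono hle) ≫ chartMap φ hφ hirr chartA chartB V V.2 =
          chartMap φ hφ hirr chartA chartB D' hD'),
        chartMap φ hφ hirr chartA chartB D hD =
          PB.homOfLE (pB.preimage_mono (e.le.trans hle)) ≫ chartMap φ hφ hirr chartA chartB V V.2 := by
      rintro D _ hD hD' rfl hle h
      exact h.symm
    exact key _ _ _ ((V.2).basicOpen (r' x)) (he x) (S.basicOpen_le _) (chartMap_res hA hB V V.2 (r' x))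
  refine ⟨𝒰.glueMorphisms (fun U : S.affineOpens => chartMap φ hφ hirr chartA chartB U U.2) hcompat,
    fun U hU => 𝒰.ι_glueMorphisms _ _ ⟨U, hU⟩, fun h hh => ?_⟩
  refine 𝒰.hom_ext _ _ fun (U : S.affineOpens) => ?_
  rw [Scheme.Cover.ι_glueMorphisms]
  exact hh U.1 U.2

end hom

end Groth.Agent.RelProjLib
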