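import Mathlib
import Groth.Prelude.Def_RelProj4
import Groth.Agent.RelProjLib.Basic

/-!
# The morphism of relative Proj's induced by a graded morphism over a morphism of bases
-/

set_option autoImplicit false
set_option linter.style.haveILetI false
set_option backward.isDefEq.respectTransparency false
set_option backward.defeqAttrib.useBackward true

universe u

open CategoryTheory CategoryTheory.Limits AlgebraicGeometry TopologicalSpace Opposite
open scoped HomogeneousIdeal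

noncomputable section

namespace Groth.Agent.RelProjLib.QMap

section ring

variable {A σ B τ C υ : Type u} [CommRing A] [SetLike σ A] [AddSubgroupClass σ A] {𝒜 : ℕ → σ} [GradedRing 𝒜]
  [CommRing B] [SetLike τ B] [AddSubgroupClass τ B] {ℬ : ℕ → τ} [GradedRing ℬ]
  [CommRing C] [SetLike υ C] [AddSubgroupClass υ C] {𝒞 : ℕ → υ} [GradedRing 𝒞]

lemma away_map_comp (φ : 𝒜 →+*ᵍ ℬ) (ψ : ℬ →+*ᵍ 𝒞) {d : ℕ} {f : A} (hf : f ∈ 𝒜 d) :
    (HomogeneousLocalization.Away.map ψ (φ f)).comp (HomogeneousLocalization.Away.map φ f) =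
      HomogeneousLocalization.Away.map (ψ.comp φ) f := by
  ext x
  obtain ⟨k, a, ha, rfl⟩ := HomogeneousLocalization.Away.mk_surjective 𝒜 hf x
  rw [RingHom.comp_apply, HomogeneousLocalization.Away.map_mk, HomogeneousLocalization.Away.map_mk]
  erw [HomogeneousLocalization.Away.map_mk]
  rfl

lemma away_map_awayMap (φ : 𝒜 →+*ᵍ ℬ) {d d' : ℕ} {f g x : A} (hf : f ∈ 𝒜 d) (hg : g ∈ 𝒜 d')
    (hx : x = f * g) (hx' : φ x = φ f * φ g) :
    (HomogeneousLocalization.Away.map φ x).comp (HomogeneousLocalization.awayMap 𝒜 hg hx) =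
      (HomogeneousLocalization.awayMap ℬ (φ.map_mem hg) hx').comp (HomogeneousLocalization.Away.map φ f) := by
  ext z
  obtain ⟨k, a, ha, rfl⟩ := HomogeneousLocalization.Away.mk_surjective 𝒜 hf z
  rw [RingHom.comp_apply, RingHom.comp_apply, HomogeneousLocalization.awayMap_mk,
    HomogeneousLocalization.Away.map_mk, HomogeneousLocalization.Away.map_mk,
    HomogeneousLocalization.awayMap_mk]
  simp only [HomogeneousLocalization.Away.val_mk, map_mul, map_pow]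
  rfl

lemma exists_homogeneous_of_mem_domOpen (φ : 𝒜 →+*ᵍ ℬ) (y : Proj ℬ) (hy : y ∈ RelCone.domOpen φ) :
    ∃ (d : ℕ) (_ : 0 < d) (f : A), f ∈ 𝒜 d ∧ φ f ∉ y.asHomogeneousIdeal := by
  classical
  obtain ⟨f, hf, hfy⟩ := (RelCone.mem_domOpen φ y).mp hy
  by_contra hcon
  push Not at hcon
  refine hfy ?_
  show φ f ∈ y.asHomogeneousIdeal.toIdeal
  rw [← DirectSum.sum_support_decompose 𝒜 f, map_sum]
  refine Ideal.sum_mem _ fun i _ => ?_
  rcases Nat.eq_zero_or_pos i with rfl | hi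
  · have h := (HomogeneousIdeal.mem_irrelevant_iff 𝒜 f).mp hf
    rw [GradedRing.proj_apply] at h
    rw [h, map_zero]
    exact zero_mem _
  · exact hcon i hi _ (SetLike.coe_mem _)

end ring

variable {S S' : Scheme.{u}} {g : S' ⟶ S} {𝒮 : RelProj.QCGrAlg S} {𝒮' : RelProj.QCGrAlg S'}
  (u : RelProj.QGrHom g 𝒮 𝒮')
  {P : Scheme.{u}} (p : P ⟶ S)
  (chart : ∀ (U : S.Opens) (hU : IsAffineOpen U), (((p ⁻¹ᵁ U : P.Opens) : Scheme.{u}) ≅ Proj (𝒮.deg U hU)))
  {P' : Scheme.{u}} (p' : P' ⟶ S')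
  (chart' : ∀ (U' : S'.Opens) (hU' : IsAffineOpen U'), (((p' ⁻¹ᵁ U' : P'.Opens) : Scheme.{u}) ≅ Proj (𝒮'.deg U' hU')))

/-- An affine pair with a homogeneous element of positive degree. -/
structure Idx where
  U : S.Opens
  hU : IsAffineOpen U
  U' : S'.Opens
  hU' : IsAffineOpen U'
  hle : U' ≤ g ⁻¹ᵁ U
  d : ℕ
  hd : 0 < d
  f : 𝒮.presheaf.obj (op U)
  hf : f ∈ 𝒮.deg U hU d

variable (i : Idx (g := g) (𝒮 := 𝒮))

/-- The chart source. -/
abbrev src : Scheme.{u} :=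
  Spec (CommRingCat.of (HomogeneousLocalization.Away (𝒮'.deg i.U' i.hU') (u.gradedAt i.U i.hU i.U' i.hU' i.hle i.f)))

/-- The standard chart into the source. -/
def cMap : src u i ⟶ P' :=
  RelProj.awayEmb u p' chart' i.U i.hU i.U' i.hU' i.hle i.hd i.f i.hf

/-- The standard chart map into the target. -/
def dMap : src u i ⟶ P :=
  Spec.map (CommRingCat.ofHom (HomogeneousLocalization.Away.map (u.gradedAt i.U i.hU i.U' i.hU' i.hle) i.f)) ≫
    Proj.awayι (𝒮.deg i.U i.hU) i.f i.hf i.hd ≫ RelProj.emb p chart i.U i.hU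

instance (U : S'.Opens) (hU : IsAffineOpen U) : IsOpenImmersion (RelProj.emb p' chart' U hU) :=
  inferInstanceAs (IsOpenImmersion ((chart' U hU).inv ≫ (p' ⁻¹ᵁ U).ι))

instance : IsOpenImmersion (cMap u p' chart' i) :=
  inferInstanceAs (IsOpenImmersion (_ ≫ RelProj.emb p' chart' i.U' i.hU'))

lemma range_cMap :
    Set.range (cMap u p' chart' i).base = (RelProj.emb p' chart' i.U' i.hU').base ''
      (Proj.basicOpen (𝒮'.deg i.U' i.hU') (u.gradedAt i.U i.hU i.U' i.hU' i.hle i.f) : Set _) := by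
  show Set.range (Proj.awayι (𝒮'.deg i.U' i.hU') (u.gradedAt i.U i.hU i.U' i.hU' i.hle i.f)
    ((u.gradedAt i.U i.hU i.U' i.hU' i.hle).map_mem i.hf) i.hd ≫ RelProj.emb p' chart' i.U' i.hU').base = _
  rw [Scheme.Hom.comp_base, TopCat.coe_comp, Set.range_comp]
  congr 1
  rw [← Proj.opensRange_awayι (𝒮'.deg i.U' i.hU') _ _ i.hd]
  rfl

lemma emb_res {T : Scheme.{u}} {𝒯 : RelProj.QCGrAlg T} {Q : Scheme.{u}} {q : Q ⟶ T}
    {ch : ∀ (U : T.Opens) (hU : IsAffineOpen U), (((q ⁻¹ᵁ U : Q.Opens) : Scheme.{u}) ≅ Proj (𝒯.deg U hU))}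
    (hQ : RelProj.IsRelProj 𝒯 q ch) (U : T.Opens) (hU : IsAffineOpen U) (r : Γ(T, U)) :
    Proj.map (𝒯.res hU (hU.basicOpen r) (T.basicOpen_le r)) (𝒯.irrelevant_le_map U hU r) ≫
        RelProj.emb q ch U hU =
      RelProj.emb q ch (T.basicOpen r) (hU.basicOpen r) := by
  show Proj.map _ _ ≫ (ch U hU).inv ≫ (q ⁻¹ᵁ U).ι =
    (ch (T.basicOpen r) (hU.basicOpen r)).inv ≫ (q ⁻¹ᵁ T.basicOpen r).ι
  rw [← cancel_epi (ch (T.basicOpen r) (hU.basicOpen r)).hom, Iso.hom_inv_id_assoc,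
    ← reassoc_of% hQ.chart_res U hU r, Iso.hom_inv_id_assoc, Scheme.homOfLE_ι]

section res

variable (hP : RelProj.IsRelProj 𝒮 p chart) (hP' : RelProj.IsRelProj 𝒮' p' chart')

include hP hP' in
lemma agree_res (D : S.Opens) (hD : IsAffineOpen D) (D' : S'.Opens) (hD' : IsAffineOpen D')
    (hle : D' ≤ g ⁻¹ᵁ D) (r : Γ(S, i.U)) (eD : D = S.basicOpen r) (r' : Γ(S', i.U'))
    (eD' : D' = S'.basicOpen r') (hm : (𝒮.presheaf.map (homOfLE (eD.le.trans (S.basicOpen_le r))).op).hom i.f ∈ 𝒮.deg D hD i.d)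
    {W : Scheme.{u}} (a : W ⟶ src u i)
    (b : W ⟶ src u ⟨D, hD, D', hD', hle, i.d, i.hd, _, hm⟩)
    (hab : a ≫ cMap u p' chart' i = b ≫ cMap u p' chart' ⟨D, hD, D', hD', hle, i.d, i.hd, _, hm⟩) :
    a ≫ dMap u p chart i = b ≫ dMap u p chart ⟨D, hD, D', hD', hle, i.d, i.hd, _, hm⟩ := by
  subst eD eD'
  obtain ⟨U, hU, U', hU', hle₀, d, hd, f, hf⟩ := i
  let ρ := 𝒮.res hU (hU.basicOpen r) (S.basicOpen_le r)
  let ρ' := 𝒮'.res hU' (hU'.basicOpen r') (S'.basicOpen_le r')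
  let ψ := u.gradedAt U hU U' hU' hle₀
  let ψD := u.gradedAt (S.basicOpen r) hD (S'.basicOpen r') hD' hle
  have hχ : ψD.comp ρ = ρ'.comp ψ := by
    refine GradedRingHom.ext fun x => ?_
    have h1 := congrArg (fun t : 𝒮.presheaf.obj (op U) ⟶ 𝒮'.presheaf.obj (op (S'.basicOpen r')) => t.hom x)
      ((u.map_appLE (S.basicOpen_le r) hle).trans (u.appLE_map hle₀ (S'.basicOpen_le r')).symm)
    exact h1
  let F : ∀ χ : 𝒮.deg U hU →+*ᵍ 𝒮'.deg (S'.basicOpen r') hD',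
      Spec (CommRingCat.of (HomogeneousLocalization.Away (𝒮'.deg (S'.basicOpen r') hD') (χ f))) ⟶ P' :=
    fun χ => Proj.awayι _ (χ f) (χ.map_mem hf) hd ≫ RelProj.emb p' chart' (S'.basicOpen r') hD'
  let G : ∀ χ : 𝒮.deg U hU →+*ᵍ 𝒮'.deg (S'.basicOpen r') hD',
      Spec (CommRingCat.of (HomogeneousLocalization.Away (𝒮'.deg (S'.basicOpen r') hD') (χ f))) ⟶ P :=
    fun χ => Spec.map (CommRingCat.ofHom (HomogeneousLocalization.Away.map χ f)) ≫
      Proj.awayι (𝒮.deg U hU) f hf hd ≫ RelProj.emb p chart U hU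
  have hGD : G (ψD.comp ρ) = dMap u p chart ⟨_, hD, _, hD', hle, d, hd, _, hm⟩ := by
    show Spec.map _ ≫ _ = Spec.map _ ≫ Proj.awayι (𝒮.deg (S.basicOpen r) hD) (ρ f) hm hd ≫
      RelProj.emb p chart (S.basicOpen r) hD
    rw [← away_map_comp ρ ψD hf, CommRingCat.ofHom_comp, Spec.map_comp, Category.assoc,
      ← emb_res hP U hU r, Proj.awayι_comp_map_assoc ρ _ hd _ hf]
    rfl
  have hFU : F (ρ'.comp ψ) = Spec.map (CommRingCat.ofHom (HomogeneousLocalization.Away.map ρ' (ψ f))) ≫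
      cMap u p' chart' ⟨U, hU, U', hU', hle₀, d, hd, f, hf⟩ := by
    show Proj.awayι _ (ρ' (ψ f)) _ hd ≫ RelProj.emb p' chart' (S'.basicOpen r') hD' =
      Spec.map _ ≫ Proj.awayι _ (ψ f) _ hd ≫ RelProj.emb p' chart' U' hU'
    rw [← emb_res hP' U' hU' r']
    exact Proj.awayι_comp_map_assoc ρ' _ hd (ψ f) (ψ.map_mem hf) _
  have hGU : G (ρ'.comp ψ) = Spec.map (CommRingCat.ofHom (HomogeneousLocalization.Away.map ρ' (ψ f))) ≫
      dMap u p chart ⟨U, hU, U', hU', hle₀, d, hd, f, hf⟩ := by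
    show Spec.map _ ≫ _ = Spec.map _ ≫ Spec.map _ ≫ Proj.awayι (𝒮.deg U hU) f hf hd ≫ RelProj.emb p chart U hU
    rw [← away_map_comp ψ ρ' hf, CommRingCat.ofHom_comp, Spec.map_comp, Category.assoc]
  have key : ∀ χ, χ = ρ'.comp ψ → ∀ b : W ⟶ _, ∃ b₁ : W ⟶ _,
      b₁ ≫ F (ρ'.comp ψ) = b ≫ F χ ∧ b₁ ≫ G (ρ'.comp ψ) = b ≫ G χ := by
    rintro _ rfl b
    exact ⟨b, rfl, rfl⟩
  obtain ⟨b₁, h1, h2⟩ := key (ψD.comp ρ) hχ b
  rw [hFU] at h1
  rw [hGU, hGD] at h2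
  have ha : a = b₁ ≫ Spec.map (CommRingCat.ofHom (HomogeneousLocalization.Away.map ρ' (ψ f))) := by
    rw [← cancel_mono (cMap u p' chart' ⟨U, hU, U', hU', hle₀, d, hd, f, hf⟩), Category.assoc]
    exact hab.trans h1.symm
  rw [ha, Category.assoc, ← h2]

lemma agree_mul (d' : ℕ) (hd' : 0 < d') (f' : 𝒮.presheaf.obj (op i.U)) (hf' : f' ∈ 𝒮.deg i.U i.hU d')
    {W : Scheme.{u}} (a : W ⟶ src u i) (b : W ⟶ src u { i with d := d', hd := hd', f := f', hf := hf' })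
    (hab : a ≫ cMap u p' chart' i = b ≫ cMap u p' chart' { i with d := d', hd := hd', f := f', hf := hf' }) :
    a ≫ dMap u p chart i = b ≫ dMap u p chart { i with d := d', hd := hd', f := f', hf := hf' } := by
  obtain ⟨U, hU, U', hU', hle, d, hd, f, hf⟩ := i
  let ψ := u.gradedAt U hU U' hU' hle
  have hx : ψ (f * f') = ψ f * ψ f' := map_mul ψ f f'
  have hx2 : f * f' = f' * f := mul_comm _ _
  have hx' : ψ (f * f') = ψ f' * ψ f := hx.trans (mul_comm _ _)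
  have hff : f * f' ∈ 𝒮.deg U hU (d + d') := SetLike.mul_mem_graded hf hf'
  let e := RelProj.emb p' chart' U' hU'
  let w : W ⟶ Proj (𝒮'.deg U' hU') := a ≫ Proj.awayι _ (ψ f) (ψ.map_mem hf) hd
  have hw : w = b ≫ Proj.awayι _ (ψ f') (ψ.map_mem hf') hd' := by
    rw [← cancel_mono e]
    refine (Category.assoc _ _ _).trans (hab.trans (Category.assoc _ _ _).symm)
  have hrange : Set.range w.base ⊆
      Set.range (Proj.awayι (𝒮'.deg U' hU') (ψ (f * f')) (ψ.map_mem hff) (Nat.add_pos_left hd d')).base := by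
    rintro _ ⟨x, rfl⟩
    rw [← Scheme.Hom.coe_opensRange, Proj.opensRange_awayι]
    rw [hx, Proj.basicOpen_mul]
    refine ⟨?_, ?_⟩
    · rw [← Proj.opensRange_awayι _ (ψ f) (ψ.map_mem hf) hd]
      exact ⟨a x, rfl⟩
    · rw [← Proj.opensRange_awayι _ (ψ f') (ψ.map_mem hf') hd', hw]
      exact ⟨b x, rfl⟩
  let l := IsOpenImmersion.lift _ w hrange
  have hl : l ≫ Proj.awayι (𝒮'.deg U' hU') (ψ (f * f')) (ψ.map_mem hff) (Nat.add_pos_left hd d') = w :=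
    IsOpenImmersion.lift_fac _ _ _
  have ha : a = l ≫ Spec.map (CommRingCat.ofHom
      (HomogeneousLocalization.awayMap (𝒮'.deg U' hU') (ψ.map_mem hf') hx)) := by
    rw [← cancel_mono (Proj.awayι _ (ψ f) (ψ.map_mem hf) hd), Category.assoc, Proj.SpecMap_awayMap_awayι]
    exact hl.symm
  have hb : b = l ≫ Spec.map (CommRingCat.ofHom
      (HomogeneousLocalization.awayMap (𝒮'.deg U' hU') (ψ.map_mem hf) hx')) := by
    rw [← cancel_mono (Proj.awayι _ (ψ f') (ψ.map_mem hf') hd'), Category.assoc, Proj.SpecMap_awayMap_awayι,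
      ← hw]
    exact hl.symm
  rw [ha, hb, Category.assoc, Category.assoc]
  congr 1
  show Spec.map _ ≫ Spec.map (CommRingCat.ofHom (HomogeneousLocalization.Away.map ψ f)) ≫ _ ≫ _ =
    Spec.map _ ≫ Spec.map (CommRingCat.ofHom (HomogeneousLocalization.Away.map ψ f')) ≫ _ ≫ _
  rw [← Spec.map_comp_assoc, ← CommRingCat.ofHom_comp, ← away_map_awayMap ψ hf hf' rfl hx,
    ← Spec.map_comp_assoc, ← CommRingCat.ofHom_comp, ← away_map_awayMap ψ hf' hf hx2 hx',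
    CommRingCat.ofHom_comp, CommRingCat.ofHom_comp, Spec.map_comp_assoc, Spec.map_comp_assoc,
    Proj.SpecMap_awayMap_awayι_assoc, Proj.SpecMap_awayMap_awayι_assoc]
  rfl

variable {p chart p' chart'} in
lemma exists_common (i j : Idx (g := g) (𝒮 := 𝒮)) (s : S') (hi : s ∈ i.U') (hj : s ∈ j.U') :
    ∃ (D : S.Opens) (_ : IsAffineOpen D) (D' : S'.Opens) (_ : IsAffineOpen D') (_ : D' ≤ g ⁻¹ᵁ D),
      s ∈ D' ∧ (∃ r : Γ(S, i.U), D = S.basicOpen r) ∧ (∃ r : Γ(S, j.U), D = S.basicOpen r) ∧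
        (∃ r : Γ(S', i.U'), D' = S'.basicOpen r) ∧ ∃ r : Γ(S', j.U'), D' = S'.basicOpen r := by
  obtain ⟨r, t, hrt, hs⟩ := exists_basicOpen_le_affine_inter i.hU j.hU (g s) ⟨i.hle hi, j.hle hj⟩
  obtain ⟨t₀, ht₀, hst₀⟩ := j.hU'.exists_basicOpen_le (V := g ⁻¹ᵁ S.basicOpen r) ⟨s, hs⟩ hj
  obtain ⟨r', t', hrt', hs'⟩ := exists_basicOpen_le_affine_inter i.hU' (j.hU'.basicOpen t₀) s ⟨hi, hst₀⟩
  obtain ⟨t'', ht''⟩ := j.hU'.basicOpen_basicOpen_is_basicOpen t₀ t'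
  refine ⟨S.basicOpen r, i.hU.basicOpen r, S'.basicOpen r', i.hU'.basicOpen r', ?_, hs', ⟨r, rfl⟩, ⟨t, hrt⟩,
    ⟨r', rfl⟩, t'', hrt'.trans ht''.symm⟩
  rw [hrt']
  exact (S'.basicOpen_le t').trans ht₀

include hP' in
lemma mem_range_res (D : S.Opens) (hD : IsAffineOpen D) (D' : S'.Opens) (hD' : IsAffineOpen D')
    (hle : D' ≤ g ⁻¹ᵁ D) (r : Γ(S, i.U)) (eD : D = S.basicOpen r) (r' : Γ(S', i.U'))
    (eD' : D' = S'.basicOpen r') (hm : (𝒮.presheaf.map (homOfLE (eD.le.trans (S.basicOpen_le r))).op).hom i.f ∈ 𝒮.deg D hD i.d)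
    (x : P') (hx : x ∈ Set.range (cMap u p' chart' i).base) (hxD : p' x ∈ D') :
    x ∈ Set.range (cMap u p' chart' ⟨D, hD, D', hD', hle, i.d, i.hd, _, hm⟩).base := by
  subst eD eD'
  rw [range_cMap] at hx ⊢
  obtain ⟨y, hy, rfl⟩ := hx
  let z := (chart' (S'.basicOpen r') hD').hom ⟨_, hxD⟩
  have hz : RelProj.emb p' chart' (S'.basicOpen r') hD' z = RelProj.emb p' chart' i.U' i.hU' y := by
    show ((chart' (S'.basicOpen r') hD').hom ≫ (chart' (S'.basicOpen r') hD').inv ≫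
      (p' ⁻¹ᵁ S'.basicOpen r').ι) ⟨_, hxD⟩ = _
    rw [Iso.hom_inv_id_assoc]
    rfl
  refine ⟨z, ?_, hz⟩
  let ρ' := 𝒮'.res i.hU' (i.hU'.basicOpen r') (S'.basicOpen_le r')
  have hyz : Proj.map ρ' (𝒮'.irrelevant_le_map i.U' i.hU' r') z = y := by
    refine (RelProj.emb p' chart' i.U' i.hU').isOpenEmbedding.injective ?_
    refine Eq.trans ?_ hz
    exact congrArg (fun t : Proj (𝒮'.deg (S'.basicOpen r') hD') ⟶ P' => t z) (emb_res hP' i.U' i.hU' r')
  have h1 : z ∈ Proj.map ρ' (𝒮'.irrelevant_le_map i.U' i.hU' r') ⁻¹ᵁ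
      Proj.basicOpen (𝒮'.deg i.U' i.hU') (u.gradedAt i.U i.hU i.U' i.hU' i.hle i.f) := by
    show Proj.map ρ' _ z ∈ Proj.basicOpen _ _
    rw [hyz]; exact hy
  rw [Proj.map_preimage_basicOpen] at h1
  have h2 := congrArg (fun t : 𝒮.presheaf.obj (op i.U) ⟶ 𝒮'.presheaf.obj (op (S'.basicOpen r')) => t.hom i.f)
    ((u.map_appLE (S.basicOpen_le r) hle).trans (u.appLE_map i.hle (S'.basicOpen_le r')).symm)
  refine (congrArg (fun w => z ∈ Proj.basicOpen (𝒮'.deg (S'.basicOpen r') hD') w) h2).mpr ?_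
  exact h1

include hP hP' in
theorem agree (i j : Idx (g := g) (𝒮 := 𝒮)) {W : Scheme.{u}} (a : W ⟶ src u i) (b : W ⟶ src u j)
    (hab : a ≫ cMap u p' chart' i = b ≫ cMap u p' chart' j) :
    a ≫ dMap u p chart i = b ≫ dMap u p chart j := by
  set w := a ≫ cMap u p' chart' i with hw
  have hp : ∀ (k : Idx (g := g) (𝒮 := 𝒮)) (x : P'), x ∈ Set.range (cMap u p' chart' k).base → p' x ∈ k.U' := by
    rintro k _ ⟨y, rfl⟩
    exact ((chart' k.U' k.hU').inv _).2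
  have hi : ∀ x : W, p' (w x) ∈ i.U' := fun x => hp i _ ⟨a x, rfl⟩
  have hj : ∀ x : W, p' (w x) ∈ j.U' := fun x => hp j _ ⟨b x, by rw [hab]; rfl⟩
  choose D hD D' hD' hle hmem hr ht hr' ht' using fun x => exists_common i j (p' (w x)) (hi x) (hj x)
  let O : W → W.Opens := fun x => w ⁻¹ᵁ (p' ⁻¹ᵁ D' x)
  refine (W.openCoverOfIsOpenCover O (eq_top_iff.2 fun x _ => Opens.mem_iSup.2 ⟨x, hmem x⟩)).hom_ext _ _ fun x => ?_
  change (O x).ι ≫ a ≫ _ = (O x).ι ≫ b ≫ _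
  obtain ⟨r, er⟩ := hr x
  obtain ⟨t, et⟩ := ht x
  obtain ⟨r', er'⟩ := hr' x
  obtain ⟨t', et'⟩ := ht' x
  have hmi := 𝒮.map_mem i.hU (hD x) (er.le.trans (S.basicOpen_le r)) i.hf
  have hmj := 𝒮.map_mem j.hU (hD x) (et.le.trans (S.basicOpen_le t)) j.hf
  have hra : Set.range ((O x).ι ≫ w).base ⊆
      Set.range (cMap u p' chart' ⟨D x, hD x, D' x, hD' x, hle x, i.d, i.hd, _, hmi⟩).base := by
    rintro _ ⟨y, rfl⟩
    exact mem_range_res u p' chart' i hP' _ _ _ _ _ r er r' er' hmi _ ⟨a y.1, rfl⟩ y.2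
  have hrb : Set.range ((O x).ι ≫ w).base ⊆
      Set.range (cMap u p' chart' ⟨D x, hD x, D' x, hD' x, hle x, j.d, j.hd, _, hmj⟩).base := by
    rintro _ ⟨y, rfl⟩
    refine mem_range_res u p' chart' j hP' _ _ _ _ _ t et t' et' hmj _ ⟨b y.1, ?_⟩ y.2
    rw [hab]
    rfl
  let aD := IsOpenImmersion.lift _ _ hra
  let bD := IsOpenImmersion.lift _ _ hrb
  have haD := IsOpenImmersion.lift_fac _ _ hra
  have hbD := IsOpenImmersion.lift_fac _ _ hrb
  have e1 := agree_res u p chart p' chart' i hP hP' _ _ _ _ _ r er r' er' hmi ((O x).ι ≫ a) aD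
    (by rw [Category.assoc, ← hw]; exact haD.symm)
  have e2 := agree_res u p chart p' chart' j hP hP' _ _ _ _ _ t et t' et' hmj ((O x).ι ≫ b) bD
    (by rw [Category.assoc, ← hab]; exact hbD.symm)
  have e3 := agree_mul u p chart p' chart' ⟨D x, hD x, D' x, hD' x, hle x, i.d, i.hd, _, hmi⟩ j.d j.hd _ hmj aD bD
    (haD.trans hbD.symm)
  rw [← Category.assoc, ← Category.assoc, e1, e2, e3]

lemma cMap_mem_domQ (y : src u i) : cMap u p' chart' i y ∈ RelProj.domQ u p' chart' := by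
  have h := RelProj.range_awayEmb_subset_domQ u p' chart' i.U i.hU i.U' i.hU' i.hle i.hd i.f i.hf ⟨y, rfl⟩
  rw [Scheme.Opens.range_ι] at h
  exact h

lemma exists_chart (x : P') (hx : x ∈ RelProj.domQ u p' chart') :
    ∃ i : Idx (g := g) (𝒮 := 𝒮), x ∈ Set.range (cMap u p' chart' i).base := by
  obtain ⟨⟨⟨⟨U, hU⟩, ⟨U', hU'⟩⟩, hle⟩, y, hy, rfl⟩ := Opens.mem_iSup.mp hx
  obtain ⟨d, hd, f, hf, hfy⟩ := exists_homogeneous_of_mem_domOpen _ y hy
  refine ⟨⟨U, hU, U', hU', hle, d, hd, f, hf⟩, ?_⟩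
  rw [range_cMap]
  exact ⟨y, (ProjectiveSpectrum.mem_basicOpen _ _ _).mpr hfy, rfl⟩

/-- The charts lifted to the domain. -/
def lMap : src u i ⟶ (RelProj.domQ u p' chart' : P'.Opens) :=
  IsOpenImmersion.lift (RelProj.domQ u p' chart').ι (cMap u p' chart' i)
    (RelProj.range_awayEmb_subset_domQ u p' chart' i.U i.hU i.U' i.hU' i.hle i.hd i.f i.hf)

@[reassoc (attr := simp)]
lemma lMap_ι : lMap u p' chart' i ≫ (RelProj.domQ u p' chart').ι = cMap u p' chart' i :=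
  IsOpenImmersion.lift_fac _ _ _

instance : IsOpenImmersion (lMap u p' chart' i) :=
  haveI : IsOpenImmersion (lMap u p' chart' i ≫ (RelProj.domQ u p' chart').ι) := by
    rw [lMap_ι]; infer_instance
  IsOpenImmersion.of_comp _ (RelProj.domQ u p' chart').ι

/-- The standard charts cover the domain. -/
def domCover : ((RelProj.domQ u p' chart' : P'.Opens) : Scheme.{u}).OpenCover :=
  Scheme.Cover.mkOfCovers (Idx (g := g) (𝒮 := 𝒮)) (src u) (lMap u p' chart')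
    (fun x => by
      obtain ⟨i, y, hy⟩ := exists_chart u p' chart' x.1 x.2
      refine ⟨i, y, (RelProj.domQ u p' chart').ι.isOpenEmbedding.injective ?_⟩
      exact (congrArg (fun t : src u i ⟶ P' => t y) (lMap_ι u p' chart' i)).trans hy)
    (fun _ => inferInstance)

include hP hP' in
theorem existsUnique_on : ∃! v : ((RelProj.domQ u p' chart' : P'.Opens) : Scheme.{u}) ⟶ P,
    RelProj.IsProjQMapOn u p chart p' chart' (RelProj.domQ u p' chart') v := by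
  let 𝒰 := domCover u p' chart'
  refine ⟨𝒰.glueMorphisms (fun k => dMap u p chart k) (fun k l => ?_), ?_, fun v hv => ?_⟩
  · refine agree u p chart p' chart' hP hP' k l _ _ ?_
    have h := congrArg (· ≫ (RelProj.domQ u p' chart').ι) (pullback.condition (f := 𝒰.f k) (g := 𝒰.f l))
    simp only [Category.assoc] at h
    exact (congrArg (pullback.fst _ _ ≫ ·) (lMap_ι u p' chart' k)).symm.trans
      (h.trans (congrArg (pullback.snd _ _ ≫ ·) (lMap_ι u p' chart' l)))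
  · intro U hU U' hU' hle d hd f hf hW
    exact 𝒰.ι_glueMorphisms _ _ ⟨U, hU, U', hU', hle, d, hd, f, hf⟩
  · refine 𝒰.hom_ext _ _ fun (k : Idx (g := g) (𝒮 := 𝒮)) => ?_
    rw [Scheme.Cover.ι_glueMorphisms]
    exact hv k.U k.hU k.U' k.hU' k.hle k.d k.hd k.f k.hf
      (RelProj.range_awayEmb_subset_domQ u p' chart' k.U k.hU k.U' k.hU' k.hle k.hd k.f k.hf)

lemma awayι_emb {T : Scheme.{u}} {𝒯 : RelProj.QCGrAlg T} {Q : Scheme.{u}} {q : Q ⟶ T}
    {ch : ∀ (U : T.Opens) (hU : IsAffineOpen U), (((q ⁻¹ᵁ U : Q.Opens) : Scheme.{u}) ≅ Proj (𝒯.deg U hU))}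
    (hQ : RelProj.IsRelProj 𝒯 q ch) (U : T.Opens) (hU : IsAffineOpen U) {d : ℕ} (hd : 0 < d)
    (f : 𝒯.presheaf.obj (op U)) (hf : f ∈ 𝒯.deg U hU d) :
    Proj.awayι (𝒯.deg U hU) f hf hd ≫ RelProj.emb q ch U hU ≫ q =
      Spec.map (𝒯.strZero U hU ≫ CommRingCat.ofHom (HomogeneousLocalization.fromZeroRingHom (𝒯.deg U hU) _)) ≫
        hU.fromSpec := by
  show _ ≫ ((ch U hU).inv ≫ (q ⁻¹ᵁ U).ι) ≫ q = _
  rw [Category.assoc, ← hQ.chart_over U hU, Iso.inv_hom_id_assoc, Proj.awayι_toSpecZero_assoc,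
    ← Spec.map_comp_assoc]

include hP hP' in
theorem on_comp {v : ((RelProj.domQ u p' chart' : P'.Opens) : Scheme.{u}) ⟶ P}
    (hv : RelProj.IsProjQMapOn u p chart p' chart' (RelProj.domQ u p' chart') v) :
    v ≫ p = (RelProj.domQ u p' chart').ι ≫ p' ≫ g := by
  refine (domCover u p' chart').hom_ext _ _ fun (k : Idx (g := g) (𝒮 := 𝒮)) => ?_
  show lMap u p' chart' k ≫ v ≫ p = lMap u p' chart' k ≫ _
  have h1 : lMap u p' chart' k ≫ v = dMap u p chart k := hv k.U k.hU k.U' k.hU' k.hle k.d k.hd k.f k.hf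
    (RelProj.range_awayEmb_subset_domQ u p' chart' k.U k.hU k.U' k.hU' k.hle k.hd k.f k.hf)
  rw [reassoc_of% h1, lMap_ι_assoc]
  show _ ≫ _ = (Proj.awayι _ _ _ _ ≫ RelProj.emb p' chart' k.U' k.hU') ≫ p' ≫ g
  simp only [dMap, Category.assoc]
  rw [reassoc_of% awayι_emb hP' k.U' k.hU' k.hd _ _, awayι_emb hP k.U k.hU k.hd k.f k.hf,
    ← k.hU.SpecMap_appLE_fromSpec g k.hU' k.hle, ← Spec.map_comp_assoc, ← Spec.map_comp_assoc]
  congr 2
  ext r
  show (HomogeneousLocalization.Away.map (u.gradedAt k.U k.hU k.U' k.hU' k.hle) k.f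
    (HomogeneousLocalization.fromZeroRingHom (𝒮.deg k.U k.hU) _ ((𝒮.strZero k.U k.hU).hom r))).val = _
  simp only [HomogeneousLocalization.Away.map, HomogeneousLocalization.fromZeroRingHom, RingHom.coe_mk,
    MonoidHom.coe_mk, OneHom.coe_mk]
  erw [HomogeneousLocalization.map_mk]
  rw [HomogeneousLocalization.val_mk]
  have h2 : (u.appLE k.U k.U' k.hle).hom ((𝒮.str.app (op k.U)).hom r) =
      (𝒮'.str.app (op k.U')).hom ((g.appLE k.U k.U' k.hle).hom r) :=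
    congrArg (fun t : Γ(S, k.U) ⟶ 𝒮'.presheaf.obj (op k.U') => t.hom r) (u.str_appLE k.U k.U' k.hle)
  refine Eq.trans ?_ (HomogeneousLocalization.val_mk _).symm
  congr 1
  exact Subtype.ext (map_one (u.gradedAt k.U k.hU k.U' k.hU' k.hle))

end res

end Groth.Agent.RelProjLib.QMap

end
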