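import Mathlib
import Groth.Agent.RelProjLib.QMap

/-!
# The morphism of relative Proj's induced by a graded homomorphism, on its domain
-/

set_option autoImplicit false
set_option linter.style.haveILetI false
set_option backward.isDefEq.respectTransparency false
set_option backward.defeqAttrib.useBackward true

universe u

open CategoryTheory CategoryTheory.Limits AlgebraicGeometry TopologicalSpace Opposite
open scoped HomogeneousIdeal

noncomputable section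

namespace Groth.Agent.RelProjLib.QMap

variable {A σ B τ : Type u} [CommRing A] [SetLike σ A] [AddSubgroupClass σ A] {𝒜 : ℕ → σ} [GradedRing 𝒜]
  [CommRing B] [SetLike τ B] [AddSubgroupClass τ B] {ℬ : ℕ → τ} [GradedRing ℬ]

lemma preimage_basicOpen (φ : 𝒜 →+*ᵍ ℬ) {d e : ℕ} {h f : A} (hh : h ∈ 𝒜 e) (he : 0 < e) (hf : f ∈ 𝒜 d)
    (hd : 0 < d) :
    Proj.awayι ℬ (φ h) (φ.map_mem hh) he ⁻¹ᵁ Proj.basicOpen ℬ (φ f) =
      Spec.map (CommRingCat.ofHom (HomogeneousLocalization.Away.map φ h)) ⁻¹ᵁ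
        (Proj.awayι 𝒜 h hh he ⁻¹ᵁ Proj.basicOpen 𝒜 f) := by
  refine (Proj.awayι_preimage_basicOpen ℬ (φ.map_mem hh) he (φ.map_mem hf) hd).trans ?_
  rw [Proj.awayι_preimage_basicOpen 𝒜 hh he hf hd]
  refine Eq.trans ?_ (PrimeSpectrum.comap_basicOpen (HomogeneousLocalization.Away.map φ h) _).symm
  congr 1
  rw [HomogeneousLocalization.Away.isLocalizationElem, HomogeneousLocalization.Away.isLocalizationElem,
    HomogeneousLocalization.Away.map_mk]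
  ext
  simp only [HomogeneousLocalization.Away.val_mk, map_pow]
  rfl

variable {Y : Scheme.{u}} {𝒜 ℬ : RelProj.QCGrAlg Y} {φ : 𝒜.toQCAlg ⟶ ℬ.toQCAlg} (hφ : RelProj.IsGradedHom φ)

lemma gradedAt_ofHom (U : Y.Opens) (hU : IsAffineOpen U) :
    (RelProj.QGrHom.ofHom φ hφ).gradedAt U hU U hU le_rfl = RelProj.gradedHomAt φ hφ U hU := by
  refine GradedRingHom.ext fun x => ?_
  show (φ.hom.app (op U) ≫ ℬ.presheaf.map (homOfLE (le_refl U)).op).hom x = (φ.hom.app (op U)).hom x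
  have e : (homOfLE (le_refl U)).op = 𝟙 (op U) := rfl
  rw [e, CategoryTheory.Functor.map_id, Category.comp_id]

variable {PA : Scheme.{u}} {pA : PA ⟶ Y}
  {chartA : ∀ (U : Y.Opens) (hU : IsAffineOpen U), (((pA ⁻¹ᵁ U : PA.Opens) : Scheme.{u}) ≅ Proj (𝒜.deg U hU))}
  {PB : Scheme.{u}} {pB : PB ⟶ Y}
  {chartB : ∀ (U : Y.Opens) (hU : IsAffineOpen U), (((pB ⁻¹ᵁ U : PB.Opens) : Scheme.{u}) ≅ Proj (ℬ.deg U hU))}

theorem exists_idx_of_mem (hB : RelProj.IsRelProj ℬ pB chartB) (x : PB)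
    (hx : x ∈ RelProj.domQ (RelProj.QGrHom.ofHom φ hφ) pB chartB) (U : Y.Opens) (hU : IsAffineOpen U)
    (hxU : pB x ∈ U) :
    ∃ (d : ℕ) (hd : 0 < d) (f : 𝒜.presheaf.obj (op U)) (hf : f ∈ 𝒜.deg U hU d),
      x ∈ Set.range (cMap (RelProj.QGrHom.ofHom φ hφ) pB chartB ⟨U, hU, U, hU, le_rfl, d, hd, f, hf⟩).base := by
  classical
  let u := RelProj.QGrHom.ofHom φ hφ
  obtain ⟨i, hi⟩ := exists_chart u pB chartB x hx
  obtain ⟨U₁, hU₁, U₁', hU₁', hle₁, d, hd, h, hh⟩ := i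
  have hxU' : pB x ∈ U₁' := by
    obtain ⟨y, rfl⟩ := hi
    exact ((chartB U₁' hU₁').inv _).2
  obtain ⟨D, hD, D', hD', hle, hxD', ⟨r₁, er₁⟩, ⟨r, er⟩, ⟨r₁', er₁'⟩, ⟨r', er'⟩⟩ :=
    exists_common (⟨U₁, hU₁, U₁', hU₁', hle₁, d, hd, h, hh⟩ : Idx (g := 𝟙 Y) (𝒮 := 𝒜))
      ⟨U, hU, U, hU, le_rfl, d, hd, 0, zero_mem _⟩ (pB x) hxU' hxU
  dsimp only at r₁ er₁ r er r₁' er₁' r' er'
  have hm := 𝒜.map_mem hU₁ hD (er₁.le.trans (Y.basicOpen_le r₁)) hh
  have hxD := mem_range_res u pB chartB ⟨U₁, hU₁, U₁', hU₁', hle₁, d, hd, h, hh⟩ hB D hD D' hD' hle r₁ er₁ r₁'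
    er₁' hm x hi hxD'
  subst er er'
  rw [range_cMap] at hxD
  obtain ⟨z, hz, hzx⟩ := hxD
  set h' : 𝒜.presheaf.obj (op (Y.basicOpen r)) := (𝒜.presheaf.map (homOfLE _).op).hom h
  letI := (𝒜.presheaf.map (homOfLE (Y.basicOpen_le r)).op).hom.toAlgebra
  haveI := 𝒜.isQC U hU r
  obtain ⟨n, a, ha⟩ := IsLocalization.Away.surj ((𝒜.str.app (op U)).hom r) h'
  set ρ := 𝒜.res hU (hU.basicOpen r) (Y.basicOpen_le r)
  set ρ' := ℬ.res hU (hU.basicOpen r') (Y.basicOpen_le r')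
  have ha' : h' * ρ ((𝒜.str.app (op U)).hom r) ^ n = ρ a := ha
  let a' : 𝒜.presheaf.obj (op U) := DirectSum.decompose (𝒜.deg U hU) a d
  have hρa : ρ a' = h' * ρ ((𝒜.str.app (op U)).hom r) ^ n := by
    have hmem : h' * ρ ((𝒜.str.app (op U)).hom r) ^ n ∈ 𝒜.deg (Y.basicOpen r) hD d := by
      have h0 : ρ ((𝒜.str.app (op U)).hom r) ^ n ∈ 𝒜.deg (Y.basicOpen r) hD (n • 0) :=
        SetLike.pow_mem_graded n (ρ.map_mem (𝒜.str_mem U hU r))
      simpa using SetLike.mul_mem_graded hm h0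
    show ρ (DirectSum.decompose (𝒜.deg U hU) a d : 𝒜.presheaf.obj (op U)) = _
    rw [GradedRingHom.map_directSumDecompose, ← ha', DirectSum.decompose_of_mem_same _ hmem]
  refine ⟨d, hd, a', SetLike.coe_mem _, ?_⟩
  rw [range_cMap]
  refine ⟨Proj.map ρ' (ℬ.irrelevant_le_map U hU r') z, ?_, ?_⟩
  · show z ∈ Proj.map ρ' _ ⁻¹ᵁ Proj.basicOpen _ _
    rw [Proj.map_preimage_basicOpen]
    let ψ := u.gradedAt (Y.basicOpen r) hD (Y.basicOpen r') hD' hle
    have key : ρ' (u.gradedAt U hU U hU le_rfl a') = ψ (ρ a') :=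
      congrArg (fun t : 𝒜.presheaf.obj (op U) ⟶ ℬ.presheaf.obj (op (Y.basicOpen r')) => t.hom a')
        ((u.toQHom.appLE_map (le_refl U) (Y.basicOpen_le r')).trans
          (u.toQHom.map_appLE (Y.basicOpen_le r) hle).symm)
    have hu : IsUnit (ψ (ρ ((𝒜.str.app (op U)).hom r) ^ n)) :=
      ((IsLocalization.Away.algebraMap_isUnit (S := 𝒜.presheaf.obj (op (Y.basicOpen r)))
        ((𝒜.str.app (op U)).hom r)).pow n).map ψ.toRingHom
    have hz1 : ψ h' ∉ z.asHomogeneousIdeal := (ProjectiveSpectrum.mem_basicOpen _ _ _).mp hz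
    refine (ProjectiveSpectrum.mem_basicOpen _ _ _).mpr fun hcon => ?_
    have hcon' : ψ (ρ a') ∈ z.asHomogeneousIdeal.toIdeal := key ▸ hcon
    rw [hρa, map_mul] at hcon'
    rcases z.isPrime.mem_or_mem hcon' with h1 | h1
    · exact hz1 h1
    · exact z.isPrime.ne_top (Ideal.eq_top_of_isUnit_mem _ h1 hu)
  · refine Eq.trans ?_ hzx
    exact congrArg (fun t : Proj (ℬ.deg (Y.basicOpen r') hD') ⟶ PB => t z) (emb_res hB U hU r')

theorem domQ_inf (hB : RelProj.IsRelProj ℬ pB chartB) (U : Y.Opens) (hU : IsAffineOpen U) :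
    RelProj.domQ (RelProj.QGrHom.ofHom φ hφ) pB chartB ⊓ pB ⁻¹ᵁ U =
      (RelProj.emb pB chartB U hU) ''ᵁ RelCone.domOpen (RelProj.gradedHomAt φ hφ U hU) := by
  rw [← gradedAt_ofHom hφ U hU]
  refine le_antisymm ?_ ?_
  · rintro x ⟨hx, hxU⟩
    obtain ⟨d, hd, f, hf, hxf⟩ := exists_idx_of_mem hφ hB x hx U hU hxU
    rw [range_cMap] at hxf
    obtain ⟨y, hy, rfl⟩ := hxf
    exact ⟨y, (RelCone.mem_domOpen _ _).mpr ⟨f, HomogeneousIdeal.mem_irrelevant_of_mem _ hd hf,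
      (ProjectiveSpectrum.mem_basicOpen _ _ _).mp hy⟩, rfl⟩
  · rintro _ ⟨y, hy, rfl⟩
    exact ⟨Opens.mem_iSup.mpr ⟨⟨(⟨U, hU⟩, ⟨U, hU⟩), le_rfl⟩, y, hy, rfl⟩, ((chartB U hU).inv y).2⟩

theorem on_preimage (hA : RelProj.IsRelProj 𝒜 pA chartA) (hB : RelProj.IsRelProj ℬ pB chartB)
    {v : ((RelProj.domQ (RelProj.QGrHom.ofHom φ hφ) pB chartB : PB.Opens) : Scheme.{u}) ⟶ PA}
    (hv : RelProj.IsProjQMapOn (RelProj.QGrHom.ofHom φ hφ) pA chartA pB chartB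
      (RelProj.domQ (RelProj.QGrHom.ofHom φ hφ) pB chartB) v)
    (U : Y.Opens) (hU : IsAffineOpen U) (d : ℕ) (hd : 0 < d) (f : 𝒜.presheaf.obj (op U))
    (hf : f ∈ 𝒜.deg U hU d) :
    v ⁻¹ᵁ (Proj.awayι (𝒜.deg U hU) f hf hd ≫ RelProj.emb pA chartA U hU).opensRange =
      (lMap (RelProj.QGrHom.ofHom φ hφ) pB chartB ⟨U, hU, U, hU, le_rfl, d, hd, f, hf⟩).opensRange := by
  let u := RelProj.QGrHom.ofHom φ hφ
  let i : Idx (g := 𝟙 Y) (𝒮 := 𝒜) := ⟨U, hU, U, hU, le_rfl, d, hd, f, hf⟩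
  have hl : ∀ k : Idx (g := 𝟙 Y) (𝒮 := 𝒜), lMap u pB chartB k ≫ v = dMap u pA chartA k := fun k =>
    hv k.U k.hU k.U' k.hU' k.hle k.d k.hd k.f k.hf
      (RelProj.range_awayEmb_subset_domQ u pB chartB k.U k.hU k.U' k.hU' k.hle k.hd k.f k.hf)
  refine le_antisymm ?_ ?_
  · intro x hx
    obtain ⟨w, hw⟩ := hx
    have hxU : pB ((RelProj.domQ u pB chartB).ι x) ∈ U := by
      have h1 : pA (v x) = pB ((RelProj.domQ u pB chartB).ι x) := by
        have := congrArg (fun t : ((RelProj.domQ u pB chartB : PB.Opens) : Scheme.{u}) ⟶ Y => t x)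
          (on_comp u pA chartA pB chartB hA hB hv)
        exact this
      rw [← h1]
      exact (congrArg (fun t => pA t ∈ U) hw).mp ((chartA U hU).inv _).2
    obtain ⟨e, he, h, hh, hxh⟩ := exists_idx_of_mem hφ hB _ x.2 U hU hxU
    obtain ⟨y, hy⟩ := hxh
    let k : Idx (g := 𝟙 Y) (𝒮 := 𝒜) := ⟨U, hU, U, hU, le_rfl, e, he, h, hh⟩
    have hyx : lMap u pB chartB k y = x := by
      refine (RelProj.domQ u pB chartB).ι.isOpenEmbedding.injective ?_
      exact (congrArg (fun t : src u k ⟶ PB => t y) (lMap_ι u pB chartB k)).trans hy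
    have hd1 : dMap u pA chartA k y = v x := by
      rw [← hl k, ← hyx]; rfl
    let ψ := u.gradedAt U hU U hU le_rfl
    have h2 : y ∈ Proj.awayι (ℬ.deg U hU) (ψ h) (ψ.map_mem hh) he ⁻¹ᵁ Proj.basicOpen (ℬ.deg U hU) (ψ f) := by
      rw [preimage_basicOpen ψ hh he hf hd]
      show Proj.awayι (𝒜.deg U hU) h hh he (Spec.map _ y) ∈ Proj.basicOpen (𝒜.deg U hU) f
      rw [← Proj.opensRange_awayι (𝒜.deg U hU) f hf hd]
      refine ⟨w, (RelProj.emb pA chartA U hU).isOpenEmbedding.injective ?_⟩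
      exact hw.trans hd1.symm
    rw [← Proj.opensRange_awayι (ℬ.deg U hU) (ψ f) (ψ.map_mem hf) hd] at h2
    obtain ⟨y', hy'⟩ := h2
    refine ⟨y', (RelProj.domQ u pB chartB).ι.isOpenEmbedding.injective ?_⟩
    refine (congrArg (fun t : src u i ⟶ PB => t y') (lMap_ι u pB chartB i)).trans ?_
    exact (congrArg (fun t => RelProj.emb pB chartB U hU t) hy').trans hy
  · rintro _ ⟨y, rfl⟩
    refine ⟨Spec.map (CommRingCat.ofHom (HomogeneousLocalization.Away.map (u.gradedAt U hU U hU le_rfl) f)) y, ?_⟩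
    exact (congrArg (fun t : src u i ⟶ PA => t y) (hl i)).symm

theorem iSup_chartRange (_hA : RelProj.IsRelProj 𝒜 pA chartA) :
    ⨆ k : Σ (U : Y.affineOpens) (d : {d : ℕ // 0 < d}), 𝒜.deg U.1 U.2 d.1,
      (Proj.awayι (𝒜.deg k.1.1 k.1.2) (k.2.2 : 𝒜.presheaf.obj (op k.1.1)) k.2.2.2 k.2.1.2 ≫
        RelProj.emb pA chartA k.1.1 k.1.2).opensRange = ⊤ := by
  refine top_le_iff.mp fun x _ => ?_
  obtain ⟨U, hU, hxU, -⟩ := exists_isAffineOpen_mem_and_subset (U := (⊤ : Y.Opens))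
    (show pA x ∈ (⊤ : Y.Opens) from trivial)
  let y := (chartA U hU).hom ⟨x, hxU⟩
  have hy : RelProj.emb pA chartA U hU y = x := by
    show ((chartA U hU).hom ≫ (chartA U hU).inv ≫ (pA ⁻¹ᵁ U).ι) ⟨x, hxU⟩ = x
    rw [Iso.hom_inv_id_assoc]
    rfl
  obtain ⟨⟨d, f⟩, w, hw⟩ : ∃ s : Σ d : PNat, 𝒜.deg U hU d,
      ∃ w, Proj.awayι (𝒜.deg U hU) (s.2 : 𝒜.presheaf.obj (op U)) s.2.2 s.1.2 w = y :=
    (Proj.affineOpenCover (𝒜.deg U hU)).openCover.exists_eq y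
  refine Opens.mem_iSup.mpr ⟨⟨⟨U, hU⟩, ⟨d, d.2⟩, f⟩, w, ?_⟩
  exact (congrArg (fun t => RelProj.emb pA chartA U hU t) hw).trans hy

/-- A property local on the target holds for the induced morphism if it holds on the standard charts. -/
theorem of_charts_on (hA : RelProj.IsRelProj 𝒜 pA chartA) (hB : RelProj.IsRelProj ℬ pB chartB)
    {v : ((RelProj.domQ (RelProj.QGrHom.ofHom φ hφ) pB chartB : PB.Opens) : Scheme.{u}) ⟶ PA}
    (hv : RelProj.IsProjQMapOn (RelProj.QGrHom.ofHom φ hφ) pA chartA pB chartB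
      (RelProj.domQ (RelProj.QGrHom.ofHom φ hφ) pB chartB) v)
    (Q : MorphismProperty Scheme.{u}) [IsZariskiLocalAtTarget Q]
    (h : ∀ (U : Y.Opens) (hU : IsAffineOpen U) (d : ℕ) (_ : 0 < d) (f : 𝒜.presheaf.obj (op U))
      (_ : f ∈ 𝒜.deg U hU d),
      Q (Spec.map (CommRingCat.ofHom (HomogeneousLocalization.Away.map (RelProj.gradedHomAt φ hφ U hU) f)))) :
    Q v := by
  refine IsZariskiLocalAtTarget.of_iSup_eq_top
    (fun k : Σ (U : Y.affineOpens) (d : {d : ℕ // 0 < d}), 𝒜.deg U.1 U.2 d.1 =>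
      (Proj.awayι (𝒜.deg k.1.1 k.1.2) (k.2.2 : 𝒜.presheaf.obj (op k.1.1)) k.2.2.2 k.2.1.2 ≫
        RelProj.emb pA chartA k.1.1 k.1.2).opensRange) (iSup_chartRange hA) ?_
  rintro ⟨⟨U, hU⟩, ⟨d, hd⟩, f, hf⟩
  dsimp only
  let u := RelProj.QGrHom.ofHom φ hφ
  let i : Idx (g := 𝟙 Y) (𝒮 := 𝒜) := ⟨U, hU, U, hU, le_rfl, d, hd, f, hf⟩
  set e := Proj.awayι (𝒜.deg U hU) f hf hd ≫ RelProj.emb pA chartA U hU
  set O := e.opensRange
  have hi : lMap u pB chartB i ≫ v = dMap u pA chartA i :=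
    hv U hU U hU le_rfl d hd f hf (RelProj.range_awayEmb_subset_domQ u pB chartB U hU U hU le_rfl hd f hf)
  have hpre : v ⁻¹ᵁ O = (lMap u pB chartB i).opensRange := on_preimage hφ hA hB hv U hU d hd f hf
  have hQ : Q (Spec.map (CommRingCat.ofHom (HomogeneousLocalization.Away.map (u.gradedAt U hU U hU le_rfl) f))) := by
    have key : ∀ χ, χ = RelProj.gradedHomAt φ hφ U hU →
        Q (Spec.map (CommRingCat.ofHom (HomogeneousLocalization.Away.map χ f))) := by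
      rintro _ rfl; exact h U hU d hd f hf
    exact key _ (gradedAt_ofHom hφ U hU)
  have hsq : IsPullback (Spec.map (CommRingCat.ofHom (HomogeneousLocalization.Away.map (u.gradedAt U hU U hU le_rfl) f)))
      (lMap u pB chartB i) e v := IsOpenImmersion.isPullback _ _ _ _ hi hpre
  let a := IsOpenImmersion.isoOfRangeEq (v ⁻¹ᵁ O).ι (lMap u pB chartB i) (by rw [Scheme.Opens.range_ι, hpre]; rfl)
  let b := IsOpenImmersion.isoOfRangeEq O.ι e (by rw [Scheme.Opens.range_ι]; rfl)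
  have hab : v ∣_ O = a.hom ≫ Spec.map (CommRingCat.ofHom
      (HomogeneousLocalization.Away.map (u.gradedAt U hU U hU le_rfl) f)) ≫ b.inv := by
    rw [← cancel_mono O.ι, morphismRestrict_ι, Category.assoc, Category.assoc,
      IsOpenImmersion.isoOfRangeEq_inv_fac, hsq.w, IsOpenImmersion.isoOfRangeEq_hom_fac_assoc]
  rw [hab, MorphismProperty.cancel_left_of_respectsIso (P := Q), MorphismProperty.cancel_right_of_respectsIso (P := Q)]
  exact hQ

/-- Version for an everywhere defined morphism. -/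
theorem of_charts_proj (hA : RelProj.IsRelProj 𝒜 pA chartA) (hB : RelProj.IsRelProj ℬ pB chartB)
    {h : PB ⟶ PA} (hh : RelProj.IsProjQMap (RelProj.QGrHom.ofHom φ hφ) pA chartA pB chartB h)
    (Q : MorphismProperty Scheme.{u}) [IsZariskiLocalAtTarget Q]
    (hQ : ∀ (U : Y.Opens) (hU : IsAffineOpen U) (d : ℕ) (_ : 0 < d) (f : 𝒜.presheaf.obj (op U))
      (_ : f ∈ 𝒜.deg U hU d),
      Q (Spec.map (CommRingCat.ofHom (HomogeneousLocalization.Away.map (RelProj.gradedHomAt φ hφ U hU) f)))) :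
    Q h := by
  haveI : IsIso (RelProj.domQ (RelProj.QGrHom.ofHom φ hφ) pB chartB).ι := by
    haveI : Surjective (RelProj.domQ (RelProj.QGrHom.ofHom φ hφ) pB chartB).ι :=
      ⟨fun x => ⟨⟨x, by rw [hh.1]; trivial⟩, rfl⟩⟩
    exact (isIso_iff_isOpenImmersion_and_surjective _).mpr ⟨inferInstance, inferInstance⟩
  rw [← MorphismProperty.cancel_left_of_respectsIso (P := Q)
    (RelProj.domQ (RelProj.QGrHom.ofHom φ hφ) pB chartB).ι]
  refine of_charts_on hφ hA hB ?_ Q hQ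
  intro U hU U' hU' hle d hd f hf hW
  rw [← Category.assoc, IsOpenImmersion.lift_fac]
  exact hh.2 U hU U' hU' hle d hd f hf

end Groth.Agent.RelProjLib.QMap

end
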