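import Mathlib
import Groth.Agent.RelProjLib.OfHom

/-!
# Charts over a given affine pair, and composition of induced morphisms
-/

set_option autoImplicit false
set_option linter.style.haveILetI false
set_option linter.unusedVariables false
set_option backward.isDefEq.respectTransparency false
set_option backward.defeqAttrib.useBackward true

universe u

open CategoryTheory CategoryTheory.Limits AlgebraicGeometry TopologicalSpace Opposite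
open scoped HomogeneousIdeal

noncomputable section

namespace Groth.Agent.RelProjLib.QMap

section pair

variable {S S' : Scheme.{u}} {g : S' ⟶ S} {𝒮 : RelProj.QCGrAlg S} {𝒮' : RelProj.QCGrAlg S'}
  (u : RelProj.QGrHom g 𝒮 𝒮')
  {P : Scheme.{u}} {p : P ⟶ S}
  {chart : ∀ (U : S.Opens) (hU : IsAffineOpen U), (((p ⁻¹ᵁ U : P.Opens) : Scheme.{u}) ≅ Proj (𝒮.deg U hU))}
  {P' : Scheme.{u}} {p' : P' ⟶ S'}
  {chart' : ∀ (U' : S'.Opens) (hU' : IsAffineOpen U'), (((p' ⁻¹ᵁ U' : P'.Opens) : Scheme.{u}) ≅ Proj (𝒮'.deg U' hU'))}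

theorem exists_idx_pair (hP' : RelProj.IsRelProj 𝒮' p' chart') (x : P') (hx : x ∈ RelProj.domQ u p' chart')
    (U : S.Opens) (hU : IsAffineOpen U) (U' : S'.Opens) (hU' : IsAffineOpen U') (hle₀ : U' ≤ g ⁻¹ᵁ U)
    (hxU : p' x ∈ U') :
    ∃ (d : ℕ) (hd : 0 < d) (f : 𝒮.presheaf.obj (op U)) (hf : f ∈ 𝒮.deg U hU d),
      x ∈ Set.range (cMap u p' chart' ⟨U, hU, U', hU', hle₀, d, hd, f, hf⟩).base := by
  classical
  obtain ⟨i, hi⟩ := exists_chart u p' chart' x hx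
  obtain ⟨U₁, hU₁, U₁', hU₁', hle₁, d, hd, h, hh⟩ := i
  have hxU' : p' x ∈ U₁' := by
    obtain ⟨y, rfl⟩ := hi
    exact ((chart' U₁' hU₁').inv _).2
  obtain ⟨D, hD, D', hD', hle, hxD', ⟨r₁, er₁⟩, ⟨r, er⟩, ⟨r₁', er₁'⟩, ⟨r', er'⟩⟩ :=
    exists_common (⟨U₁, hU₁, U₁', hU₁', hle₁, d, hd, h, hh⟩ : Idx (g := g) (𝒮 := 𝒮))
      ⟨U, hU, U', hU', hle₀, d, hd, 0, zero_mem _⟩ (p' x) hxU' hxU
  dsimp only at r₁ er₁ r er r₁' er₁' r' er'
  have hm := 𝒮.map_mem hU₁ hD (er₁.le.trans (S.basicOpen_le r₁)) hh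
  have hxD := mem_range_res u p' chart' ⟨U₁, hU₁, U₁', hU₁', hle₁, d, hd, h, hh⟩ hP' D hD D' hD' hle r₁ er₁ r₁'
    er₁' hm x hi hxD'
  subst er er'
  rw [range_cMap] at hxD
  obtain ⟨z, hz, hzx⟩ := hxD
  set h' : 𝒮.presheaf.obj (op (S.basicOpen r)) := (𝒮.presheaf.map (homOfLE _).op).hom h
  letI := (𝒮.presheaf.map (homOfLE (S.basicOpen_le r)).op).hom.toAlgebra
  haveI := 𝒮.isQC U hU r
  obtain ⟨n, a, ha⟩ := IsLocalization.Away.surj ((𝒮.str.app (op U)).hom r) h'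
  set ρ := 𝒮.res hU (hU.basicOpen r) (S.basicOpen_le r)
  set ρ' := 𝒮'.res hU' (hU'.basicOpen r') (S'.basicOpen_le r')
  have ha' : h' * ρ ((𝒮.str.app (op U)).hom r) ^ n = ρ a := ha
  let a' : 𝒮.presheaf.obj (op U) := DirectSum.decompose (𝒮.deg U hU) a d
  have hρa : ρ a' = h' * ρ ((𝒮.str.app (op U)).hom r) ^ n := by
    have hmem : h' * ρ ((𝒮.str.app (op U)).hom r) ^ n ∈ 𝒮.deg (S.basicOpen r) hD d := by
      have h0 : ρ ((𝒮.str.app (op U)).hom r) ^ n ∈ 𝒮.deg (S.basicOpen r) hD (n • 0) :=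
        SetLike.pow_mem_graded n (ρ.map_mem (𝒮.str_mem U hU r))
      simpa using SetLike.mul_mem_graded hm h0
    show ρ (DirectSum.decompose (𝒮.deg U hU) a d : 𝒮.presheaf.obj (op U)) = _
    rw [GradedRingHom.map_directSumDecompose, ← ha', DirectSum.decompose_of_mem_same _ hmem]
  refine ⟨d, hd, a', SetLike.coe_mem _, ?_⟩
  rw [range_cMap]
  refine ⟨Proj.map ρ' (𝒮'.irrelevant_le_map U' hU' r') z, ?_, ?_⟩
  · show z ∈ Proj.map ρ' _ ⁻¹ᵁ Proj.basicOpen _ _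
    rw [Proj.map_preimage_basicOpen]
    let ψ := u.gradedAt (S.basicOpen r) hD (S'.basicOpen r') hD' hle
    have key : ρ' (u.gradedAt U hU U' hU' hle₀ a') = ψ (ρ a') :=
      congrArg (fun t : 𝒮.presheaf.obj (op U) ⟶ 𝒮'.presheaf.obj (op (S'.basicOpen r')) => t.hom a')
        ((u.toQHom.appLE_map hle₀ (S'.basicOpen_le r')).trans
          (u.toQHom.map_appLE (S.basicOpen_le r) hle).symm)
    have hu : IsUnit (ψ (ρ ((𝒮.str.app (op U)).hom r) ^ n)) :=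
      ((IsLocalization.Away.algebraMap_isUnit (S := 𝒮.presheaf.obj (op (S.basicOpen r)))
        ((𝒮.str.app (op U)).hom r)).pow n).map ψ.toRingHom
    have hz1 : ψ h' ∉ z.asHomogeneousIdeal := (ProjectiveSpectrum.mem_basicOpen _ _ _).mp hz
    refine (ProjectiveSpectrum.mem_basicOpen _ _ _).mpr fun hcon => ?_
    have hcon' : ψ (ρ a') ∈ z.asHomogeneousIdeal.toIdeal := key ▸ hcon
    rw [hρa, map_mul] at hcon'
    rcases z.isPrime.mem_or_mem hcon' with h1 | h1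
    · exact hz1 h1
    · exact z.isPrime.ne_top (Ideal.eq_top_of_isUnit_mem _ h1 hu)
  · refine Eq.trans ?_ hzx
    exact congrArg (fun t : Proj (𝒮'.deg (S'.basicOpen r') hD') ⟶ P' => t z) (emb_res hP' U' hU' r')

variable {u}

lemma lMap_comp {v : ((RelProj.domQ u p' chart' : P'.Opens) : Scheme.{u}) ⟶ P}
    (hv : RelProj.IsProjQMapOn u p chart p' chart' (RelProj.domQ u p' chart') v) (k : Idx (g := g) (𝒮 := 𝒮)) :
    lMap u p' chart' k ≫ v = dMap u p chart k :=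
  hv k.U k.hU k.U' k.hU' k.hle k.d k.hd k.f k.hf
    (RelProj.range_awayEmb_subset_domQ u p' chart' k.U k.hU k.U' k.hU' k.hle k.hd k.f k.hf)

theorem mem_chart_of_map_mem (hP : RelProj.IsRelProj 𝒮 p chart) (hP' : RelProj.IsRelProj 𝒮' p' chart')
    {v : ((RelProj.domQ u p' chart' : P'.Opens) : Scheme.{u}) ⟶ P}
    (hv : RelProj.IsProjQMapOn u p chart p' chart' (RelProj.domQ u p' chart') v)
    (U : S.Opens) (hU : IsAffineOpen U) (U' : S'.Opens) (hU' : IsAffineOpen U') (hle : U' ≤ g ⁻¹ᵁ U)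
    (d : ℕ) (hd : 0 < d) (f : 𝒮.presheaf.obj (op U)) (hf : f ∈ 𝒮.deg U hU d)
    (x : (RelProj.domQ u p' chart' : P'.Opens)) (hxU : p' x.1 ∈ U')
    (hvx : v x ∈ (Proj.awayι (𝒮.deg U hU) f hf hd ≫ RelProj.emb p chart U hU).opensRange) :
    x.1 ∈ Set.range (cMap u p' chart' ⟨U, hU, U', hU', hle, d, hd, f, hf⟩).base := by
  obtain ⟨w, hw⟩ := hvx
  obtain ⟨e, he, h, hh, y, hy⟩ := exists_idx_pair u hP' x.1 x.2 U hU U' hU' hle hxU
  let k : Idx (g := g) (𝒮 := 𝒮) := ⟨U, hU, U', hU', hle, e, he, h, hh⟩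
  let ψ := u.gradedAt U hU U' hU' hle
  have hyx : lMap u p' chart' k y = x := by
    refine (RelProj.domQ u p' chart').ι.isOpenEmbedding.injective ?_
    exact (congrArg (fun t : src u k ⟶ P' => t y) (lMap_ι u p' chart' k)).trans hy
  have hd1 : dMap u p chart k y = v x := by
    rw [← lMap_comp hv k, ← hyx]; rfl
  have h2 : y ∈ Proj.awayι (𝒮'.deg U' hU') (ψ h) (ψ.map_mem hh) he ⁻¹ᵁ Proj.basicOpen (𝒮'.deg U' hU') (ψ f) := by
    rw [preimage_basicOpen ψ hh he hf hd]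
    show Proj.awayι (𝒮.deg U hU) h hh he (Spec.map _ y) ∈ Proj.basicOpen (𝒮.deg U hU) f
    rw [← Proj.opensRange_awayι (𝒮.deg U hU) f hf hd]
    refine ⟨w, (RelProj.emb p chart U hU).isOpenEmbedding.injective ?_⟩
    exact hw.trans hd1.symm
  rw [range_cMap]
  exact ⟨_, h2, hy⟩

end pair

section comp

variable {S S' S'' : Scheme.{u}} {g : S' ⟶ S} {g' : S'' ⟶ S'} {g'' : S'' ⟶ S}
  {𝒮 : RelProj.QCGrAlg S} {𝒮' : RelProj.QCGrAlg S'} {𝒮'' : RelProj.QCGrAlg S''}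
  {h : RelProj.QGrHom g 𝒮 𝒮'} {k : RelProj.QGrHom g' 𝒮' 𝒮''} {w : RelProj.QGrHom g'' 𝒮 𝒮''}
  {P : Scheme.{u}} {p : P ⟶ S}
  {chart : ∀ (U : S.Opens) (hU : IsAffineOpen U), (((p ⁻¹ᵁ U : P.Opens) : Scheme.{u}) ≅ Proj (𝒮.deg U hU))}
  {P' : Scheme.{u}} {p' : P' ⟶ S'}
  {chart' : ∀ (U' : S'.Opens) (hU' : IsAffineOpen U'), (((p' ⁻¹ᵁ U' : P'.Opens) : Scheme.{u}) ≅ Proj (𝒮'.deg U' hU'))}
  {P'' : Scheme.{u}} {p'' : P'' ⟶ S''}
  {chart'' : ∀ (U'' : S''.Opens) (hU'' : IsAffineOpen U''), (((p'' ⁻¹ᵁ U'' : P''.Opens) : Scheme.{u}) ≅ Proj (𝒮''.deg U'' hU''))}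

/-- `w` is the composite of `h` and `k` on affine triples. -/
def IsComp (h : RelProj.QGrHom g 𝒮 𝒮') (k : RelProj.QGrHom g' 𝒮' 𝒮'') (w : RelProj.QGrHom g'' 𝒮 𝒮'') : Prop :=
  g' ≫ g = g'' ∧ ∀ (U : S.Opens) (_ : IsAffineOpen U) (U' : S'.Opens) (_ : IsAffineOpen U') (U'' : S''.Opens)
    (_ : IsAffineOpen U'') (h₁ : U' ≤ g ⁻¹ᵁ U) (h₂ : U'' ≤ g' ⁻¹ᵁ U')
    (h₃ : U'' ≤ g'' ⁻¹ᵁ U), w.appLE U U'' h₃ = h.appLE U U' h₁ ≫ k.appLE U' U'' h₂

theorem isComp_of_app (e : g' ≫ g = g'')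
    (hw : ∀ (U : S.Opens) (U'' : S''.Opens) (h₃ : U'' ≤ g'' ⁻¹ᵁ U),
      w.appLE U U'' h₃ = h.app U ≫ k.appLE (g ⁻¹ᵁ U) U'' (by subst e; exact h₃)) : IsComp h k w := by
  refine ⟨e, fun U _ U' _ U'' _ h₁ h₂ h₃ => ?_⟩
  rw [hw U U'' h₃, RelSpec.QHom.appLE_eq h.toQHom U U' h₁, Category.assoc, RelSpec.QHom.map_appLE k.toQHom h₁ h₂]

theorem chart_comp₀ (H : IsComp h k w) (U : S.Opens) (hU : IsAffineOpen U) (U' : S'.Opens) (hU' : IsAffineOpen U')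
    (U'' : S''.Opens) (hU'' : IsAffineOpen U'') (h₁ : U' ≤ g ⁻¹ᵁ U) (h₂ : U'' ≤ g' ⁻¹ᵁ U') (h₃ : U'' ≤ g'' ⁻¹ᵁ U)
    (d : ℕ) (hd : 0 < d) (f : 𝒮.presheaf.obj (op U)) (hf : f ∈ 𝒮.deg U hU d) :
    ∃ e : src w ⟨U, hU, U'', hU'', h₃, d, hd, f, hf⟩ ≅
        src k ⟨U', hU', U'', hU'', h₂, d, hd, h.gradedAt U hU U' hU' h₁ f, (h.gradedAt U hU U' hU' h₁).map_mem hf⟩,
      e.hom ≫ cMap k p'' chart'' ⟨U', hU', U'', hU'', h₂, d, hd, h.gradedAt U hU U' hU' h₁ f, (h.gradedAt U hU U' hU' h₁).map_mem hf⟩ =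
          cMap w p'' chart'' ⟨U, hU, U'', hU'', h₃, d, hd, f, hf⟩ := by
  let φ := h.gradedAt U hU U' hU' h₁
  let ψ := k.gradedAt U' hU' U'' hU'' h₂
  have hχ : w.gradedAt U hU U'' hU'' h₃ = ψ.comp φ := by
    refine GradedRingHom.ext fun x => ?_
    exact congrArg (fun t : 𝒮.presheaf.obj (op U) ⟶ 𝒮''.presheaf.obj (op U'') => t.hom x) (H.2 U hU U' hU' U'' hU'' h₁ h₂ h₃)
  let F : ∀ χ : 𝒮.deg U hU →+*ᵍ 𝒮''.deg U'' hU'',
      Spec (CommRingCat.of (HomogeneousLocalization.Away (𝒮''.deg U'' hU'') (χ f))) ⟶ P'' :=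
    fun χ => Proj.awayι _ (χ f) (χ.map_mem hf) hd ≫ RelProj.emb p'' chart'' U'' hU''
  have key : ∀ χ, χ = ψ.comp φ → ∃ e : Spec (CommRingCat.of (HomogeneousLocalization.Away (𝒮''.deg U'' hU'') (χ f))) ≅
      Spec (CommRingCat.of (HomogeneousLocalization.Away (𝒮''.deg U'' hU'') ((ψ.comp φ) f))),
      e.hom ≫ F (ψ.comp φ) = F χ := by
    rintro _ rfl
    exact ⟨Iso.refl _, Category.id_comp _⟩
  exact key _ hχ

theorem chart_comp (H : IsComp h k w) (U : S.Opens) (hU : IsAffineOpen U) (U' : S'.Opens) (hU' : IsAffineOpen U')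
    (U'' : S''.Opens) (hU'' : IsAffineOpen U'') (h₁ : U' ≤ g ⁻¹ᵁ U) (h₂ : U'' ≤ g' ⁻¹ᵁ U') (h₃ : U'' ≤ g'' ⁻¹ᵁ U)
    (d : ℕ) (hd : 0 < d) (f : 𝒮.presheaf.obj (op U)) (hf : f ∈ 𝒮.deg U hU d) :
    ∃ e : src w ⟨U, hU, U'', hU'', h₃, d, hd, f, hf⟩ ≅
        src k ⟨U', hU', U'', hU'', h₂, d, hd, h.gradedAt U hU U' hU' h₁ f, (h.gradedAt U hU U' hU' h₁).map_mem hf⟩,
      e.hom ≫ cMap k p'' chart'' ⟨U', hU', U'', hU'', h₂, d, hd, h.gradedAt U hU U' hU' h₁ f, (h.gradedAt U hU U' hU' h₁).map_mem hf⟩ =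
          cMap w p'' chart'' ⟨U, hU, U'', hU'', h₃, d, hd, f, hf⟩ ∧
      e.hom ≫ Spec.map (CommRingCat.ofHom (HomogeneousLocalization.Away.map (k.gradedAt U' hU' U'' hU'' h₂)
          (h.gradedAt U hU U' hU' h₁ f))) ≫ dMap h p chart ⟨U, hU, U', hU', h₁, d, hd, f, hf⟩ =
          dMap w p chart ⟨U, hU, U'', hU'', h₃, d, hd, f, hf⟩ := by
  let φ := h.gradedAt U hU U' hU' h₁
  let ψ := k.gradedAt U' hU' U'' hU'' h₂
  have hχ : w.gradedAt U hU U'' hU'' h₃ = ψ.comp φ := by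
    refine GradedRingHom.ext fun x => ?_
    exact congrArg (fun t : 𝒮.presheaf.obj (op U) ⟶ 𝒮''.presheaf.obj (op U'') => t.hom x) (H.2 U hU U' hU' U'' hU'' h₁ h₂ h₃)
  let F : ∀ χ : 𝒮.deg U hU →+*ᵍ 𝒮''.deg U'' hU'',
      Spec (CommRingCat.of (HomogeneousLocalization.Away (𝒮''.deg U'' hU'') (χ f))) ⟶ P'' :=
    fun χ => Proj.awayι _ (χ f) (χ.map_mem hf) hd ≫ RelProj.emb p'' chart'' U'' hU''
  let G : ∀ χ : 𝒮.deg U hU →+*ᵍ 𝒮''.deg U'' hU'',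
      Spec (CommRingCat.of (HomogeneousLocalization.Away (𝒮''.deg U'' hU'') (χ f))) ⟶ P :=
    fun χ => Spec.map (CommRingCat.ofHom (HomogeneousLocalization.Away.map χ f)) ≫
      Proj.awayι (𝒮.deg U hU) f hf hd ≫ RelProj.emb p chart U hU
  have key : ∀ χ, χ = ψ.comp φ → ∃ e : Spec (CommRingCat.of (HomogeneousLocalization.Away (𝒮''.deg U'' hU'') (χ f))) ≅
      Spec (CommRingCat.of (HomogeneousLocalization.Away (𝒮''.deg U'' hU'') ((ψ.comp φ) f))),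
      e.hom ≫ F (ψ.comp φ) = F χ ∧ e.hom ≫ G (ψ.comp φ) = G χ := by
    rintro _ rfl
    exact ⟨Iso.refl _, Category.id_comp _, Category.id_comp _⟩
  obtain ⟨e, h1, h2⟩ := key _ hχ
  refine ⟨e, h1, Eq.trans ?_ h2⟩
  refine congrArg (e.hom ≫ ·) ?_
  show Spec.map _ ≫ Spec.map _ ≫ _ = Spec.map _ ≫ _
  rw [← Spec.map_comp_assoc, ← CommRingCat.ofHom_comp, away_map_comp φ ψ hf]

variable (p'' chart'') in
/-- The part of the domain of `k` mapped into the domain of `h`. -/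
def compDom (vk : ((RelProj.domQ k p'' chart'' : P''.Opens) : Scheme.{u}) ⟶ P') (W : P'.Opens) : P''.Opens :=
  (RelProj.domQ k p'' chart'').ι ''ᵁ (vk ⁻¹ᵁ W)

theorem domQ_comp (H : IsComp h k w) (hP' : RelProj.IsRelProj 𝒮' p' chart') (hP'' : RelProj.IsRelProj 𝒮'' p'' chart'')
    {vk : ((RelProj.domQ k p'' chart'' : P''.Opens) : Scheme.{u}) ⟶ P'}
    (hk : RelProj.IsProjQMapOn k p' chart' p'' chart'' (RelProj.domQ k p'' chart'') vk) :
    compDom p'' chart'' vk (RelProj.domQ h p' chart') = RelProj.domQ w p'' chart'' := by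
  refine le_antisymm ?_ ?_
  · rintro _ ⟨x, hx, rfl⟩
    obtain ⟨⟨U, hU, U', hU', h₁, d, hd, f, hf⟩, hi⟩ := exists_chart h p' chart' (vk x) hx
    have hg : p' (vk x) = g' (p'' x.1) := by
      have := congrArg (fun t : ((RelProj.domQ k p'' chart'' : P''.Opens) : Scheme.{u}) ⟶ S' => t x)
        (on_comp k p' chart' p'' chart'' hP' hP'' hk)
      exact this
    have hgU : g' (p'' x.1) ∈ U' := by
      rw [← hg]
      obtain ⟨y, hy⟩ := hi
      exact (congrArg (fun t => p' t ∈ U') hy).mp ((chart' U' hU').inv _).2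
    obtain ⟨U'', hU'', hxU'', h₂⟩ := exists_isAffineOpen_mem_and_subset (U := g' ⁻¹ᵁ U')
      (show p'' x.1 ∈ g' ⁻¹ᵁ U' from hgU)
    have hxk := mem_chart_of_map_mem hP' hP'' hk U' hU' U'' hU'' h₂ d hd (h.gradedAt U hU U' hU' h₁ f)
      ((h.gradedAt U hU U' hU' h₁).map_mem hf) x hxU'' hi
    have h₃ : U'' ≤ g'' ⁻¹ᵁ U := by
      rw [← H.1]
      exact le_trans h₂ (g'.preimage_mono h₁)
    obtain ⟨e, he⟩ := chart_comp₀ (p'' := p'') (chart'' := chart'') H U hU U' hU' U''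
      hU'' h₁ h₂ h₃ d hd f hf
    obtain ⟨y, hy⟩ := hxk
    show x.1 ∈ RelProj.domQ w p'' chart''
    have he' : e.inv ≫ cMap w p'' chart'' ⟨U, hU, U'', hU'', h₃, d, hd, f, hf⟩ =
        cMap k p'' chart'' ⟨U', hU', U'', hU'', h₂, d, hd, h.gradedAt U hU U' hU' h₁ f,
          (h.gradedAt U hU U' hU' h₁).map_mem hf⟩ := by
      rw [← he, Iso.inv_hom_id_assoc]
    rw [← hy, ← he', Scheme.Hom.comp_base, TopCat.comp_app]
    exact cMap_mem_domQ w p'' chart'' _ _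
  · intro x hx
    obtain ⟨⟨U, hU, U'', hU'', h₃, d, hd, f, hf⟩, y, rfl⟩ := exists_chart w p'' chart'' x hx
    set x := cMap w p'' chart'' ⟨U, hU, U'', hU'', h₃, d, hd, f, hf⟩ y
    have hxU'' : p'' x ∈ U'' := ((chart'' U'' hU'').inv _).2
    have hgx : g (g' (p'' x)) ∈ U := by
      have := h₃ hxU''
      rw [← H.1] at this
      exact this
    obtain ⟨U', hU', hxU', h₁⟩ := exists_isAffineOpen_mem_and_subset (U := g ⁻¹ᵁ U)
      (show g' (p'' x) ∈ g ⁻¹ᵁ U from hgx)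
    obtain ⟨r, hr, hxr⟩ := hU''.exists_basicOpen_le (V := g' ⁻¹ᵁ U') ⟨_, hxU'⟩ hxU''
    have h₃' : S''.basicOpen r ≤ g'' ⁻¹ᵁ U := le_trans (S''.basicOpen_le r) h₃
    have hx' : x ∈ Set.range (cMap w p'' chart'' ⟨U, hU, S''.basicOpen r, hU''.basicOpen r, h₃', d, hd, f, hf⟩).base := by
      rw [range_cMap]
      let z := (chart'' (S''.basicOpen r) (hU''.basicOpen r)).hom ⟨x, hxr⟩
      have hz : RelProj.emb p'' chart'' (S''.basicOpen r) (hU''.basicOpen r) z = x := by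
        show ((chart'' (S''.basicOpen r) (hU''.basicOpen r)).hom ≫ (chart'' (S''.basicOpen r) (hU''.basicOpen r)).inv ≫
          (p'' ⁻¹ᵁ S''.basicOpen r).ι) ⟨x, hxr⟩ = x
        rw [Iso.hom_inv_id_assoc]
        rfl
      refine ⟨z, ?_, hz⟩
      let ρ := 𝒮''.res hU'' (hU''.basicOpen r) (S''.basicOpen_le r)
      obtain ⟨y₀, hy₀, hy₀x⟩ : x ∈ (RelProj.emb p'' chart'' U'' hU'').base ''
          (Proj.basicOpen (𝒮''.deg U'' hU'') (w.gradedAt U hU U'' hU'' h₃ f) : Set _) := by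
        rw [← range_cMap w p'' chart'' ⟨U, hU, U'', hU'', h₃, d, hd, f, hf⟩]
        exact ⟨y, rfl⟩
      have hzy : Proj.map ρ (𝒮''.irrelevant_le_map U'' hU'' r) z = y₀ := by
        refine (RelProj.emb p'' chart'' U'' hU'').isOpenEmbedding.injective ?_
        refine Eq.trans ?_ (hz.trans hy₀x.symm)
        exact congrArg (fun t : Proj (𝒮''.deg (S''.basicOpen r) (hU''.basicOpen r)) ⟶ P'' => t z) (emb_res hP'' U'' hU'' r)
      have h1 : z ∈ Proj.map ρ (𝒮''.irrelevant_le_map U'' hU'' r) ⁻¹ᵁ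
          Proj.basicOpen (𝒮''.deg U'' hU'') (w.gradedAt U hU U'' hU'' h₃ f) := by
        show Proj.map ρ _ z ∈ Proj.basicOpen _ _
        rw [hzy]; exact hy₀
      rw [Proj.map_preimage_basicOpen] at h1
      have h2 := congrArg (fun t : 𝒮.presheaf.obj (op U) ⟶ 𝒮''.presheaf.obj (op (S''.basicOpen r)) => t.hom f)
        (w.toQHom.appLE_map h₃ (S''.basicOpen_le r))
      refine (congrArg (fun v => z ∈ Proj.basicOpen (𝒮''.deg (S''.basicOpen r) (hU''.basicOpen r)) v) h2).mp ?_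
      exact h1
    obtain ⟨e, he⟩ := chart_comp₀ (p'' := p'') (chart'' := chart'') H U hU U' hU'
      (S''.basicOpen r) (hU''.basicOpen r) h₁ hr h₃' d hd f hf
    obtain ⟨y', hy'⟩ := hx'
    let j : Idx (g := g') (𝒮 := 𝒮') := ⟨U', hU', S''.basicOpen r, hU''.basicOpen r, hr, d, hd,
      h.gradedAt U hU U' hU' h₁ f, (h.gradedAt U hU U' hU' h₁).map_mem hf⟩
    refine ⟨lMap k p'' chart'' j (e.hom y'), ?_, ?_⟩
    · show vk (lMap k p'' chart'' j (e.hom y')) ∈ RelProj.domQ h p' chart'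
      have h4 : vk (lMap k p'' chart'' j (e.hom y')) = dMap k p' chart' j (e.hom y') :=
        congrArg (fun t : src k j ⟶ P' => t (e.hom y')) (lMap_comp hk j)
      rw [h4]
      exact cMap_mem_domQ h p' chart' ⟨U, hU, U', hU', h₁, d, hd, f, hf⟩ _
    · refine (congrArg (fun t : src k j ⟶ P'' => t (e.hom y')) (lMap_ι k p'' chart'' j)).trans ?_
      refine Eq.trans ?_ hy'
      exact congrArg (fun t : src w _ ⟶ P'' => t y') he

theorem comp_eq' (H : IsComp h k w) (hP : RelProj.IsRelProj 𝒮 p chart) (hP' : RelProj.IsRelProj 𝒮' p' chart')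
    (hP'' : RelProj.IsRelProj 𝒮'' p'' chart'')
    {vh : ((RelProj.domQ h p' chart' : P'.Opens) : Scheme.{u}) ⟶ P}
    (hh : RelProj.IsProjQMapOn h p chart p' chart' (RelProj.domQ h p' chart') vh)
    {vk : ((RelProj.domQ k p'' chart'' : P''.Opens) : Scheme.{u}) ⟶ P'}
    (hk : RelProj.IsProjQMapOn k p' chart' p'' chart'' (RelProj.domQ k p'' chart'') vk)
    {vw : ((RelProj.domQ w p'' chart'' : P''.Opens) : Scheme.{u}) ⟶ P}
    (hw : RelProj.IsProjQMapOn w p chart p'' chart'' (RelProj.domQ w p'' chart'') vw)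
    {T : Scheme.{u}} (a : T ⟶ (RelProj.domQ k p'' chart'' : P''.Opens))
    (b : T ⟶ (RelProj.domQ h p' chart' : P'.Opens))
    (c : T ⟶ (RelProj.domQ w p'' chart'' : P''.Opens))
    (hab : a ≫ vk = b ≫ (RelProj.domQ h p' chart').ι)
    (hac : a ≫ (RelProj.domQ k p'' chart'').ι = c ≫ (RelProj.domQ w p'' chart'').ι) :
    b ≫ vh = c ≫ vw := by
  have hpt : ∀ t : T, ∃ (i : Idx (g := g) (𝒮 := 𝒮)) (U'' : S''.Opens) (_ : IsAffineOpen U'')
      (_ : U'' ≤ g' ⁻¹ᵁ i.U'), p'' (a t).1 ∈ U'' ∧ (b t).1 ∈ Set.range (cMap h p' chart' i).base := by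
    intro t
    obtain ⟨i, hi⟩ := exists_chart h p' chart' (b t).1 (b t).2
    have hg : p' (vk (a t)) = g' (p'' (a t).1) :=
      congrArg (fun s : ((RelProj.domQ k p'' chart'' : P''.Opens) : Scheme.{u}) ⟶ S' => s (a t))
        (on_comp k p' chart' p'' chart'' hP' hP'' hk)
    have hvb : vk (a t) = (b t).1 := congrArg (fun s : T ⟶ P' => s t) hab
    have hgU : g' (p'' (a t).1) ∈ i.U' := by
      rw [← hg, hvb]
      obtain ⟨y, hy⟩ := hi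
      exact (congrArg (fun s => p' s ∈ i.U') hy).mp ((chart' i.U' i.hU').inv _).2
    obtain ⟨U'', hU'', hxU'', h₂⟩ := exists_isAffineOpen_mem_and_subset (U := g' ⁻¹ᵁ i.U')
      (show p'' (a t).1 ∈ g' ⁻¹ᵁ i.U' from hgU)
    exact ⟨i, U'', hU'', h₂, hxU'', hi⟩
  choose I V hV hVle hmemV hmemI using hpt
  let O : T → T.Opens := fun t =>
    (b ≫ (RelProj.domQ h p' chart').ι) ⁻¹ᵁ (cMap h p' chart' (I t)).opensRange ⊓
      (a ≫ (RelProj.domQ k p'' chart'').ι ≫ p'') ⁻¹ᵁ V t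
  refine (T.openCoverOfIsOpenCover O (eq_top_iff.2 fun t _ =>
    Opens.mem_iSup.2 ⟨t, hmemI t, hmemV t⟩)).hom_ext _ _ fun t => ?_
  change (O t).ι ≫ b ≫ vh = (O t).ι ≫ c ≫ vw
  set i := I t
  let j : Idx (g := g') (𝒮 := 𝒮') := ⟨i.U', i.hU', V t, hV t, hVle t, i.d, i.hd,
    h.gradedAt i.U i.hU i.U' i.hU' i.hle i.f, (h.gradedAt i.U i.hU i.U' i.hU' i.hle).map_mem i.hf⟩
  have h₃ : V t ≤ g'' ⁻¹ᵁ i.U := by
    rw [← H.1]
    exact le_trans (hVle t) (g'.preimage_mono i.hle)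
  have hr : Set.range ((O t).ι ≫ a).base ⊆ Set.range (lMap k p'' chart'' j).base := by
    rintro _ ⟨s, rfl⟩
    have hs1 : vk (a s.1) ∈ (cMap h p' chart' i).opensRange := by
      rw [show vk (a s.1) = (b s.1).1 from congrArg (fun q : T ⟶ P' => q s.1) hab]
      exact s.2.1
    obtain ⟨y, hy⟩ := mem_chart_of_map_mem hP' hP'' hk i.U' i.hU' (V t) (hV t) (hVle t) i.d i.hd _ j.hf (a s.1) s.2.2 hs1
    refine ⟨y, (RelProj.domQ k p'' chart'').ι.isOpenEmbedding.injective ?_⟩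
    exact (congrArg (fun q : src k j ⟶ P'' => q y) (lMap_ι k p'' chart'' j)).trans hy
  let l := IsOpenImmersion.lift _ _ hr
  have hl : l ≫ lMap k p'' chart'' j = (O t).ι ≫ a := IsOpenImmersion.lift_fac _ _ _
  obtain ⟨e, he1, he2⟩ := chart_comp (p := p) (chart := chart) (p'' := p'') (chart'' := chart'') H i.U i.hU i.U'
    i.hU' (V t) (hV t) i.hle (hVle t) h₃ i.d i.hd i.f i.hf
  let iw : Idx (g := g'') (𝒮 := 𝒮) := ⟨i.U, i.hU, V t, hV t, h₃, i.d, i.hd, i.f, i.hf⟩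
  let m := Spec.map (CommRingCat.ofHom (HomogeneousLocalization.Away.map
    (k.gradedAt i.U' i.hU' (V t) (hV t) (hVle t)) (h.gradedAt i.U i.hU i.U' i.hU' i.hle i.f)))
  have hm : dMap k p' chart' j = m ≫ cMap h p' chart' i := rfl
  have hb : (O t).ι ≫ b = l ≫ m ≫ lMap h p' chart' i := by
    rw [← cancel_mono (RelProj.domQ h p' chart').ι]
    simp only [Category.assoc, lMap_ι]
    rw [← hab, ← reassoc_of% hl, lMap_comp hk j, hm]
  have hc : (O t).ι ≫ c = (l ≫ e.inv) ≫ lMap w p'' chart'' iw := by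
    rw [← cancel_mono (RelProj.domQ w p'' chart'').ι]
    simp only [Category.assoc, lMap_ι]
    rw [← hac, ← reassoc_of% hl, lMap_ι]
    congr 1
    rw [← he1, Iso.inv_hom_id_assoc]
  rw [reassoc_of% hb, reassoc_of% hc, lMap_comp hh i, lMap_comp hw iw]
  congr 1
  rw [← he2, Iso.inv_hom_id_assoc]

theorem isComp_ofHom_left {𝒯 : RelProj.QCGrAlg S} {v : 𝒯.toQCAlg ⟶ 𝒮.toQCAlg} (hv : RelProj.IsGradedHom v)
    (u : RelProj.QGrHom g 𝒮 𝒮') (u' : RelProj.QGrHom g 𝒯 𝒮')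
    (hu' : ∀ U : S.Opens, u'.app U = v.hom.app (op U) ≫ u.app U) :
    IsComp (RelProj.QGrHom.ofHom v hv) u u' := by
  refine isComp_of_app (Category.comp_id g) fun U U'' h₃ => ?_
  show u'.app U ≫ _ = v.hom.app (op U) ≫ u.app U ≫ _
  rw [hu', Category.assoc]

theorem isComp_ofHom_right {𝒯 : RelProj.QCGrAlg S'} {v : 𝒮'.toQCAlg ⟶ 𝒯.toQCAlg} (hv : RelProj.IsGradedHom v)
    (u : RelProj.QGrHom g 𝒮 𝒮') (u' : RelProj.QGrHom g 𝒮 𝒯)
    (hu' : ∀ U : S.Opens, u'.app U = u.app U ≫ v.hom.app (op (g ⁻¹ᵁ U))) :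
    IsComp u (RelProj.QGrHom.ofHom v hv) u' := by
  refine isComp_of_app (Category.id_comp g) fun U U'' h₃ => ?_
  show u'.app U ≫ _ = u.app U ≫ v.hom.app (op (g ⁻¹ᵁ U)) ≫ _
  rw [hu', Category.assoc]

end comp

end Groth.Agent.RelProjLib.QMap

end
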