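import Groth.Agent.RelSpecLib.SymInv
import Groth.Agent.RelProjLib.QComp
import Groth.Agent.ParaFLib.Stalk

/-! The morphism attached to an invertible module: opens of non-vanishing. -/

set_option autoImplicit false
set_option linter.style.haveILetI false
set_option backward.isDefEq.respectTransparency false

universe u

open CategoryTheory AlgebraicGeometry TopologicalSpace Opposite
open Groth.Agent.ParaFLib Groth.Agent.RelSpecLib

noncomputable section

namespace Groth.Agent.RelProjLib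

theorem mem_asIdeal_toSpecZero {A σ : Type u} [CommRing A] [SetLike σ A] [AddSubgroupClass σ A] {𝒜 : ℕ → σ}
    [GradedRing 𝒜] (y : Proj 𝒜) (a : 𝒜 0) :
    Proj.toSpecZero 𝒜 y ∈ (PrimeSpectrum.basicOpen a : TopologicalSpace.Opens (PrimeSpectrum (𝒜 0))) ↔
      a.1 ∉ (y : ProjectiveSpectrum 𝒜).asHomogeneousIdeal := by
  obtain ⟨d, f, hd, hf, hfy⟩ := Groth.Agent.ProjRed.exists_not_mem y
  obtain ⟨q, rfl⟩ : y ∈ (Proj.awayι 𝒜 f hf hd).opensRange := by
    rw [Proj.opensRange_awayι]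
    exact hfy
  have hg : a.1 * f ∈ 𝒜 d := by simpa using SetLike.mul_mem_graded a.2 hf
  have h1 : Proj.awayι 𝒜 f hf hd q ∈ Proj.basicOpen 𝒜 (a.1 * f) ↔
      q ∈ PrimeSpectrum.basicOpen (HomogeneousLocalization.Away.isLocalizationElem hf hg) :=
    SetLike.ext_iff.1 (Proj.awayι_preimage_basicOpen 𝒜 hf hd hg hd) q
  have h2 : HomogeneousLocalization.Away.isLocalizationElem hf hg =
      HomogeneousLocalization.fromZeroRingHom 𝒜 (Submonoid.powers f) a ^ d := by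
    refine HomogeneousLocalization.val_injective _ ?_
    rw [HomogeneousLocalization.val_pow]
    show Localization.mk ((a.1 * f) ^ d) _ = Localization.mk a.1 1 ^ d
    rw [Localization.mk_pow, Localization.mk_eq_mk_iff, Localization.r_iff_exists]
    refine ⟨1, ?_⟩
    simp [mul_pow, mul_comm]
  rw [h2, PrimeSpectrum.basicOpen_pow _ _ hd] at h1
  refine Iff.trans ?_ (h1.symm.trans ((ProjectiveSpectrum.mem_basicOpen _ _ _).trans (not_congr ⟨fun h =>
    ((Proj.awayι 𝒜 f hf hd q : ProjectiveSpectrum 𝒜).isPrime.mem_or_mem h).resolve_right hfy,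
    fun h => Ideal.mul_mem_right _ _ h⟩)))
  show (Proj.awayι 𝒜 f hf hd ≫ Proj.toSpecZero 𝒜) q ∈ PrimeSpectrum.basicOpen a ↔ _
  rw [Proj.awayι_toSpecZero]
  exact Iff.rfl

variable {X : Scheme.{u}} {𝒮L : RelProj.QCGrAlg X} {PL : Scheme.{u}} {pL : PL ⟶ X}
  {chartL : ∀ (U : X.Opens) (hU : IsAffineOpen U), (((pL ⁻¹ᵁ U : PL.Opens) : Scheme.{u}) ≅ Proj (𝒮L.deg U hU))}

theorem str_mem_asHomogeneousIdeal (V : X.Opens) (hV : IsAffineOpen V) (hPL : RelProj.IsRelProj 𝒮L pL chartL)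
    (y : Proj (𝒮L.deg V hV)) (r : Γ(X, V)) :
    (RelProj.emb pL chartL V hV ≫ pL) y ∈ X.basicOpen r ↔
      (𝒮L.str.app (op V)).hom r ∉ (y : ProjectiveSpectrum (𝒮L.deg V hV)).asHomogeneousIdeal := by
  have h : RelProj.emb pL chartL V hV ≫ pL =
      Proj.toSpecZero (𝒮L.deg V hV) ≫ Spec.map (𝒮L.strZero V hV) ≫ hV.fromSpec := by
    show ((chartL V hV).inv ≫ (pL ⁻¹ᵁ V).ι) ≫ pL = _
    rw [Category.assoc, ← hPL.chart_over V hV, Iso.inv_hom_id_assoc]
  rw [h]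
  show (Spec.map (𝒮L.strZero V hV) (Proj.toSpecZero (𝒮L.deg V hV) y)) ∈ hV.fromSpec ⁻¹ᵁ X.basicOpen r ↔ _
  rw [hV.fromSpec_preimage_basicOpen]
  exact mem_asIdeal_toSpecZero y ((𝒮L.strZero V hV).hom r)

theorem exists_triv (x : X) {L : X.Modules} (hL : PicF.IsInvertible L) {O : X.Opens} (hx : x ∈ O) :
    ∃ (V : X.Opens) (_ : IsAffineOpen V) (e : Γ(L, V)), x ∈ V ∧ V ≤ O ∧ Gen V e := by
  obtain ⟨W, e, hxW, he⟩ := exists_gen_nhd hL x
  obtain ⟨_, ⟨V, hV, rfl⟩, hxV, hVW⟩ :=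
    X.isBasis_affineOpens.exists_subset_of_mem_open (show x ∈ W ⊓ O from ⟨hxW, hx⟩) (W ⊓ O).2
  have hVW' : V ≤ W ⊓ O := hVW
  exact ⟨V, hV, _, hxV, hVW'.trans inf_le_right, he.res (hVW'.trans inf_le_left)⟩

variable {L : X.Modules} [Coh.IsQCoh L] {j : L ⟶ 𝒮L.toModule} (hj : RelProj.IsGrSymAlg L 𝒮L j)

omit [Coh.IsQCoh L] in
theorem res_gen₁ {V W : X.Opens} (hV : IsAffineOpen V) (hW : IsAffineOpen W) (h : W ≤ V) (e : Γ(L, V)) :
    (𝒮L.presheaf.map (homOfLE h).op).hom (gen₁ hV hj e).1 =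
      (gen₁ hW hj (L.presheaf.map (homOfLE h).op e)).1 :=
  res_jsec 𝒮L.toQCAlg j h e

include hj in
/-- Membership in the basic open of a homogeneous element over a trivialising open. -/
theorem mem_basicOpen_iff (hPL : RelProj.IsRelProj 𝒮L pL chartL) {V : X.Opens} (hV : IsAffineOpen V) {e : Γ(L, V)}
    (he : Gen V e) {d : ℕ} {t : 𝒮L.presheaf.obj (op V)} {r : Γ(X, V)}
    (hr : (𝒮L.str.app (op V)).hom r * (gen₁ hV hj e).1 ^ d = t) (y : Proj (𝒮L.deg V hV)) :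
    y ∈ Proj.basicOpen (𝒮L.deg V hV) t ↔ (RelProj.emb pL chartL V hV ≫ pL) y ∈ X.basicOpen r := by
  rw [str_mem_asHomogeneousIdeal V hV hPL y r]
  refine (ProjectiveSpectrum.mem_basicOpen _ _ _).trans (not_congr ⟨fun h => ?_, fun h => ?_⟩)
  · rw [← hr] at h
    rcases (y : ProjectiveSpectrum (𝒮L.deg V hV)).isPrime.mem_or_mem h with h | h
    · exact h
    · have hy : y ∈ Proj.basicOpen (𝒮L.deg V hV) (gen₁ hV hj e).1 := by
        rw [basicOpen_gen₁ hV hj he]; trivial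
      exact ((ProjectiveSpectrum.mem_basicOpen _ _ _).1 hy
        ((y : ProjectiveSpectrum (𝒮L.deg V hV)).isPrime.mem_of_pow_mem d h)).elim
  · rw [← hr]
    exact Ideal.mul_mem_right _ _ h

variable (t : ∀ W : X.affineOpens, 𝒮L.presheaf.obj (op (W : X.Opens)))
  (ht : ∀ (W W' : X.affineOpens) (h : (W' : X.Opens) ≤ W), (𝒮L.presheaf.map (homOfLE h).op).hom (t W) = t W')
  (d : ℕ) (htd : ∀ W : X.affineOpens, t W ∈ 𝒮L.deg W.1 W.2 d)

/-- The open where a section of `L^{⊗ d}` does not vanish. -/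
def nonVanish : X.Opens :=
  ⨆ W : {W : X.affineOpens //
    ((𝒮L.deg W.1 W.2 d : AddSubgroup (𝒮L.presheaf.obj (op (W.1 : X.Opens)))) :
        Set (𝒮L.presheaf.obj (op (W.1 : X.Opens)))) ⊆
      (Ideal.span {t W} : Set (𝒮L.presheaf.obj (op (W.1 : X.Opens))))},
    (W.1.1 : X.Opens)

include hj ht htd in
/-- Over a trivialising open, the section does not vanish where its coefficient is a unit. -/
theorem mem_nonVanish_iff {V : X.Opens} (hV : IsAffineOpen V) {e : Γ(L, V)} (he : Gen V e) {r : Γ(X, V)}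
    (hr : (𝒮L.str.app (op V)).hom r * (gen₁ hV hj e).1 ^ d = t ⟨V, hV⟩) {x : X} (hx : x ∈ V) :
    x ∈ nonVanish t d ↔ x ∈ X.basicOpen r := by
  constructor
  · intro h
    obtain ⟨⟨⟨W, hW⟩, hWs⟩, hxW⟩ := Opens.mem_iSup.1 h
    obtain ⟨f, hfV, hxf⟩ := hW.exists_basicOpen_le (V := V) ⟨x, hx⟩ hxW
    have hfW : X.basicOpen f ≤ W := X.basicOpen_le f
    obtain ⟨n, l, hl⟩ := (QCohLib.locAt L hW).extend f (L.presheaf.map (homOfLE hfV).op e)
    rw [CohBase.sc_apply] at hl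
    have hmem : (gen₁ hW hj l).1 ^ d ∈ 𝒮L.deg W hW d := by
      simpa using SetLike.pow_mem_graded d (gen₁ hW hj l).2
    obtain ⟨c, hc⟩ := Ideal.mem_span_singleton'.1 (hWs hmem)
    have hD := hW.basicOpen f
    let ρ := (𝒮L.presheaf.map (homOfLE hfW).op).hom
    let e' := L.presheaf.map (homOfLE hfV).op e
    have h1 : ρ (gen₁ hW hj l).1 = (𝒮L.str.app (op (X.basicOpen f))).hom
        (X.presheaf.map (homOfLE hfW).op (f ^ n)) * (gen₁ hD hj e').1 := by
      refine ((res_gen₁ hj hW hD hfW l).trans (congrArg (fun z => (gen₁ hD hj z).1) hl)).trans ?_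
      exact jsec_smul 𝒮L.toQCAlg j _ _
    have h2 : ρ (t ⟨W, hW⟩) = (𝒮L.str.app (op (X.basicOpen f))).hom (X.presheaf.map (homOfLE hfV).op r) *
        (gen₁ hD hj e').1 ^ d := by
      refine (ht ⟨W, hW⟩ ⟨X.basicOpen f, hD⟩ hfW).trans ((ht ⟨V, hV⟩ ⟨X.basicOpen f, hD⟩ hfV).symm.trans ?_)
      rw [← hr, map_mul, map_pow]
      exact congrArg₂ (fun a b => a * b ^ d) (res_str 𝒮L.toQCAlg hfV r) (res_gen₁ hj hV hD hfV e)
    have hρ := congrArg ρ hc
    rw [map_mul, map_pow, h1, h2] at hρ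
    classical
    let c₀ := DirectSum.decompose (𝒮L.deg (X.basicOpen f) hD) (ρ c) 0
    obtain ⟨a, ha, -⟩ := existsUnique_coeff hD hj (he.res hfV) (SetLike.coe_mem c₀)
    have hdeg : (𝒮L.str.app (op (X.basicOpen f))).hom (X.presheaf.map (homOfLE hfV).op r) *
        (gen₁ hD hj e').1 ^ d ∈ 𝒮L.deg (X.basicOpen f) hD d := str_mul_pow_mem hD hj e' _ d
    have hunit : IsUnit (X.presheaf.map (homOfLE hfW).op (f ^ n)) := by
      rw [map_pow]
      exact (RingedSpace.isUnit_res_basicOpen _ f).pow n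
    have key : X.presheaf.map (homOfLE hfV).op r * a =
        X.presheaf.map (homOfLE hfW).op (f ^ n) ^ d := by
      refine str_mul_pow_injective hD hj (he.res hfV) d ?_
      have hproj := congrArg
        (fun z => (DirectSum.decompose (𝒮L.deg (X.basicOpen f) hD) z d : 𝒮L.presheaf.obj (op (X.basicOpen f)))) hρ
      dsimp only at hproj
      rw [DirectSum.coe_decompose_mul_of_right_mem_of_le _ hdeg le_rfl, Nat.sub_self, mul_pow, ← map_pow,
        DirectSum.decompose_of_mem_same _ (str_mul_pow_mem hD hj e' _ d)] at hproj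
      show (𝒮L.str.app (op (X.basicOpen f))).hom (X.presheaf.map (homOfLE hfV).op r * a) * (gen₁ hD hj e').1 ^ d =
        (𝒮L.str.app (op (X.basicOpen f))).hom (X.presheaf.map (homOfLE hfW).op (f ^ n) ^ d) * (gen₁ hD hj e').1 ^ d
      refine Eq.trans ?_ hproj
      rw [← show (𝒮L.str.app (op (X.basicOpen f))).hom a = (c₀ : 𝒮L.presheaf.obj (op (X.basicOpen f))) by
        simpa using ha, map_mul]
      ring
    have hu : IsUnit (X.presheaf.map (homOfLE hfV).op r) := by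
      refine isUnit_of_mul_isUnit_left (y := a) ?_
      rw [key]
      exact hunit.pow d
    have hx' : x ∈ X.basicOpen (X.presheaf.map (homOfLE hfV).op r) := by
      rw [X.basicOpen_of_isUnit hu]
      exact hxf
    rw [X.basicOpen_res] at hx'
    exact hx'.2
  · intro h
    have hW := hV.basicOpen r
    have hle : X.basicOpen r ≤ V := X.basicOpen_le r
    refine Opens.mem_iSup.2 ⟨⟨⟨X.basicOpen r, hW⟩, fun a ha => ?_⟩, h⟩
    obtain ⟨c, hc, -⟩ := existsUnique_coeff hW hj (he.res hle) ha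
    obtain ⟨v, hv⟩ : ∃ v : Γ(X, X.basicOpen r), v * X.presheaf.map (homOfLE hle).op r = 1 :=
      (RingedSpace.isUnit_res_basicOpen X.toRingedSpace r).exists_left_inv
    refine Ideal.mem_span_singleton'.2 ⟨(𝒮L.str.app (op (X.basicOpen r))).hom (c * v), ?_⟩
    have htW : t ⟨X.basicOpen r, hW⟩ = (𝒮L.str.app (op (X.basicOpen r))).hom (X.presheaf.map (homOfLE hle).op r) *
        (gen₁ hW hj (L.presheaf.map (homOfLE hle).op e)).1 ^ d := by
      refine (ht ⟨V, hV⟩ ⟨X.basicOpen r, hW⟩ hle).symm.trans ?_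
      rw [← hr, map_mul, map_pow]
      exact congrArg₂ (fun a b => a * b ^ d) (res_str 𝒮L.toQCAlg hle r) (res_gen₁ hj hV hW hle e)
    rw [htW, ← hc, ← mul_assoc, ← map_mul, mul_assoc,
      hv, mul_one]

include hj ht htd in
/-- Membership in `D_+(t)`, globally. -/
theorem mem_basicOpen_iff_nonVanish (hPL : RelProj.IsRelProj 𝒮L pL chartL) {V : X.Opens} (hV : IsAffineOpen V)
    {e : Γ(L, V)} (he : Gen V e) (y : Proj (𝒮L.deg V hV)) :
    y ∈ Proj.basicOpen (𝒮L.deg V hV) (t ⟨V, hV⟩) ↔ (RelProj.emb pL chartL V hV ≫ pL) y ∈ nonVanish t d := by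
  obtain ⟨r, hr, -⟩ := existsUnique_coeff hV hj he (htd ⟨V, hV⟩)
  refine (mem_basicOpen_iff hj hPL hV he hr y).trans (mem_nonVanish_iff hj t ht d htd hV he hr ?_).symm
  exact ((chartL V hV).inv y).2

end Groth.Agent.RelProjLib

namespace Groth.Agent.RelProjLib

variable {Y X PL : Scheme.{u}} {q : X ⟶ Y} {L : X.Modules} [Coh.IsQCoh L] {𝒮 : RelProj.QCGrAlg Y}
  {𝒮L : RelProj.QCGrAlg X} {j : L ⟶ 𝒮L.toModule} (u : RelProj.QGrHom q 𝒮 𝒮L) {pL : PL ⟶ X}
  {chartL : ∀ (U : X.Opens) (hU : IsAffineOpen U), (((pL ⁻¹ᵁ U : PL.Opens) : Scheme.{u}) ≅ Proj (𝒮L.deg U hU))}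

/-- The images of a global element over the affine opens. -/
abbrev secFam (f : 𝒮.presheaf.obj (op ⊤)) (W : X.affineOpens) : 𝒮L.presheaf.obj (op (W : X.Opens)) :=
  (u.appLE ⊤ (W : X.Opens) (le_top.trans (Scheme.Hom.preimage_top q).ge)).hom f

theorem secFam_res (f : 𝒮.presheaf.obj (op ⊤)) (W W' : X.affineOpens) (h : (W' : X.Opens) ≤ W) :
    (𝒮L.presheaf.map (homOfLE h).op).hom (secFam u f W) = secFam u f W' :=
  congrArg (fun g => g.hom f) (u.toQHom.appLE_map (le_top.trans (Scheme.Hom.preimage_top q).ge) h)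

theorem secFam_mem {hY : IsAffineOpen (⊤ : Y.Opens)} {d : ℕ} {f : 𝒮.presheaf.obj (op ⊤)}
    (hf : f ∈ 𝒮.deg ⊤ hY d) (W : X.affineOpens) : secFam u f W ∈ 𝒮L.deg W.1 W.2 d :=
  u.map_mem ⊤ hY W.1 W.2 _ hf

/-- The open `X_t` of `t = ψ(f)`. -/
abbrev xT (f : 𝒮.presheaf.obj (op ⊤)) (d : ℕ) : X.Opens := nonVanish (secFam u f) d

variable (hj : RelProj.IsGrSymAlg L 𝒮L j)

include hj in
/-- Over a trivialising open, the standard chart sits over `X_t`. -/
theorem mem_range_cMap_iff (hPL : RelProj.IsRelProj 𝒮L pL chartL) {hY : IsAffineOpen (⊤ : Y.Opens)} {d : ℕ}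
    (hd : 0 < d) {f : 𝒮.presheaf.obj (op ⊤)} (hf : f ∈ 𝒮.deg ⊤ hY d) {V : X.Opens} (hV : IsAffineOpen V)
    {e : Γ(L, V)} (he : Gen V e) {z : PL} (hz : pL z ∈ V) :
    z ∈ Set.range (QMap.cMap u pL chartL
        ⟨⊤, hY, V, hV, le_top.trans (Scheme.Hom.preimage_top q).ge, d, hd, f, hf⟩).base ↔
      pL z ∈ xT u f d := by
  have h := fun y => mem_basicOpen_iff_nonVanish hj (secFam u f) (secFam_res u f) d (secFam_mem u hf) hPL hV he y
  rw [QMap.range_cMap]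
  constructor
  · rintro ⟨y, hy, rfl⟩
    exact (h y).1 hy
  · intro hzT
    obtain ⟨y, rfl⟩ : z ∈ (RelProj.emb pL chartL V hV).opensRange := by
      refine ⟨(chartL V hV).hom ⟨z, hz⟩, ?_⟩
      show ((chartL V hV).hom ≫ (chartL V hV).inv ≫ (pL ⁻¹ᵁ V).ι) ⟨z, hz⟩ = z
      rw [Iso.hom_inv_id_assoc]
      rfl
    exact ⟨y, (h y).2 hzT, rfl⟩

end Groth.Agent.RelProjLib

namespace Groth.Agent.RelProjLib

variable {Y X : Scheme.{u}} {q : X ⟶ Y} {L : X.Modules} [Coh.IsQCoh L] {𝒮 : RelProj.QCGrAlg Y}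
  {𝒮L : RelProj.QCGrAlg X} {j : L ⟶ 𝒮L.toModule} (u : RelProj.QGrHom q 𝒮 𝒮L)

theorem secFam_nilpotent (f : 𝒮.presheaf.obj (op ⊤)) {W W' : X.affineOpens} (h : (W' : X.Opens) ≤ W)
    (hn : IsNilpotent (secFam u f W)) : IsNilpotent (secFam u f W') := by
  rw [← secFam_res u f W W' h]
  exact hn.map (𝒮L.presheaf.map (homOfLE h).op).hom

/-- `X_t` is empty exactly when `t` is locally nilpotent. -/
theorem xT_eq_bot_iff (hj : RelProj.IsGrSymAlg L 𝒮L j) (hL : PicF.IsInvertible L) {hY : IsAffineOpen (⊤ : Y.Opens)}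
    {d : ℕ} {f : 𝒮.presheaf.obj (op ⊤)} (hf : f ∈ 𝒮.deg ⊤ hY d) :
    xT u f d = ⊥ ↔ ∀ x : X, ∃ (V : X.Opens) (hV : IsAffineOpen V), x ∈ V ∧ IsNilpotent (secFam u f ⟨V, hV⟩) := by
  constructor
  · intro h x
    obtain ⟨V, hV, e, hxV, -, he⟩ := exists_triv x hL (O := (⊤ : X.Opens)) trivial
    obtain ⟨r, hr, -⟩ := existsUnique_coeff hV hj he (secFam_mem u hf ⟨V, hV⟩)
    refine ⟨V, hV, hxV, ?_⟩
    have hr0 : IsNilpotent r := by
      refine (Scheme.isNilpotent_iff_basicOpen_eq_bot_of_isCompact hV.isCompact r).2 (eq_bot_iff.2 fun y hy => ?_)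
      have := (mem_nonVanish_iff hj (secFam u f) (secFam_res u f) d (secFam_mem u hf) hV he hr (X.basicOpen_le r hy)).2 hy
      rwa [show nonVanish (secFam u f) d = ⊥ from h] at this
    rw [← hr]
    exact (Commute.all _ _).isNilpotent_mul_right (hr0.map (𝒮L.str.app (op V)).hom)
  · intro h
    refine eq_bot_iff.2 fun x hx => ?_
    obtain ⟨W, hW, hxW, hn⟩ := h x
    obtain ⟨V, hV, e, hxV, hVW, he⟩ := exists_triv x hL hxW
    obtain ⟨r, hr, -⟩ := existsUnique_coeff hV hj he (secFam_mem u hf ⟨V, hV⟩)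
    obtain ⟨k, hk⟩ := secFam_nilpotent u f (W' := ⟨V, hV⟩) hVW hn
    have hrk : r ^ k = 0 := by
      refine str_mul_pow_injective hV hj he (d * k) ?_
      show (𝒮L.str.app (op V)).hom (r ^ k) * (gen₁ hV hj e).1 ^ (d * k) =
        (𝒮L.str.app (op V)).hom 0 * (gen₁ hV hj e).1 ^ (d * k)
      rw [map_zero, zero_mul, map_pow, pow_mul, ← mul_pow, hr, hk]
    have := (mem_nonVanish_iff hj (secFam u f) (secFam_res u f) d (secFam_mem u hf) hV he hr hxV).1 hx
    exact (X.basicOpen_eq_bot_of_isNilpotent V r ⟨k, hrk⟩).le this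

end Groth.Agent.RelProjLib
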