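import Groth.Agent.RelProjLib.Basic

/-! Existence of relative `Proj`. -/

set_option autoImplicit false
set_option linter.style.haveILetI false
set_option backward.isDefEq.respectTransparency false
set_option backward.defeqAttrib.useBackward true
universe u
open CategoryTheory CategoryTheory.Limits AlgebraicGeometry TopologicalSpace Opposite
open scoped HomogeneousIdeal

noncomputable section

namespace Groth.Agent.RelProjLib

variable {S : Scheme.{u}} (𝒮 : RelProj.QCGrAlg S)

lemma irrelevant_le {U V : S.Opens} (hU : IsAffineOpen U) (hV : IsAffineOpen V)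
    (h : ∃ r : Γ(S, U), S.basicOpen r = V) (hle : V ≤ U) :
    (𝒮.deg V hV)₊ ≤ ((𝒮.deg U hU)₊).map (𝒮.res hU hV hle) := by
  obtain ⟨r, rfl⟩ := h
  exact 𝒮.irrelevant_le_map U hU r

lemma res_comp {U V W : S.Opens} (hU : IsAffineOpen U) (hV : IsAffineOpen V) (hW : IsAffineOpen W)
    (i : V ≤ U) (j : W ≤ V) : (𝒮.res hV hW j).comp (𝒮.res hU hV i) = 𝒮.res hU hW (j.trans i) := by
  refine GradedRingHom.ext fun x => ?_
  change (𝒮.presheaf.map (homOfLE j).op).hom ((𝒮.presheaf.map (homOfLE i).op).hom x) =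
    (𝒮.presheaf.map (homOfLE (j.trans i)).op).hom x
  rw [← CommRingCat.comp_apply, ← Functor.map_comp]
  rfl

lemma res_self {U : S.Opens} (hU : IsAffineOpen U) (i : U ≤ U) :
    𝒮.res hU hU i = GradedRingHom.id (𝒮.deg U hU) := by
  refine GradedRingHom.ext fun x => ?_
  change (𝒮.presheaf.map (homOfLE i).op).hom x = x
  rw [show (homOfLE i).op = 𝟙 (op U) from Subsingleton.elim _ _, 𝒮.presheaf.map_id]
  rfl

/-- `U ↦ Proj 𝒮(U)`. -/
def projFunctor : S.AffineZariskiSite ⥤ Scheme.{u} where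
  obj U := Proj (𝒮.deg U.1 U.2)
  map {V U} i := Proj.map (𝒮.res U.2 V.2 (Scheme.AffineZariskiSite.toOpens_mono i.le))
    (irrelevant_le 𝒮 U.2 V.2 i.le (Scheme.AffineZariskiSite.toOpens_mono i.le))
  map_id U := by
    simp only [res_self]
    exact Proj.map_id
  map_comp {W V U} i j := by
    have := Proj.map_comp (𝒮.res U.2 V.2 (Scheme.AffineZariskiSite.toOpens_mono j.le))
      (𝒮.res V.2 W.2 (Scheme.AffineZariskiSite.toOpens_mono i.le))
      (irrelevant_le 𝒮 U.2 V.2 j.le (Scheme.AffineZariskiSite.toOpens_mono j.le))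
      (irrelevant_le 𝒮 V.2 W.2 i.le (Scheme.AffineZariskiSite.toOpens_mono i.le))
    simp only [res_comp] at this
    exact this

/-- `Proj 𝒮(U) ⟶ U`. -/
def toOpen (U : S.Opens) (hU : IsAffineOpen U) : Proj (𝒮.deg U hU) ⟶ (U : Scheme.{u}) :=
  Proj.toSpecZero (𝒮.deg U hU) ≫ Spec.map (𝒮.strZero U hU) ≫ hU.isoSpec.inv

@[reassoc]
lemma toOpen_ι (U : S.Opens) (hU : IsAffineOpen U) :
    toOpen 𝒮 U hU ≫ U.ι = Proj.toSpecZero (𝒮.deg U hU) ≫ Spec.map (𝒮.strZero U hU) ≫ hU.fromSpec := by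
  simp only [toOpen, Category.assoc, IsAffineOpen.isoSpec_inv_ι]

lemma map_toOpen {U V : S.Opens} (hU : IsAffineOpen U) (hV : IsAffineOpen V) (hle : V ≤ U)
    (hirr : (𝒮.deg V hV)₊ ≤ ((𝒮.deg U hU)₊).map (𝒮.res hU hV hle)) :
    Proj.map (𝒮.res hU hV hle) hirr ≫ toOpen 𝒮 U hU = toOpen 𝒮 V hV ≫ S.homOfLE hle := by
  rw [← cancel_mono U.ι, Category.assoc, Category.assoc, Scheme.homOfLE_ι, toOpen_ι, toOpen_ι,
    reassoc_of% map_toSpecZero, ← Spec.map_comp_assoc]
  have : 𝒮.strZero U hU ≫ CommRingCat.ofHom (zeroHom (𝒮.res hU hV hle)) =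
      S.presheaf.map (homOfLE hle).op ≫ 𝒮.strZero V hV := by
    refine CommRingCat.hom_ext (RingHom.ext fun r => Subtype.ext ?_)
    exact congr(($(𝒮.str.naturality (homOfLE hle).op)).hom r).symm
  rw [this, Spec.map_comp_assoc, hU.map_fromSpec hV]

variable (U : S.Opens) (hU : IsAffineOpen U) (r : Γ(S, U))

lemma away_map_eq_fromSpec {d : ℕ} {f : 𝒮.presheaf.obj (op U)} (hd : 0 < d) (hf : f ∈ 𝒮.deg U hU d)
    (q : Spec (CommRingCat.of (HomogeneousLocalization.Away (𝒮.deg U hU) f))) :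
    Proj.awayι (𝒮.deg U hU) f hf hd q ∈ toOpen 𝒮 U hU ⁻¹ᵁ (U.ι ⁻¹ᵁ S.basicOpen r) ↔
      HomogeneousLocalization.fromZeroRingHom (𝒮.deg U hU) _ ((𝒮.strZero U hU).hom r) ∉
        (q : PrimeSpectrum (HomogeneousLocalization.Away (𝒮.deg U hU) f)).asIdeal := by
  rw [← Scheme.Hom.comp_preimage, toOpen_ι]
  change q ∈ (Proj.awayι (𝒮.deg U hU) f hf hd ≫ Proj.toSpecZero (𝒮.deg U hU) ≫
    Spec.map (𝒮.strZero U hU) ≫ hU.fromSpec) ⁻¹ᵁ S.basicOpen r ↔ _
  rw [Proj.awayι_toSpecZero_assoc, ← Spec.map_comp_assoc, Scheme.Hom.comp_preimage,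
    hU.fromSpec_preimage_basicOpen]
  rfl

theorem isLocalization_away {d : ℕ} {f : 𝒮.presheaf.obj (op U)} (hf : f ∈ 𝒮.deg U hU d) :
    letI := (HomogeneousLocalization.Away.map (𝒮.res hU (hU.basicOpen r) (S.basicOpen_le r)) f).toAlgebra
    IsLocalization.Away
      (HomogeneousLocalization.fromZeroRingHom (𝒮.deg U hU) (Submonoid.powers f) ((𝒮.strZero U hU).hom r))
      (HomogeneousLocalization.Away (𝒮.deg (S.basicOpen r) (hU.basicOpen r))
        (𝒮.res hU (hU.basicOpen r) (S.basicOpen_le r) f)) := by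
  set res := 𝒮.res hU (hU.basicOpen r) (S.basicOpen_le r) with hres
  letI := (𝒮.presheaf.map (homOfLE (S.basicOpen_le r)).op).hom.toAlgebra
  letI := (HomogeneousLocalization.Away.map res f).toAlgebra
  set c := (𝒮.str.app (op U)).hom r with hc
  have hloc : IsLocalization.Away c (𝒮.presheaf.obj (op (S.basicOpen r))) := 𝒮.isQC U hU r
  have hc0 : c ∈ 𝒮.deg U hU 0 := 𝒮.str_mem U hU r
  have hu : IsUnit (res c) := IsLocalization.Away.algebraMap_isUnit c
  set cc := HomogeneousLocalization.fromZeroRingHom (𝒮.deg U hU) (Submonoid.powers f) ((𝒮.strZero U hU).hom r)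
  have hcc : cc.val = Localization.mk c 1 := rfl
  have hres' : ∀ x, algebraMap _ (𝒮.presheaf.obj (op (S.basicOpen r))) x = res x := fun x => rfl
  have hval : ∀ x : HomogeneousLocalization.Away (𝒮.deg U hU) f,
      algebraMap _ (HomogeneousLocalization.Away (𝒮.deg (S.basicOpen r) (hU.basicOpen r)) (res f)) x =
        HomogeneousLocalization.Away.map res f x := fun x => rfl
  have hccmap : (HomogeneousLocalization.Away.map res f cc).val = Localization.mk (res c) 1 := by
    change (HomogeneousLocalization.map res _ (HomogeneousLocalization.mk _)).val = _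
    rw [HomogeneousLocalization.map_mk, HomogeneousLocalization.val_mk]
    congr 1
    exact Subtype.ext (map_one res.toRingHom)
  constructor; constructor
  · rintro ⟨_, k, rfl⟩
    rw [map_pow, hval]
    refine IsUnit.pow k ?_
    obtain ⟨u, hu'⟩ := hu
    have hu0 : (↑u⁻¹ : 𝒮.presheaf.obj (op (S.basicOpen r))) ∈
        𝒮.deg (S.basicOpen r) (hU.basicOpen r) 0 := by
      have h1 : (1 : 𝒮.presheaf.obj (op (S.basicOpen r))) ∈ 𝒮.deg (S.basicOpen r) (hU.basicOpen r) 0 :=
        SetLike.GradedOne.one_mem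
      classical
      have h2 : (DirectSum.decompose (𝒮.deg (S.basicOpen r) (hU.basicOpen r))
          (↑u * ↑u⁻¹ : 𝒮.presheaf.obj (op (S.basicOpen r))) 0 : 𝒮.presheaf.obj (op (S.basicOpen r))) =
          ↑u * (DirectSum.decompose (𝒮.deg (S.basicOpen r) (hU.basicOpen r))
            (↑u⁻¹ : 𝒮.presheaf.obj (op (S.basicOpen r))) 0 : 𝒮.presheaf.obj (op (S.basicOpen r))) := by
        have hu0' : (↑u : 𝒮.presheaf.obj (op (S.basicOpen r))) ∈ 𝒮.deg (S.basicOpen r) (hU.basicOpen r) 0 := by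
          rw [hu']; exact res.map_mem hc0
        rw [DirectSum.coe_decompose_mul_of_left_mem_of_le _ hu0' le_rfl, Nat.sub_self]
      rw [Units.mul_inv, DirectSum.decompose_of_mem_same _ h1] at h2
      rw [show (↑u⁻¹ : 𝒮.presheaf.obj (op (S.basicOpen r))) = _ from
        u.inv_eq_of_mul_eq_one_right h2.symm]
      exact SetLike.coe_mem _
    refine IsUnit.of_mul_eq_one
      (HomogeneousLocalization.fromZeroRingHom _ _ ⟨↑u⁻¹, hu0⟩) ?_
    ext
    rw [HomogeneousLocalization.val_mul, hccmap, HomogeneousLocalization.val_one]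
    change _ * Localization.mk (↑u⁻¹ : 𝒮.presheaf.obj (op (S.basicOpen r))) 1 = _
    rw [Localization.mk_mul, ← hu', Units.mul_inv, one_mul, Localization.mk_one]
  · intro y
    obtain ⟨n, b, hb, rfl⟩ := HomogeneousLocalization.Away.mk_surjective _ (res.map_mem hf) y
    obtain ⟨⟨x, _, k, rfl⟩, hx⟩ := IsLocalization.surj (Submonoid.powers c) b
    simp only [hres', map_pow] at hx
    classical
    refine ⟨⟨HomogeneousLocalization.Away.mk (𝒮.deg U hU) hf n
      (DirectSum.decompose (𝒮.deg U hU) x (n • d) : 𝒮.presheaf.obj (op U)) (SetLike.coe_mem _),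
      ⟨cc ^ k, k, rfl⟩⟩, ?_⟩
    have hdeg : b * res c ^ k ∈ 𝒮.deg (S.basicOpen r) (hU.basicOpen r) (n • d) := by
      simpa using SetLike.mul_mem_graded hb (SetLike.pow_mem_graded k (res.map_mem hc0))
    ext
    rw [map_pow, hval, hval, HomogeneousLocalization.val_mul, HomogeneousLocalization.val_pow, hccmap,
      HomogeneousLocalization.Away.val_mk, HomogeneousLocalization.Away.map_mk,
      HomogeneousLocalization.Away.val_mk, Localization.mk_pow, Localization.mk_mul,
      GradedRingHom.map_directSumDecompose, ← hx, DirectSum.decompose_of_mem_same _ hdeg]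
    simp only [one_pow, mul_one]
    rfl
  · intro x y hxy
    have h := congrArg HomogeneousLocalization.val hxy
    obtain ⟨n, a, ha, rfl⟩ := HomogeneousLocalization.Away.mk_surjective _ hf x
    obtain ⟨m, b, hb, rfl⟩ := HomogeneousLocalization.Away.mk_surjective _ hf y
    rw [hval, hval, HomogeneousLocalization.Away.map_mk, HomogeneousLocalization.Away.map_mk,
      HomogeneousLocalization.Away.val_mk, HomogeneousLocalization.Away.val_mk,
      Localization.mk_eq_mk_iff, Localization.r_iff_exists] at h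
    obtain ⟨⟨_, j, rfl⟩, hj⟩ := h
    have hj' : res (f ^ j * (f ^ m * a)) = res (f ^ j * (f ^ n * b)) := by
      simp only [map_mul, map_pow]
      exact hj
    obtain ⟨⟨_, k, rfl⟩, hk⟩ := IsLocalization.exists_of_eq (M := Submonoid.powers c)
      (S := 𝒮.presheaf.obj (op (S.basicOpen r))) hj'
    refine ⟨⟨cc ^ k, k, rfl⟩, ?_⟩
    ext
    simp only [HomogeneousLocalization.val_mul, HomogeneousLocalization.val_pow, hcc,
      HomogeneousLocalization.Away.val_mk, Localization.mk_pow, Localization.mk_mul]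
    rw [Localization.mk_eq_mk_iff, Localization.r_iff_exists]
    refine ⟨⟨f ^ j, j, rfl⟩, ?_⟩
    simp only [one_pow, one_mul, Submonoid.coe_mul, OneMemClass.coe_one] at hk ⊢
    linear_combination hk

theorem isPullback_res :
    IsPullback (toOpen 𝒮 (S.basicOpen r) (hU.basicOpen r))
      (Proj.map (𝒮.res hU (hU.basicOpen r) (S.basicOpen_le r)) (𝒮.irrelevant_le_map U hU r))
      (S.homOfLE (S.basicOpen_le r)) (toOpen 𝒮 U hU) := by
  set res := 𝒮.res hU (hU.basicOpen r) (S.basicOpen_le r) with hres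
  set φ := Proj.map res (𝒮.irrelevant_le_map U hU r) with hφ
  have hpb : ∀ (d : ℕ) (f : 𝒮.presheaf.obj (op U)) (hd : 0 < d) (hf : f ∈ 𝒮.deg U hU d),
      IsPullback (Spec.map (CommRingCat.ofHom (HomogeneousLocalization.Away.map res f)))
        (Proj.awayι (𝒮.deg (S.basicOpen r) (hU.basicOpen r)) (res f) (res.2 hf) hd)
        (Proj.awayι (𝒮.deg U hU) f hf hd) φ := by
    intro d f hd hf
    refine IsOpenImmersion.isPullback _ _ _ _ (Proj.awayι_comp_map res _ hd f hf) ?_
    rw [Proj.opensRange_awayι, Proj.opensRange_awayι]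
    exact Proj.map_preimage_basicOpen res _ f
  haveI : IsOpenImmersion φ := by
    refine IsZariskiLocalAtTarget.of_openCover (Proj.affineOpenCover (𝒮.deg U hU)).openCover ?_
    rintro ⟨⟨d, hd⟩, f, hf⟩
    letI := (HomogeneousLocalization.Away.map res f).toAlgebra
    haveI := isLocalization_away 𝒮 U hU r hf
    haveI : IsOpenImmersion (Spec.map (CommRingCat.ofHom (HomogeneousLocalization.Away.map res f))) :=
      IsOpenImmersion.of_isLocalization
        (HomogeneousLocalization.fromZeroRingHom (𝒮.deg U hU) (Submonoid.powers f) ((𝒮.strZero U hU).hom r))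
    change IsOpenImmersion (pullback.snd φ (Proj.awayι (𝒮.deg U hU) f hf hd))
    rw [← (hpb d f hd hf).flip.isoPullback_inv_snd]
    infer_instance
  refine IsOpenImmersion.isPullback _ _ _ _ (map_toOpen 𝒮 hU (hU.basicOpen r) (S.basicOpen_le r) _) ?_
  rw [Scheme.opensRange_homOfLE]
  refine TopologicalSpace.Opens.ext (Set.ext fun x => ?_)
  obtain ⟨d, f, hd, hf, hfx⟩ := Groth.Agent.ProjRed.exists_not_mem x
  obtain ⟨q, rfl⟩ : x ∈ Set.range (Proj.awayι (𝒮.deg U hU) f hf hd) := by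
    rw [← Scheme.Hom.coe_opensRange, Proj.opensRange_awayι]
    exact hfx
  letI := (HomogeneousLocalization.Away.map res f).toAlgebra
  haveI := isLocalization_away 𝒮 U hU r hf
  have hrange := PrimeSpectrum.localization_away_comap_range
    (HomogeneousLocalization.Away (𝒮.deg (S.basicOpen r) (hU.basicOpen r)) (res f))
    (HomogeneousLocalization.fromZeroRingHom (𝒮.deg U hU) (Submonoid.powers f) ((𝒮.strZero U hU).hom r))
  refine (away_map_eq_fromSpec 𝒮 U hU r hd hf q).trans ⟨fun h => ?_, ?_⟩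
  · obtain ⟨q', hq'⟩ := hrange.ge h
    exact ⟨Proj.awayι (𝒮.deg (S.basicOpen r) (hU.basicOpen r)) (res f) (res.2 hf) hd q', by
      rw [← Scheme.Hom.comp_apply, ← (hpb d f hd hf).w, Scheme.Hom.comp_apply]
      exact congrArg _ hq'⟩
  · rintro ⟨y, hy⟩
    obtain ⟨z, hz, -⟩ := Scheme.exists_preimage_of_isPullback (hpb d f hd hf) q y hy.symm
    exact hrange.le ⟨z, hz⟩

/-- The gluing datum of `Proj 𝒮`. -/
def glueData : (Scheme.AffineZariskiSite.directedCover S).RelativeGluingData where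
  functor := projFunctor 𝒮
  natTrans :=
    { app := fun U => toOpen 𝒮 U.1 U.2
      naturality := fun V U i => map_toOpen 𝒮 U.2 V.2 (Scheme.AffineZariskiSite.toOpens_mono i.le) _ }
  equifibered := by
    intro V U i
    obtain ⟨W, hW⟩ := V
    obtain ⟨r, hr⟩ := i.le
    change S.basicOpen r = W at hr
    subst hr
    exact (isPullback_res 𝒮 U.1 U.2 r).flip

instance : ((glueData 𝒮).functor ⋙ Scheme.forget).IsLocallyDirected :=
  Scheme.Cover.RelativeGluingData.instIsLocallyDirectedI₀CompFunctorForgetOfIsThin ..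

theorem exists_relProj :
    ∃ (P : Scheme.{u}) (p : P ⟶ S)
      (chart : ∀ (U : S.Opens) (hU : IsAffineOpen U), (((p ⁻¹ᵁ U : P.Opens) : Scheme.{u}) ≅ Proj (𝒮.deg U hU))),
      RelProj.IsRelProj 𝒮 p chart := by
  let D := glueData 𝒮
  let ι : ∀ (U : S.Opens) (hU : IsAffineOpen U), Proj (𝒮.deg U hU) ⟶ D.glued :=
    fun U hU => D.cover.f ⟨U, hU⟩
  haveI : ∀ U hU, IsOpenImmersion (ι U hU) := fun U hU => D.cover.map_prop _
  have hι : ∀ U hU, ι U hU ≫ D.toBase = toOpen 𝒮 U hU ≫ U.ι := fun U hU => D.ι_toBase ⟨U, hU⟩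
  have hpre : ∀ U hU, D.toBase ⁻¹ᵁ U = (ι U hU).opensRange := fun U hU => by
    simpa using! D.toBase_preimage_eq_opensRange_ι ⟨U, hU⟩
  let chart : ∀ (U : S.Opens) (hU : IsAffineOpen U),
      ((D.toBase ⁻¹ᵁ U : D.glued.Opens) : Scheme.{u}) ≅ Proj (𝒮.deg U hU) := fun U hU =>
    IsOpenImmersion.isoOfRangeEq (D.toBase ⁻¹ᵁ U).ι (ι U hU) (by rw [Scheme.Opens.range_ι, hpre U hU]; rfl)
  have hchart : ∀ U hU, (chart U hU).hom ≫ ι U hU = (D.toBase ⁻¹ᵁ U).ι := fun U hU =>
    IsOpenImmersion.isoOfRangeEq_hom_fac _ _ _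
  refine ⟨D.glued, D.toBase, chart, ⟨fun U hU => ?_, fun U hU r => ?_⟩⟩
  · rw [← toOpen_ι, ← hι, reassoc_of% hchart]
  · rw [← cancel_mono (ι U hU), Category.assoc, Category.assoc, hchart, Scheme.homOfLE_ι]
    have hw : Proj.map (𝒮.res hU (hU.basicOpen r) (S.basicOpen_le r)) (𝒮.irrelevant_le_map U hU r) ≫
        ι U hU = ι (S.basicOpen r) (hU.basicOpen r) :=
      colimit.w D.functor (homOfLE (Scheme.AffineZariskiSite.basicOpen_le ⟨U, hU⟩ r))
    rw [hw, hchart]

end Groth.Agent.RelProjLib
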