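import Groth.Agent.RelProjLib.RLpsiImm
import Groth.Agent.GrModLib.Sections

/-! Immersion criteria for the morphism attached to an invertible module. -/

set_option autoImplicit false
set_option linter.style.haveILetI false
set_option backward.isDefEq.respectTransparency false

universe u

open CategoryTheory CategoryTheory.Limits AlgebraicGeometry TopologicalSpace Opposite

noncomputable section

namespace Groth.Agent.RelProjLib

section scheme

variable {A B : Scheme.{u}} (f : A ⟶ B) (Q : MorphismProperty Scheme.{u})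

theorem restrict_of_le [IsZariskiLocalAtTarget Q] {U V : B.Opens} (hVU : V ≤ U) (h : Q (f ∣_ U)) : Q (f ∣_ V) := by
  have h2 : Q ((f ∣_ U) ∣_ (U.ι ⁻¹ᵁ V)) := IsZariskiLocalAtTarget.restrict h _
  rw [MorphismProperty.arrow_mk_iso_iff Q (morphismRestrictRestrict f U (U.ι ⁻¹ᵁ V))] at h2
  rwa [MorphismProperty.arrow_mk_iso_iff Q (morphismRestrictEq f
    (show U.ι ''ᵁ (U.ι ⁻¹ᵁ V) = V by
      rw [Scheme.Hom.image_preimage_eq_opensRange_inf, Scheme.Opens.opensRange_ι]; exact inf_eq_right.2 hVU))] at h2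

theorem restrict_iSup [IsZariskiLocalAtTarget Q] {κ : Type u} (O : κ → B.Opens) (h : ∀ a, Q (f ∣_ O a)) :
    Q (f ∣_ ⨆ a, O a) := by
  refine IsZariskiLocalAtTarget.of_iSup_eq_top (fun a => (⨆ a, O a).ι ⁻¹ᵁ O a) ?_ fun a => ?_
  · rw [← Scheme.Hom.preimage_iSup]
    exact Scheme.Opens.ι_preimage_self _
  · rw [MorphismProperty.arrow_mk_iso_iff Q (morphismRestrictRestrict f _ _),
      MorphismProperty.arrow_mk_iso_iff Q (morphismRestrictEq f
        (show (⨆ a, O a).ι ''ᵁ ((⨆ a, O a).ι ⁻¹ᵁ O a) = O a by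
          rw [Scheme.Hom.image_preimage_eq_opensRange_inf, Scheme.Opens.opensRange_ι]
          exact inf_eq_right.2 (le_iSup O a)))]
    exact h a

theorem isIso_ι_of_eq_top {U : A.Opens} (h : U = ⊤) : IsIso U.ι := by
  subst h
  exact inferInstanceAs (IsIso (Scheme.topIso A).hom)

theorem restrict_isClosedImmersion_of_immersion [IsImmersion f] {O : B.Opens} (hO : O ≤ f.coborderRange) :
    IsClosedImmersion (f ∣_ O) := by
  refine restrict_of_le f @IsClosedImmersion hO ?_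
  have e : f ∣_ f.coborderRange = (f ⁻¹ᵁ f.coborderRange).ι ≫ f.liftCoborder := by
    rw [← cancel_mono f.coborderRange.ι, morphismRestrict_ι, Category.assoc, Scheme.Hom.liftCoborder_ι]
  have htop : f ⁻¹ᵁ f.coborderRange = ⊤ :=
    eq_top_iff.2 fun x _ => subset_coborder ⟨x, rfl⟩
  haveI := isIso_ι_of_eq_top htop
  rw [e]
  infer_instance

theorem isIso_restrict_of_openImmersion [IsOpenImmersion f] {O : B.Opens} (hO : O ≤ f.opensRange) :
    IsIso (f ∣_ O) := by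
  haveI : IsOpenImmersion (f ∣_ O) := IsZariskiLocalAtTarget.restrict (P := @IsOpenImmersion) inferInstance O
  have hs : Function.Surjective (f ∣_ O).base := fun x => by
    obtain ⟨y, hy⟩ := hO x.2
    refine ⟨⟨y, show f y ∈ O by rw [show f y = x.1 from hy]; exact x.2⟩, Subtype.ext ?_⟩
    exact (morphismRestrict_base_coe f O _).trans hy
  haveI : Epi (f ∣_ O).base := (TopCat.epi_iff_surjective _).2 hs
  exact IsOpenImmersion.isIso _

end scheme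

namespace RData

variable {Y X : Scheme.{u}} {q : X ⟶ Y} (D : RData q)

theorem exists_O {v : D.P} {U : D.P.Opens} (hv : v ∈ U) :
    ∃ (n : ℕ) (s : D.A), 0 < n ∧ s ∈ D.S.deg ⊤ D.hY n ∧ v ∈ D.O s ∧ D.O s ≤ U := by
  let e := RelProj.emb D.p D.chart ⊤ D.hY
  obtain ⟨y, rfl⟩ : v ∈ e.opensRange := by
    refine ⟨(D.chart ⊤ D.hY).hom ⟨v, trivial⟩, ?_⟩
    show ((D.chart ⊤ D.hY).hom ≫ (D.chart ⊤ D.hY).inv ≫ (D.p ⁻¹ᵁ (⊤ : Y.Opens)).ι) ⟨v, trivial⟩ = v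
    rw [Iso.hom_inv_id_assoc]
    rfl
  obtain ⟨n, s, hn, hs, hys, hsU⟩ := GrModLib.exists_basicOpen_le (𝒜 := D.S.deg ⊤ D.hY) (V := e ⁻¹ᵁ U) hv
  exact ⟨n, s, hn, hs, ⟨y, hys, rfl⟩, fun x ⟨z, hz, hzx⟩ => hzx ▸ hsU hz⟩

theorem cover_of_top (htop : RelProj.domQ D.u D.pL D.chartL = ⊤) (x : X) {U : D.P.Opens}
    (hU : D.r ⁻¹ᵁ U = ⊤) :
    ∃ (n : ℕ) (s : D.A), 0 < n ∧ s ∈ D.S.deg ⊤ D.hY n ∧ D.O s ≤ U ∧ x ∈ D.XT s n := by
  haveI := D.isIso_pL
  obtain ⟨z, rfl⟩ := D.pL.homeomorph.surjective x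
  let w : (RelProj.domQ D.u D.pL D.chartL : D.PL.Opens) := ⟨z, by rw [htop]; trivial⟩
  obtain ⟨n, s, hn, hs, hws, hsU⟩ := D.exists_O (show D.r w ∈ U from hU.ge
    (show w ∈ (⊤ : Scheme.Opens (RelProj.domQ D.u D.pL D.chartL : Scheme.{u})) from trivial))
  refine ⟨n, s, hn, hs, hsU, ?_⟩
  exact (D.preimage_O hn hs).le ⟨w, hws, rfl⟩

variable {κ : Type u} (n : κ → ℕ) (s : κ → D.A) (hns : ∀ a, 0 < n a ∧ s a ∈ D.S.deg ⊤ D.hY (n a))
  (hcov : ∀ x : X, ∃ a, x ∈ D.XT (s a) (n a))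

include hns hcov in
theorem domQ_eq_top_of_cover : RelProj.domQ D.u D.pL D.chartL = ⊤ := by
  refine eq_top_iff.2 fun z _ => ?_
  obtain ⟨a, ha⟩ := hcov (D.pL z)
  obtain ⟨w, -, rfl⟩ := (D.preimage_O (hns a).1 (hns a).2).ge ha
  exact w.2

include hns hcov in
theorem preimage_iSup_O : D.r ⁻¹ᵁ (⨆ a, D.O (s a)) = ⊤ := by
  refine eq_top_iff.2 fun w _ => ?_
  obtain ⟨a, ha⟩ := hcov (D.pL ((RelProj.domQ D.u D.pL D.chartL).ι w))
  obtain ⟨w', hw', e⟩ := (D.preimage_O (hns a).1 (hns a).2).ge ha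
  rw [(RelProj.domQ D.u D.pL D.chartL).ι.isOpenEmbedding.injective e] at hw'
  exact (Opens.mem_iSup.2 ⟨a, hw'⟩ : D.r w ∈ ⨆ a, D.O (s a))

include hns hcov in
theorem isImmersion_of_cover (h : ∀ a, IsClosedImmersion (D.r ∣_ D.O (s a))) : IsImmersion D.r := by
  have h1 : IsClosedImmersion (D.r ∣_ ⨆ a, D.O (s a)) := restrict_iSup D.r @IsClosedImmersion _ h
  haveI := h1
  haveI := isIso_ι_of_eq_top (D.preimage_iSup_O n s hns hcov)
  have e : D.r = inv (D.r ⁻¹ᵁ ⨆ a, D.O (s a)).ι ≫ (D.r ∣_ ⨆ a, D.O (s a)) ≫ (⨆ a, D.O (s a)).ι := by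
    rw [morphismRestrict_ι, IsIso.inv_hom_id_assoc]
  rw [e]
  infer_instance

include hns hcov in
theorem isOpenImmersion_of_cover (h : ∀ a, IsIso (D.r ∣_ D.O (s a))) : IsOpenImmersion D.r := by
  have h1 : IsIso (D.r ∣_ ⨆ a, D.O (s a)) := restrict_iSup D.r (MorphismProperty.isomorphisms Scheme.{u}) _ h
  haveI := h1
  haveI := isIso_ι_of_eq_top (D.preimage_iSup_O n s hns hcov)
  have e : D.r = inv (D.r ⁻¹ᵁ ⨆ a, D.O (s a)).ι ≫ (D.r ∣_ ⨆ a, D.O (s a)) ≫ (⨆ a, D.O (s a)).ι := by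
    rw [morphismRestrict_ι, IsIso.inv_hom_id_assoc]
  rw [e]
  infer_instance

omit hns in
theorem isClosedImmersion_of_cover
    (hP : (⨆ a, Proj.basicOpen (D.S.deg ⊤ D.hY) (s a)) = (⊤ : (Proj (D.S.deg ⊤ D.hY)).Opens))
    (h : ∀ a, IsClosedImmersion (D.r ∣_ D.O (s a))) : IsClosedImmersion D.r := by
  refine IsZariskiLocalAtTarget.of_iSup_eq_top (P := @IsClosedImmersion) (fun a => D.O (s a)) ?_ h
  refine eq_top_iff.2 fun v _ => ?_
  obtain ⟨n', s', -, -, ⟨y, -, rfl⟩, -⟩ := D.exists_O (U := ⊤) (show v ∈ (⊤ : D.P.Opens) from trivial)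
  obtain ⟨a, ha⟩ := Opens.mem_iSup.1 (hP.ge (show y ∈ (⊤ : (Proj (D.S.deg ⊤ D.hY)).Opens) from trivial))
  exact Opens.mem_iSup.2 ⟨a, y, ha, rfl⟩

end RData

end Groth.Agent.RelProjLib
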