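import Groth.Agent.RelProjLib.RLoc

/-! Sections of tensor powers as sections of the symmetric algebra of an invertible module. -/

set_option autoImplicit false
set_option linter.style.haveILetI false
set_option linter.unusedSectionVars false
set_option backward.isDefEq.respectTransparency false

universe u

open CategoryTheory CategoryTheory.Limits AlgebraicGeometry TopologicalSpace Opposite
open Groth.Agent.ParaFLib Groth.Agent.RelSpecLib Groth.Agent.AmpleLib

noncomputable section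

namespace Groth.Agent.RelProjLib

variable {X : Scheme.{u}} {L : X.Modules} [Coh.IsQCoh L] {T : RelProj.QCGrAlg X} {j : L ⟶ T.toModule}
  (hj : RelProj.IsGrSymAlg L T j)

include hj in
/-- The element of degree `n` attached to a section of `L^{⊗ n}`. -/
theorem exists_powSec (hL : PicF.IsInvertible L) {O : X.Opens} (n : ℕ) (ξ : Γ(CohB1.tensorPow L n, O)) :
    ∃ a : T.presheaf.obj (op O), HomSec a n ∧ ∀ (V : X.Opens) (hV : IsAffineOpen V) (hVO : V ≤ O) (e : Γ(L, V))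
      (_ : Gen V e) (c : Γ(X, V)), c • powLoc e n = (CohB1.tensorPow L n).presheaf.map (homOfLE hVO).op ξ →
        rz a V hVO = (T.str.app (op V)).hom c * (gen₁ hV hj e).1 ^ n := by
  classical
  have hex : ∀ x : O, ∃ (V : X.Opens) (_ : IsAffineOpen V) (e : Γ(L, V)), x.1 ∈ V ∧ V ≤ O ∧ Gen V e := fun x =>
    exists_triv x.1 hL x.2
  choose V hV e hxV hVO he using hex
  have hcoef : ∀ x : O, ∃ c : Γ(X, V x), c • powLoc (e x) n =
      (CohB1.tensorPow L n).presheaf.map (homOfLE (hVO x)).op ξ := fun x => by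
    obtain ⟨c, hc⟩ := (gen_powLoc (he x) n (V x) le_rfl).2 ((CohB1.tensorPow L n).presheaf.map (homOfLE (hVO x)).op ξ)
    simp only [res_self] at hc
    exact ⟨c, hc⟩
  choose c hc using hcoef
  let b : ∀ x : O, T.presheaf.obj (op (V x)) := fun x => (T.str.app (op (V x))).hom (c x) * (gen₁ (hV x) hj (e x)).1 ^ n
  have key : ∀ (x : O) (A : X.Opens) (hA : IsAffineOpen A) (hAV : A ≤ V x) (e' : Γ(L, A)) (_ : Gen A e') (c' : Γ(X, A)),
      c' • powLoc e' n = (CohB1.tensorPow L n).presheaf.map (homOfLE (hAV.trans (hVO x))).op ξ →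
      rz (b x) A hAV = (T.str.app (op A)).hom c' * (gen₁ hA hj e').1 ^ n := by
    intro x A hA hAV e' he' c' hc'
    obtain ⟨f, hf⟩ := (he' A le_rfl).2 (L.presheaf.map (homOfLE hAV).op (e x))
    simp only [res_self] at hf
    have hcc : c' = X.presheaf.map (homOfLE hAV).op (c x) * f ^ n := by
      have h := gen_powLoc he' n A le_rfl
      simp only [res_self] at h
      refine h.1 ?_
      show c' • powLoc e' n = (_ * f ^ n) • powLoc e' n
      rw [hc', ← smul_smul, ← powLoc_smul, hf, ← powLoc_res, ← (CohB1.tensorPow L n).map_smul, hc, ParaFLib.res_res]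
    show (T.presheaf.map (homOfLE hAV).op).hom _ = _
    rw [coeff_res hj (hV x) hA hAV, hcc, map_mul, map_pow, mul_assoc, ← mul_pow]
    congr 2
    show jsec T.toQCAlg j (L.presheaf.map (homOfLE hAV).op (e x)) = (T.str.app (op A)).hom f * jsec T.toQCAlg j e'
    rw [← jsec_smul, hf]
  have hb : TopCat.Presheaf.IsCompatible T.presheaf V b := fun x y => by
    have hloc : ∀ z : (V x ⊓ V y : X.Opens), ∃ (A : X.Opens) (_ : IsAffineOpen A), z.1 ∈ A ∧ A ≤ V x ⊓ V y := fun z => by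
      obtain ⟨_, ⟨A, hA, rfl⟩, hzA, hle⟩ := X.isBasis_affineOpens.exists_subset_of_mem_open z.2 (V x ⊓ V y).2
      exact ⟨A, hA, hzA, hle⟩
    choose A hA hzA hle using hloc
    refine TopCat.Sheaf.eq_of_locally_eq' ⟨T.presheaf, T.isSheaf⟩ A (V x ⊓ V y) (fun z => homOfLE (hle z))
      (fun z hz => Opens.mem_iSup.2 ⟨⟨z, hz⟩, hzA _⟩) _ _ fun z => ?_
    have h1 : A z ≤ V x := (hle z).trans inf_le_left
    have h2 : A z ≤ V y := (hle z).trans inf_le_right
    show rz (rz (b x) _ inf_le_left) (A z) (hle z) = rz (rz (b y) _ inf_le_right) (A z) (hle z)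
    rw [rz_rz, rz_rz]
    obtain ⟨c', hc'⟩ := (gen_powLoc ((he x).res h1) n (A z) le_rfl).2
      ((CohB1.tensorPow L n).presheaf.map (homOfLE (h1.trans (hVO x))).op ξ)
    simp only [res_self] at hc'
    rw [key x (A z) (hA z) h1 _ ((he x).res h1) c' hc', key y (A z) (hA z) h2 _ ((he x).res h1) c' hc']
  obtain ⟨a, ha, -⟩ := TopCat.Sheaf.existsUnique_gluing' ⟨T.presheaf, T.isSheaf⟩ V O (fun x => homOfLE (hVO x))
    (fun y hy => Opens.mem_iSup.2 ⟨⟨y, hy⟩, hxV _⟩) b hb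
  refine ⟨a, fun W hW hWO => ?_, fun W hW hWO e' he' c' hc' => ?_⟩
  · refine mem_deg_of_local hW _ fun y hy => ?_
    obtain ⟨_, ⟨A, hA, rfl⟩, hyA, hle⟩ := X.isBasis_affineOpens.exists_subset_of_mem_open
      (show y ∈ W ⊓ V ⟨y, hWO hy⟩ from ⟨hy, hxV _⟩) (W ⊓ V ⟨y, hWO hy⟩).2
    have hle' : A ≤ W ⊓ V ⟨y, hWO hy⟩ := hle
    refine ⟨A, hA, hle'.trans inf_le_left, hyA, ?_⟩
    rw [rz_res, ← rz_res a (hVO ⟨y, hWO hy⟩) (hle'.trans inf_le_right)]
    show rz (rz a (V ⟨y, hWO hy⟩) (hVO _)) A _ ∈ _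
    rw [show rz a (V ⟨y, hWO hy⟩) (hVO _) = b ⟨y, hWO hy⟩ from ha ⟨y, hWO hy⟩]
    show (T.presheaf.map _).hom _ ∈ _
    rw [coeff_res hj (hV _) hA]
    exact str_mul_pow_mem hA hj _ _ _
  · have hloc : ∀ z : W, ∃ (A : X.Opens) (_ : IsAffineOpen A), z.1 ∈ A ∧ A ≤ W ⊓ V ⟨z.1, hWO z.2⟩ := fun z => by
      obtain ⟨_, ⟨A, hA, rfl⟩, hzA, hle⟩ := X.isBasis_affineOpens.exists_subset_of_mem_open
        (show z.1 ∈ W ⊓ V ⟨z.1, hWO z.2⟩ from ⟨z.2, hxV _⟩) (W ⊓ V ⟨z.1, hWO z.2⟩).2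
      exact ⟨A, hA, hzA, hle⟩
    choose A hA hzA hle using hloc
    refine TopCat.Sheaf.eq_of_locally_eq' ⟨T.presheaf, T.isSheaf⟩ A W (fun z => homOfLE ((hle z).trans inf_le_left))
      (fun z hz => Opens.mem_iSup.2 ⟨⟨z, hz⟩, hzA _⟩) _ _ fun z => ?_
    let x : O := ⟨z.1, hWO z.2⟩
    have h1 : A z ≤ W := (hle z).trans inf_le_left
    have h2 : A z ≤ V x := (hle z).trans inf_le_right
    show rz (rz a W hWO) (A z) h1 = (T.presheaf.map (homOfLE h1).op).hom _
    rw [rz_rz, ← rz_rz a (hVO x) h2, show rz a (V x) (hVO x) = b x from ha x,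
      key x (A z) (hA z) h2 _ (he'.res h1) (X.presheaf.map (homOfLE h1).op c') ?_, coeff_res hj hW (hA z) h1]
    rw [← powLoc_res, ← (CohB1.tensorPow L n).map_smul, hc', ParaFLib.res_res]

/-- The open of `X` under an open of an open subscheme lies in it. -/
theorem image_le {O : X.Opens} (V' : (O : Scheme.{u}).Opens) : O.ι ''ᵁ V' ≤ O :=
  (O.ι.image_le_opensRange V').trans O.opensRange_ι.le

include hj in
/-- The locus of a section of a power is the locus of its element of degree `n`. -/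
theorem nv_eq_image_genLocus (hL : PicF.IsInvertible L) {O : X.Opens} {n : ℕ} (a : T.presheaf.obj (op O))
    (t' : Coh.structureModule (O : Scheme.{u}) ⟶ (CohB1.tensorPow L n).restrict O.ι)
    (ξ : Γ(CohB1.tensorPow L n, O))
    (hξ : ξ = (CohB1.tensorPow L n).presheaf.map (homOfLE O.ι_image_top.ge).op (sec t'))
    (hspec : ∀ (V : X.Opens) (hV : IsAffineOpen V) (hVO : V ≤ O) (e : Γ(L, V))
      (_ : Gen V e) (c : Γ(X, V)), c • powLoc e n = (CohB1.tensorPow L n).presheaf.map (homOfLE hVO).op ξ →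
        rz a V hVO = (T.str.app (op V)).hom c * (gen₁ hV hj e).1 ^ n) :
    nv a n = O.ι ''ᵁ CohB1.genLocus _ t' := by
  refine TopologicalSpace.Opens.ext (Set.ext fun y => ?_)
  by_cases hy : y ∈ O
  swap
  · exact ⟨fun h => (hy (nv_le a n h)).elim, fun h => (hy (image_le _ h)).elim⟩
  obtain ⟨V, hV, e, hyV, hVO, he⟩ := exists_triv y hL hy
  let V' := O.ι ⁻¹ᵁ V
  have hV' : O.ι ''ᵁ V' = V := by
    rw [Scheme.Hom.image_preimage_eq_opensRange_inf, Scheme.Opens.opensRange_ι]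
    exact inf_eq_right.2 hVO
  let e' := L.presheaf.map (homOfLE hV'.le).op e
  have he' : Gen (O.ι ''ᵁ V') e' := he.res _
  have hA : IsAffineOpen (O.ι ''ᵁ V') := hV' ▸ hV
  obtain ⟨c, hc⟩ := (gen_powLoc he' n _ le_rfl).2
    ((CohB1.tensorPow L n).presheaf.map (homOfLE (image_le V')).op ξ)
  simp only [res_self] at hc
  have h1 := mem_nv_iff a n hj hA (image_le V') he' (hspec _ hA (image_le V') e' he' c hc).symm
    (x := y) (hV'.ge hyV)
  have hG := (gen_restrict_iff O.ι (CohB1.tensorPow L n) V' (powLoc e' n)).2 (gen_powLoc he' n)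
  have h2 : CohB1.genLocus _ t' ⊓ V' = (O : Scheme.{u}).basicOpen ((O.ι.appIso V').hom c) := by
    refine genLocus_inf_eq_basicOpen t' hG ?_
    show ((O.ι.appIso V').inv ((O.ι.appIso V').hom c)) • powLoc e' n = _
    rw [Iso.hom_inv_id_apply, hc, hξ, ParaFLib.res_res]
    rfl
  have h3 : O.ι ''ᵁ (O : Scheme.{u}).basicOpen ((O.ι.appIso V').hom c) = X.basicOpen c := by
    rw [Scheme.image_basicOpen, Iso.hom_inv_id_apply]
  refine h1.trans ?_
  rw [← h3, ← h2]
  refine ⟨fun ⟨w, hw, e⟩ => ⟨w, hw.1, e⟩, fun ⟨w, hw, e⟩ => ⟨w, ⟨hw, ?_⟩, e⟩⟩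
  show O.ι w ∈ V
  rw [show O.ι w = y from e]
  exact hyV

include hj in
/-- The section of `L^{⊗ n}` of an element of degree `n`. -/
theorem exists_tensorSec (hL : PicF.IsInvertible L) {O : X.Opens} {n : ℕ} (a : T.presheaf.obj (op O)) (ha : HomSec a n) :
    ∃ ξ : Γ(CohB1.tensorPow L n, O), ∀ (V : X.Opens) (hV : IsAffineOpen V) (hVO : V ≤ O) (e : Γ(L, V))
      (_ : Gen V e) (c : Γ(X, V)), c • powLoc e n = (CohB1.tensorPow L n).presheaf.map (homOfLE hVO).op ξ →
        rz a V hVO = (T.str.app (op V)).hom c * (gen₁ hV hj e).1 ^ n := by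
  classical
  have hex : ∀ x : O, ∃ (V : X.Opens) (_ : IsAffineOpen V) (e : Γ(L, V)), x.1 ∈ V ∧ V ≤ O ∧ Gen V e := fun x =>
    exists_triv x.1 hL x.2
  choose V hV e hxV hVO he using hex
  choose c hc _ using fun x : O => existsUnique_coeff (hV x) hj (he x) (ha (V x) (hV x) (hVO x))
  let b : ∀ x : O, Γ(CohB1.tensorPow L n, V x) := fun x => c x • powLoc (e x) n
  have key : ∀ (x : O) (A : X.Opens) (hA : IsAffineOpen A) (hAV : A ≤ V x) (e' : Γ(L, A)) (_ : Gen A e') (c' : Γ(X, A)),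
      (T.str.app (op A)).hom c' * (gen₁ hA hj e').1 ^ n = rz a A (hAV.trans (hVO x)) →
      (CohB1.tensorPow L n).presheaf.map (homOfLE hAV).op (b x) = c' • powLoc e' n := by
    intro x A hA hAV e' he' c' hc'
    obtain ⟨f, hf⟩ := (he' A le_rfl).2 (L.presheaf.map (homOfLE hAV).op (e x))
    simp only [res_self] at hf
    have hcc : c' = X.presheaf.map (homOfLE hAV).op (c x) * f ^ n := by
      refine str_mul_pow_injective hA hj he' n ?_
      dsimp only
      rw [hc', ← rz_rz a (hVO x) hAV, ← hc x]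
      show (T.presheaf.map (homOfLE hAV).op).hom _ = _
      rw [coeff_res hj (hV x) hA hAV, map_mul, map_pow, mul_assoc, ← mul_pow]
      congr 2
      show jsec T.toQCAlg j (L.presheaf.map (homOfLE hAV).op (e x)) = (T.str.app (op A)).hom f * jsec T.toQCAlg j e'
      rw [← jsec_smul, hf]
    rw [hcc, ← smul_smul, ← powLoc_smul, hf, ← powLoc_res, ← (CohB1.tensorPow L n).map_smul]
  let F : TopCat.Sheaf Ab.{u} X.carrier := ⟨(CohB1.tensorPow L n).presheaf, (CohB1.tensorPow L n).isSheaf⟩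
  have hb : TopCat.Presheaf.IsCompatible F.obj V b := fun x y => by
    have hloc : ∀ z : (V x ⊓ V y : X.Opens), ∃ (A : X.Opens) (_ : IsAffineOpen A), z.1 ∈ A ∧ A ≤ V x ⊓ V y := fun z => by
      obtain ⟨_, ⟨A, hA, rfl⟩, hzA, hle⟩ := X.isBasis_affineOpens.exists_subset_of_mem_open z.2 (V x ⊓ V y).2
      exact ⟨A, hA, hzA, hle⟩
    choose A hA hzA hle using hloc
    refine F.eq_of_locally_eq' A (V x ⊓ V y) (fun z => homOfLE (hle z))
      (fun z hz => Opens.mem_iSup.2 ⟨⟨z, hz⟩, hzA _⟩) _ _ fun z => ?_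
    have h1 : A z ≤ V x := (hle z).trans inf_le_left
    have h2 : A z ≤ V y := (hle z).trans inf_le_right
    show (CohB1.tensorPow L n).presheaf.map (homOfLE (hle z)).op
        ((CohB1.tensorPow L n).presheaf.map (homOfLE inf_le_left).op (b x)) =
      (CohB1.tensorPow L n).presheaf.map (homOfLE (hle z)).op
        ((CohB1.tensorPow L n).presheaf.map (homOfLE inf_le_right).op (b y))
    rw [ParaFLib.res_res, ParaFLib.res_res]
    obtain ⟨c', hc', -⟩ := existsUnique_coeff (hA z) hj ((he x).res h1) (ha (A z) (hA z) (h1.trans (hVO x)))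
    rw [key x (A z) (hA z) h1 _ ((he x).res h1) c' hc', key y (A z) (hA z) h2 _ ((he x).res h1) c' hc']
  obtain ⟨ξ, hξ, -⟩ := F.existsUnique_gluing' V O (fun x => homOfLE (hVO x))
    (fun y hy => Opens.mem_iSup.2 ⟨⟨y, hy⟩, hxV _⟩) b hb
  refine ⟨ξ, fun W hW hWO e' he' c' hc' => ?_⟩
  obtain ⟨d', hd', -⟩ := existsUnique_coeff hW hj he' (ha W hW hWO)
  rw [← hd']
  suffices c' = d' by rw [this]
  have h := gen_powLoc he' n W le_rfl
  simp only [res_self] at h
  refine h.1 ?_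
  show c' • powLoc e' n = d' • powLoc e' n
  rw [hc']
  have hloc : ∀ z : W, ∃ (A : X.Opens) (_ : IsAffineOpen A), z.1 ∈ A ∧ A ≤ W ⊓ V ⟨z.1, hWO z.2⟩ := fun z => by
    obtain ⟨_, ⟨A, hA, rfl⟩, hzA, hle⟩ := X.isBasis_affineOpens.exists_subset_of_mem_open
      (show z.1 ∈ W ⊓ V ⟨z.1, hWO z.2⟩ from ⟨z.2, hxV _⟩) (W ⊓ V ⟨z.1, hWO z.2⟩).2
    exact ⟨A, hA, hzA, hle⟩
  choose A hA hzA hle using hloc
  refine F.eq_of_locally_eq' A W (fun z => homOfLE ((hle z).trans inf_le_left))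
    (fun z hz => Opens.mem_iSup.2 ⟨⟨z, hz⟩, hzA _⟩) _ _ fun z => ?_
  let x : O := ⟨z.1, hWO z.2⟩
  have h1 : A z ≤ W := (hle z).trans inf_le_left
  have h2 : A z ≤ V x := (hle z).trans inf_le_right
  show (CohB1.tensorPow L n).presheaf.map (homOfLE h1).op ((CohB1.tensorPow L n).presheaf.map (homOfLE hWO).op ξ) =
    (CohB1.tensorPow L n).presheaf.map (homOfLE h1).op (d' • powLoc e' n)
  rw [ParaFLib.res_res, (CohB1.tensorPow L n).map_smul, powLoc_res,
    ← key x (A z) (hA z) h2 _ (he'.res h1) (X.presheaf.map (homOfLE h1).op d')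
      ((coeff_res hj hW (hA z) h1 e' d' n).symm.trans ((congrArg _ hd').trans (rz_res a hWO h1))),
    show b x = (CohB1.tensorPow L n).presheaf.map (homOfLE (hVO x)).op ξ from (hξ x).symm, ParaFLib.res_res]

include hj in
/-- An open is an ample locus when small loci of homogeneous sections form a basis. -/
theorem ampleOn_of_small {O : X.Opens} (hL : PicF.IsInvertible L) (hO : IsCompact (O : Set X))
    (h : ∀ x ∈ O, ∀ N : X.Opens, x ∈ N → ∃ (n : ℕ) (_ : 0 < n) (a : T.presheaf.obj (op O)),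
      HomSec a n ∧ x ∈ nv a n ∧ nv a n ≤ N) : AmpleOn L O := by
  haveI : CompactSpace (O : Scheme.{u}) := isCompact_iff_compactSpace.1 hO
  refine isAmple_of_isBasis (isInvertible_restrict O.ι hL) (Opens.isBasis_iff_nbhd.2 fun {N' x} hx => ?_)
  obtain ⟨n, hn, a, ha, hxa, haN⟩ := h (O.ι x) x.2 (O.ι ''ᵁ N') ⟨x, hx, rfl⟩
  obtain ⟨m, rfl⟩ := Nat.exists_eq_add_of_le' hn
  obtain ⟨ξ, hspec⟩ := exists_tensorSec hj hL a ha
  let t' : Coh.structureModule (O : Scheme.{u}) ⟶ (CohB1.tensorPow L (m + 1)).restrict O.ι :=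
    DCohLib.secHom _ ((CohB1.tensorPow L (m + 1)).presheaf.map (homOfLE O.ι_image_top.le).op ξ)
  have heq := nv_eq_image_genLocus hj hL a t' ξ (by
    rw [sec_secHom]
    show ξ = _
    exact ((ParaFLib.res_res _ _ ξ).trans (res_self _ ξ)).symm) hspec
  refine ⟨CohB1.genLocus _ t', ⟨m, t' ≫ (restrictPow O.ι L (m + 1)).hom, (genLocus_comp_iso t' _).symm⟩, ?_, ?_⟩
  · rw [heq] at hxa
    obtain ⟨w, hw, e⟩ := hxa
    exact O.ι.isOpenEmbedding.injective e ▸ hw
  · intro w hw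
    obtain ⟨w', hw', e⟩ := haN (heq.ge ⟨w, hw, rfl⟩)
    exact O.ι.isOpenEmbedding.injective e ▸ hw'

include hj in
/-- Ampleness on an open gives homogeneous sections with small affine loci. -/
theorem exists_small_nv {O : X.Opens} (hL : PicF.IsInvertible L) (hamp : AmpleOn L O) {x : X} (hx : x ∈ O)
    {N : X.Opens} (hxN : x ∈ N) :
    ∃ (n : ℕ) (_ : 0 < n) (a : T.presheaf.obj (op O)), HomSec a n ∧ x ∈ nv a n ∧ nv a n ≤ N ∧
      IsAffineOpen (nv a n) := by
  obtain ⟨m, t, hxt, htN, hta⟩ := exists_small_genLocus hamp (U := O.ι ⁻¹ᵁ N) (x := ⟨x, hx⟩) hxN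
  let t' := t ≫ (restrictPow O.ι L (m + 1)).inv
  have hgl : CohB1.genLocus _ t' = CohB1.genLocus _ t := genLocus_comp_iso t (restrictPow O.ι L (m + 1)).symm
  rw [← hgl] at hxt htN hta
  let ξ : Γ(CohB1.tensorPow L (m + 1), O) :=
    (CohB1.tensorPow L (m + 1)).presheaf.map (homOfLE O.ι_image_top.ge).op (sec t')
  obtain ⟨a, ha, hspec⟩ := exists_powSec hj hL (m + 1) ξ
  have heq := nv_eq_image_genLocus hj hL a t' ξ rfl hspec
  refine ⟨m + 1, Nat.succ_pos m, a, ha, ?_, ?_, ?_⟩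
  · rw [heq]; exact ⟨⟨x, hx⟩, hxt, rfl⟩
  · rw [heq]; rintro _ ⟨w, hw, rfl⟩; exact htN hw
  · rw [heq]; exact hta.image_of_isOpenImmersion O.ι

end Groth.Agent.RelProjLib
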