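import Groth.Agent.RelProjLib.RLpsi
import Groth.Agent.S12143
import Groth.Agent.S12144

/-! The morphism attached to an invertible module, over a standard open of the target. -/

set_option autoImplicit false
set_option linter.style.haveILetI false
set_option backward.isDefEq.respectTransparency false

universe u

open CategoryTheory CategoryTheory.Limits AlgebraicGeometry TopologicalSpace Opposite
open Groth.Agent.RelSpecLib

noncomputable section

namespace Groth.Agent.RelProjLib

/-- All the data of `r_{L,ψ}` over an affine base. -/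
structure RData {Y X : Scheme.{u}} (q : X ⟶ Y) where
  L : X.Modules
  hL : PicF.IsInvertible L
  hLq : Coh.IsQCoh L
  S : RelProj.QCGrAlg Y
  T : RelProj.QCGrAlg X
  j : L ⟶ T.toModule
  hj : RelProj.IsGrSymAlg L T j
  u : RelProj.QGrHom q S T
  P : Scheme.{u}
  p : P ⟶ Y
  chart : ∀ (U : Y.Opens) (hU : IsAffineOpen U), (((p ⁻¹ᵁ U : P.Opens) : Scheme.{u}) ≅ Proj (S.deg U hU))
  hP : RelProj.IsRelProj S p chart
  PL : Scheme.{u}
  pL : PL ⟶ X
  chartL : ∀ (U : X.Opens) (hU : IsAffineOpen U), (((pL ⁻¹ᵁ U : PL.Opens) : Scheme.{u}) ≅ Proj (T.deg U hU))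
  hPL : RelProj.IsRelProj T pL chartL
  r : ((RelProj.domQ u pL chartL : PL.Opens) : Scheme.{u}) ⟶ P
  hr : RelProj.IsProjQMapOn u p chart pL chartL (RelProj.domQ u pL chartL) r
  hY : IsAffineOpen (⊤ : Y.Opens)

namespace RData

variable {Y X : Scheme.{u}} {q : X ⟶ Y} (D : RData q)

/-- The ring of global sections of the algebra on the base. -/
abbrev A : Type u := D.S.presheaf.obj (op ⊤)

/-- The standard open of `s`. -/
abbrev O (s : D.A) : D.P.Opens :=
  (RelProj.emb D.p D.chart ⊤ D.hY) ''ᵁ Proj.basicOpen (D.S.deg ⊤ D.hY) s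

/-- Where `ψ(s)` does not vanish. -/
abbrev XT (s : D.A) (n : ℕ) : X.Opens := xT D.u s n

theorem isIso_pL : IsIso D.pL := Groth.Agent.S12143.result D.L D.hL D.hLq D.T D.j D.hj D.pL D.chartL D.hPL

theorem preimage_O {n : ℕ} (hn : 0 < n) {s : D.A} (hs : s ∈ D.S.deg ⊤ D.hY n) :
    (RelProj.domQ D.u D.pL D.chartL).ι ''ᵁ (D.r ⁻¹ᵁ D.O s) = D.pL ⁻¹ᵁ D.XT s n :=
  Groth.Agent.S12144.result q D.L D.hL D.hLq D.S D.T D.j D.hj D.u D.p D.chart D.hP D.pL D.chartL D.hPL D.r D.hr
    D.hY n hn s hs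

theorem isAffineOpen_O {n : ℕ} (hn : 0 < n) {s : D.A} (hs : s ∈ D.S.deg ⊤ D.hY n) : IsAffineOpen (D.O s) :=
  (Proj.isAffineOpen_basicOpen (D.S.deg ⊤ D.hY) s hs hn).image_of_isOpenImmersion (RelProj.emb D.p D.chart ⊤ D.hY)

theorem isAffineOpen_XT {n : ℕ} (hn : 0 < n) {s : D.A} (hs : s ∈ D.S.deg ⊤ D.hY n) [IsAffineHom (D.r ∣_ D.O s)] :
    IsAffineOpen (D.XT s n) := by
  haveI := D.isIso_pL
  haveI : IsAffine (D.O s : Scheme.{u}) := D.isAffineOpen_O hn hs
  have h1 : IsAffineOpen (D.r ⁻¹ᵁ D.O s) := isAffine_of_isAffineHom (D.r ∣_ D.O s)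
  have h2 := (h1.image_of_isOpenImmersion (RelProj.domQ D.u D.pL D.chartL).ι).image_of_isOpenImmersion D.pL
  rwa [D.preimage_O hn hs, Scheme.Hom.image_preimage_eq_opensRange_inf, Scheme.Hom.opensRange_of_isIso,
    top_inf_eq] at h2

variable {n : ℕ} (hn : 0 < n) {s : D.A} (hs : s ∈ D.S.deg ⊤ D.hY n) (hW : IsAffineOpen (D.XT s n))

/-- The chart over `X_t`. -/
abbrev idx : QMap.Idx (g := q) (𝒮 := D.S) :=
  ⟨⊤, D.hY, D.XT s n, hW, le_top.trans (Scheme.Hom.preimage_top q).ge, n, hn, s, hs⟩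

/-- `ψ` over `X_t`. -/
abbrev ψ : D.S.deg ⊤ D.hY →+*ᵍ D.T.deg (D.XT s n) hW :=
  D.u.gradedAt ⊤ D.hY (D.XT s n) hW (le_top.trans (Scheme.Hom.preimage_top q).ge)

/-- The ring map of `r` over `D_+(s)`. -/
abbrev φ : HomogeneousLocalization.Away (D.S.deg ⊤ D.hY) s →+*
    HomogeneousLocalization.Away (D.T.deg (D.XT s n) hW) (D.ψ hW s) :=
  HomogeneousLocalization.Away.map (D.ψ hW) s

theorem range_cMap_idx :
    Set.range (QMap.cMap D.u D.pL D.chartL (D.idx hn hs hW)).base = ↑(D.pL ⁻¹ᵁ D.XT s n) := by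
  refine Set.ext fun z => ⟨?_, fun hz => ?_⟩
  · rw [QMap.range_cMap]
    rintro ⟨y, -, rfl⟩
    exact ((D.chartL (D.XT s n) hW).inv y).2
  · obtain ⟨w, hw, rfl⟩ := (D.preimage_O hn hs).ge hz
    obtain ⟨v, hv, hvw⟩ := hw
    refine QMap.mem_chart_of_map_mem D.hP D.hPL D.hr ⊤ D.hY _ hW _ n hn s hs w hz ?_
    obtain ⟨c, hc⟩ : v ∈ (Proj.awayι (D.S.deg ⊤ D.hY) s hs hn).opensRange := by
      rw [Proj.opensRange_awayι]; exact hv
    exact ⟨c, (congrArg (RelProj.emb D.p D.chart ⊤ D.hY).base hc).trans hvw⟩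

theorem opensRange_target :
    (Proj.awayι (D.S.deg ⊤ D.hY) s hs hn ≫ RelProj.emb D.p D.chart ⊤ D.hY).opensRange = D.O s := by
  rw [Scheme.Hom.opensRange_comp, Proj.opensRange_awayι]

/-- `r` over `D_+(s)` is the map of the degree-zero localisations. -/
theorem isPullback :
    IsPullback (Spec.map (CommRingCat.ofHom (D.φ hW)))
      (QMap.lMap D.u D.pL D.chartL (D.idx hn hs hW))
      (Proj.awayι (D.S.deg ⊤ D.hY) s hs hn ≫ RelProj.emb D.p D.chart ⊤ D.hY) D.r := by
  refine IsOpenImmersion.isPullback _ _ _ _ (QMap.lMap_comp D.hr (D.idx hn hs hW)) ?_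
  rw [D.opensRange_target hn hs]
  refine TopologicalSpace.Opens.ext (Set.ext fun w => ?_)
  have hiff : w ∈ D.r ⁻¹ᵁ D.O s ↔ (RelProj.domQ D.u D.pL D.chartL).ι w ∈ D.pL ⁻¹ᵁ D.XT s n := by
    rw [← D.preimage_O hn hs]
    exact ((RelProj.domQ D.u D.pL D.chartL).ι.isOpenEmbedding.injective.mem_set_image).symm
  refine hiff.trans ?_
  have hr2 := Set.ext_iff.1 (D.range_cMap_idx hn hs hW) ((RelProj.domQ D.u D.pL D.chartL).ι w)
  refine hr2.symm.trans ⟨?_, ?_⟩
  · rintro ⟨y, hy⟩
    refine ⟨y, (RelProj.domQ D.u D.pL D.chartL).ι.isOpenEmbedding.injective ?_⟩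
    exact (congrArg (fun g => g y) (QMap.lMap_ι D.u D.pL D.chartL (D.idx hn hs hW))).trans hy
  · rintro ⟨y, rfl⟩
    exact ⟨y, (congrArg (fun g => g y) (QMap.lMap_ι D.u D.pL D.chartL (D.idx hn hs hW))).symm⟩

include hn hs in
theorem restrict_iff (Q : MorphismProperty Scheme.{u}) [Q.RespectsIso] :
    Q (D.r ∣_ D.O s) ↔ Q (Spec.map (CommRingCat.ofHom (D.φ hW))) := by
  have h := D.isPullback hn hs hW
  rw [← D.opensRange_target hn hs, MorphismProperty.arrow_mk_iso_iff Q (morphismRestrictOpensRange D.r _),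
    ← h.flip.isoPullback_inv_snd, MorphismProperty.cancel_left_of_respectsIso (P := Q)]

include hn hs in
/-- On `X_t` every degree-zero fraction is a function. -/
theorem bijective_strAway :
    Function.Bijective ((HomogeneousLocalization.fromZeroRingHom (D.T.deg (D.XT s n) hW)
      (Submonoid.powers (D.ψ hW s))).comp (D.T.strZero (D.XT s n) hW).hom) := by
  haveI := D.isIso_pL
  let k := D.idx hn hs hW
  let φ' := D.T.strZero (D.XT s n) hW ≫ CommRingCat.ofHom
    (HomogeneousLocalization.fromZeroRingHom (D.T.deg (D.XT s n) hW) (Submonoid.powers (D.ψ hW s)))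
  have hcomp : QMap.cMap D.u D.pL D.chartL k ≫ D.pL = Spec.map φ' ≫ hW.fromSpec := by
    show (Proj.awayι _ _ _ _ ≫ RelProj.emb D.pL D.chartL _ hW) ≫ D.pL = _
    rw [Category.assoc]
    exact QMap.awayι_emb D.hPL (D.XT s n) hW hn _ _
  have hopen : IsOpenImmersion (Spec.map φ' ≫ hW.fromSpec) := by rw [← hcomp]; infer_instance
  haveI : IsOpenImmersion (Spec.map φ') := IsOpenImmersion.of_comp _ hW.fromSpec
  have hsurj : Function.Surjective (Spec.map φ').base := fun x => by
    obtain ⟨z, hz⟩ := D.pL.homeomorph.surjective (hW.fromSpec x)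
    have hzW : z ∈ D.pL ⁻¹ᵁ D.XT s n := by
      show D.pL z ∈ D.XT s n
      rw [show D.pL z = hW.fromSpec x from hz]
      exact hW.opensRange_fromSpec.le ⟨x, rfl⟩
    obtain ⟨y, rfl⟩ := (D.range_cMap_idx hn hs hW).ge hzW
    exact ⟨y, hW.fromSpec.isOpenEmbedding.injective ((congrArg (fun g => g y) hcomp).symm.trans hz)⟩
  haveI : Epi (Spec.map φ').base := (TopCat.epi_iff_surjective _).2 hsurj
  haveI : IsIso (Spec.map φ') := IsOpenImmersion.isIso _
  have : IsIso φ' := isIso_of_fully_faithful_op_Spec φ'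
  exact (ConcreteCategory.isIso_iff_bijective φ').1 this
where
  isIso_of_fully_faithful_op_Spec {R R' : CommRingCat.{u}} (g : R ⟶ R') [IsIso (Spec.map g)] : IsIso g := by
    haveI : IsIso (Scheme.Spec.map g.op) := inferInstanceAs (IsIso (Spec.map g))
    haveI := isIso_of_fully_faithful Scheme.Spec g.op
    exact isIso_of_op g

theorem val_strAway (t : Γ(X, D.XT s n)) :
    (((HomogeneousLocalization.fromZeroRingHom (D.T.deg (D.XT s n) hW) (Submonoid.powers (D.ψ hW s))).comp
      (D.T.strZero (D.XT s n) hW).hom) t).val = Localization.mk ((D.T.str.app (op (D.XT s n))).hom t) 1 := rfl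

include hn hs in
/-- Surjectivity of `φ`, spelled out. -/
theorem surjective_φ_iff :
    Function.Surjective (D.φ hW) ↔
      ∀ t : Γ(X, D.XT s n), ∃ (m : ℕ) (_ : 0 < m) (s' : D.A) (_ : s' ∈ D.S.deg ⊤ D.hY (m * n)),
        (D.T.str.app (op (D.XT s n))).hom t * (D.ψ hW s) ^ m = D.ψ hW s' := by
  constructor
  · intro h t
    obtain ⟨z, hz⟩ := h (((HomogeneousLocalization.fromZeroRingHom (D.T.deg (D.XT s n) hW)
      (Submonoid.powers (D.ψ hW s))).comp (D.T.strZero (D.XT s n) hW).hom) t)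
    obtain ⟨i, a, ha, rfl⟩ := HomogeneousLocalization.Away.mk_surjective _ hs z
    have hv := congrArg HomogeneousLocalization.val hz
    rw [HomogeneousLocalization.Away.map_mk, HomogeneousLocalization.Away.val_mk, D.val_strAway,
      Localization.mk_eq_mk_iff, Localization.r_iff_exists] at hv
    obtain ⟨⟨_, k, rfl⟩, hk⟩ := hv
    refine ⟨k + i + 1, Nat.succ_pos _, s ^ (k + 1) * a, ?_, ?_⟩
    · have := SetLike.mul_mem_graded (SetLike.pow_mem_graded (k + 1) hs) ha
      simp only [smul_eq_mul] at this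
      rwa [show (k + i + 1) * n = (k + 1) * n + i * n by ring]
    · rw [map_mul, map_pow]
      simp only [OneMemClass.coe_one, one_mul] at hk
      linear_combination (-(D.ψ hW s)) * hk
  · intro h w
    obtain ⟨t, rfl⟩ := (D.bijective_strAway hn hs hW).2 w
    obtain ⟨m, -, s', hs', he⟩ := h t
    refine ⟨HomogeneousLocalization.Away.mk _ hs m s' (by simpa using hs'), HomogeneousLocalization.val_injective _ ?_⟩
    rw [HomogeneousLocalization.Away.map_mk, HomogeneousLocalization.Away.val_mk, D.val_strAway,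
      Localization.mk_eq_mk_iff, Localization.r_iff_exists]
    refine ⟨1, ?_⟩
    simp only [OneMemClass.coe_one, one_mul]
    linear_combination -he

include hn hs in
/-- Injectivity of `φ`, spelled out. -/
theorem injective_φ_iff :
    Function.Injective (D.φ hW) ↔
      ∀ m : ℕ, 0 < m → ∀ s' ∈ D.S.deg ⊤ D.hY (m * n), D.ψ hW s' = 0 → ∃ k : ℕ, 0 < k ∧ s ^ k * s' = 0 := by
  constructor
  · intro h m _ s' hs' h0
    have hz : D.φ hW (HomogeneousLocalization.Away.mk _ hs m s' (by simpa using hs')) = 0 := by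
      refine HomogeneousLocalization.val_injective _ ?_
      rw [HomogeneousLocalization.Away.map_mk, HomogeneousLocalization.Away.val_mk, HomogeneousLocalization.val_zero, h0,
        Localization.mk_zero]
    have hv := congrArg HomogeneousLocalization.val (h (hz.trans (map_zero (D.φ hW)).symm))
    rw [HomogeneousLocalization.Away.val_mk, HomogeneousLocalization.val_zero, ← Localization.mk_zero 1,
      Localization.mk_eq_mk_iff, Localization.r_iff_exists] at hv
    obtain ⟨⟨_, k, rfl⟩, hk⟩ := hv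
    simp only [OneMemClass.coe_one, one_mul, mul_zero] at hk
    exact ⟨k + 1, Nat.succ_pos _, by linear_combination s * hk⟩
  · intro h
    refine (injective_iff_map_eq_zero _).2 fun z hz => ?_
    obtain ⟨i, a, ha, rfl⟩ := HomogeneousLocalization.Away.mk_surjective _ hs z
    have hv := congrArg HomogeneousLocalization.val hz
    rw [HomogeneousLocalization.Away.map_mk, HomogeneousLocalization.Away.val_mk, HomogeneousLocalization.val_zero,
      ← Localization.mk_zero 1, Localization.mk_eq_mk_iff, Localization.r_iff_exists] at hv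
    obtain ⟨⟨_, k, rfl⟩, hk⟩ := hv
    simp only [OneMemClass.coe_one, one_mul, mul_zero] at hk
    have hmem : s ^ (k + 1) * a ∈ D.S.deg ⊤ D.hY ((k + 1 + i) * n) := by
      have := SetLike.mul_mem_graded (SetLike.pow_mem_graded (k + 1) hs) ha
      simp only [smul_eq_mul] at this
      rwa [show (k + 1 + i) * n = (k + 1) * n + i * n by ring]
    obtain ⟨l, -, hl⟩ := h (k + 1 + i) (by omega) _ hmem (by
      rw [map_mul, map_pow]
      linear_combination (D.ψ hW s) * hk)
    refine HomogeneousLocalization.val_injective _ ?_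
    rw [HomogeneousLocalization.Away.val_mk, HomogeneousLocalization.val_zero, ← Localization.mk_zero 1,
      Localization.mk_eq_mk_iff, Localization.r_iff_exists]
    refine ⟨⟨s ^ (l + (k + 1)), _, rfl⟩, ?_⟩
    simp only [OneMemClass.coe_one, one_mul, mul_zero]
    rw [pow_add, mul_assoc]
    exact hl

include hn hs in
theorem isClosedImmersion_restrict_iff :
    IsClosedImmersion (D.r ∣_ D.O s) ↔ Function.Surjective (D.φ hW) := by
  refine (D.restrict_iff hn hs hW (@IsClosedImmersion)).trans ⟨fun h => ?_, fun h =>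
    IsClosedImmersion.spec_of_surjective _ h⟩
  have h2 := (IsClosedImmersion.isAffine_surjective_of_isAffine (f := Spec.map (CommRingCat.ofHom (D.φ hW)))).2
  intro w
  obtain ⟨z, hz⟩ := h2 ((Scheme.ΓSpecIso _).inv w)
  refine ⟨(Scheme.ΓSpecIso _).hom z, ?_⟩
  have := ConcreteCategory.congr_hom (Scheme.ΓSpecIso_naturality (CommRingCat.ofHom (D.φ hW))) z
  refine this.symm.trans ?_
  show (Scheme.ΓSpecIso _).hom ((Spec.map (CommRingCat.ofHom (D.φ hW))).appTop z) = w
  rw [hz]
  exact ConcreteCategory.congr_hom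
    (Scheme.ΓSpecIso (CommRingCat.of (HomogeneousLocalization.Away (D.T.deg (D.XT s n) hW) (D.ψ hW s)))).inv_hom_id w

include hn hs in
theorem isIso_restrict_iff : IsIso (D.r ∣_ D.O s) ↔ Function.Bijective (D.φ hW) := by
  refine (D.restrict_iff hn hs hW (MorphismProperty.isomorphisms Scheme.{u})).trans ⟨fun h => ?_, fun h => ?_⟩
  · haveI : IsIso (Spec.map (CommRingCat.ofHom (D.φ hW))) := h
    exact (ConcreteCategory.isIso_iff_bijective (CommRingCat.ofHom (D.φ hW))).1
      (bijective_strAway.isIso_of_fully_faithful_op_Spec _)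
  · haveI : IsIso (CommRingCat.ofHom (D.φ hW)) := (ConcreteCategory.isIso_iff_bijective _).2 h
    exact inferInstanceAs (IsIso (Spec.map (CommRingCat.ofHom (D.φ hW))))

end RData

end Groth.Agent.RelProjLib
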