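import Groth.Agent.RelProjLib.RLocPow
import Mathlib.AlgebraicGeometry.Morphisms.SchemeTheoreticallyDominant

/-! The morphism attached to the algebra of all sections of the powers of an invertible module. -/

set_option autoImplicit false
set_option linter.style.haveILetI false
set_option linter.unusedSectionVars false
set_option backward.isDefEq.respectTransparency false

universe u

open CategoryTheory CategoryTheory.Limits AlgebraicGeometry TopologicalSpace Opposite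
open Groth.Agent.ParaFLib Groth.Agent.RelSpecLib Groth.Agent.AmpleLib

noncomputable section

namespace Groth.Agent.RelProjLib.LData

variable {Y X : Scheme.{u}} {q : X ⟶ Y} (D : LData q) {U : Y.Opens} (hU : IsAffineOpen U)

include hU in
/-- A section of degree `n` upstairs comes from one of degree `n`. -/
theorem exists_preimage (hu : Function.Bijective (D.u.app U).hom) {n : ℕ} (a : D.T.presheaf.obj (op (q ⁻¹ᵁ U)))
    (ha : HomSec a n) : ∃ s : D.A U, s ∈ D.S.deg U hU n ∧ D.sec s = a := by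
  classical
  obtain ⟨s, hs⟩ := hu.2 a
  refine ⟨s, ?_, hs⟩
  have key : ∀ k, k ≠ n → (DirectSum.decompose (D.S.deg U hU) s k : D.A U) = 0 := fun k hk => by
    refine hu.1 (Eq.trans ?_ (map_zero _).symm)
    have hloc : ∀ z : (q ⁻¹ᵁ U : X.Opens), ∃ (W : X.Opens) (_ : IsAffineOpen W), z.1 ∈ W ∧ W ≤ q ⁻¹ᵁ U := fun z => by
      obtain ⟨_, ⟨W, hW, rfl⟩, hzW, hle⟩ := X.isBasis_affineOpens.exists_subset_of_mem_open z.2 (q ⁻¹ᵁ U).2
      exact ⟨W, hW, hzW, hle⟩
    choose W hW hzW hle using hloc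
    refine TopCat.Sheaf.eq_of_locally_eq' ⟨D.T.presheaf, D.T.isSheaf⟩ W (q ⁻¹ᵁ U) (fun z => homOfLE (hle z))
      (fun z hz => Opens.mem_iSup.2 ⟨⟨z, hz⟩, hzW _⟩) _ _ fun z => ?_
    refine Eq.trans ?_ (map_zero _).symm
    let ψ := D.u.gradedAt U hU (W z) (hW z) (hle z)
    show ψ (DirectSum.decompose (D.S.deg U hU) s k : D.A U) = 0
    have hm : ∀ (s : D.A U), (DirectSum.decompose (D.T.deg (W z) (hW z)) (ψ s) k : D.T.presheaf.obj (op (W z))) =
        ψ (DirectSum.decompose (D.S.deg U hU) s k : D.A U) := fun s => by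
      refine DirectSum.Decomposition.inductionOn (D.S.deg U hU) ?_ ?_ ?_ s
      · simp
      · rintro i ⟨b, hb⟩
        rcases eq_or_ne i k with rfl | hik
        · rw [DirectSum.decompose_of_mem_same _ hb]
          exact DirectSum.decompose_of_mem_same _ (D.u.map_mem U hU (W z) (hW z) (hle z) hb)
        · rw [DirectSum.decompose_of_mem_ne _ hb hik, map_zero]
          exact DirectSum.decompose_of_mem_ne _ (D.u.map_mem U hU (W z) (hW z) (hle z) hb) hik
      · intro b b' e1 e2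
        simp only [map_add, DirectSum.decompose_add, DirectSum.add_apply, AddMemClass.coe_add, e1, e2]
    rw [← hm s]
    refine DirectSum.decompose_of_mem_ne _ ?_ hk.symm
    show rz (D.sec s) (W z) (hle z) ∈ _
    rw [show D.sec s = a from hs]
    exact ha _ (hW z) (hle z)
  rw [← DirectSum.sum_support_decompose (D.S.deg U hU) s]
  refine sum_mem fun k _ => ?_
  rcases eq_or_ne k n with rfl | hk
  · exact SetLike.coe_mem _
  · rw [key k hk]
    exact zero_mem _

include hU in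
/-- A section killed on `X_t` is killed by a power of `t`. -/
theorem exists_pow_mul_eq_zero (hu : Function.Injective (D.u.app U).hom) (hc : IsCompact ((q ⁻¹ᵁ U : X.Opens) : Set X))
    {n m : ℕ} {s s' : D.A U} (hs : s ∈ D.S.deg U hU n) (hs' : s' ∈ D.S.deg U hU m)
    (h0 : rz (D.sec s') (D.XT s n) (nv_le _ n) = 0) : ∃ k : ℕ, 0 < k ∧ s ^ k * s' = 0 := by
  haveI := D.hLq
  obtain ⟨k, hk⟩ := RelProjLib.exists_pow_mul_eq_zero (D.sec s) n D.hj (D.homSec_sec hU hs) D.hL hc (D.sec s')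
    (D.homSec_sec hU hs') h0
  refine ⟨k + 1, Nat.succ_pos k, hu ?_⟩
  rw [map_mul, map_pow, map_zero, pow_succ']
  linear_combination (D.sec s) * hk

variable {n : ℕ} (hn : 0 < n) {s : D.A U} (hs : s ∈ D.S.deg U hU n) (hW : IsAffineOpen (D.XT s n))

include hn hs in
/-- Over `X_t` the fractions are all functions. -/
theorem bijective_φ (hu : Function.Bijective (D.u.app U).hom) (hamp : AmpleOn D.L (q ⁻¹ᵁ U)) :
    Function.Bijective (D.φ hU hW (s := s)) := by
  haveI := D.hLq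
  have hc := isCompact_of_ampleOn hamp
  haveI : CompactSpace ((q ⁻¹ᵁ U : X.Opens) : Scheme.{u}) := isCompact_iff_compactSpace.1 hc
  haveI := quasiSeparatedSpace_of_isAmple hamp
  refine ⟨(D.injective_φ_iff hU hn hs hW).2 fun m _ s' hs' h0 =>
    D.exists_pow_mul_eq_zero hU hu.1 hc hs hs' h0, (D.surjective_φ_iff hU hn hs hW).2 fun t => ?_⟩
  obtain ⟨m, hm, a, ha, hag⟩ := RelProjLib.exists_extend (D.sec s) n D.hj (D.homSec_sec hU hs) D.hL hc
    (fun A B hA hB hAU hBU => by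
      haveI : QuasiSeparated (𝟙 ((q ⁻¹ᵁ U : X.Opens) : Scheme.{u})) := inferInstance
      have hA' : IsAffineOpen ((q ⁻¹ᵁ U).ι ⁻¹ᵁ A) :=
        hA.preimage_of_isOpenImmersion _ (hAU.trans (q ⁻¹ᵁ U).opensRange_ι.ge)
      have hB' : IsAffineOpen ((q ⁻¹ᵁ U).ι ⁻¹ᵁ B) :=
        hB.preimage_of_isOpenImmersion _ (hBU.trans (q ⁻¹ᵁ U).opensRange_ι.ge)
      have := (QuasiSeparatedSpace.inter_isCompact _ _ ((q ⁻¹ᵁ U).ι ⁻¹ᵁ A).2 hA'.isCompact
        ((q ⁻¹ᵁ U).ι ⁻¹ᵁ B).2 hB'.isCompact).image (q ⁻¹ᵁ U).ι.continuous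
      convert this using 1
      ext y
      refine ⟨fun hy => ⟨⟨y, hAU hy.1⟩, hy, rfl⟩, ?_⟩
      rintro ⟨z, hz, rfl⟩
      exact hz) t
  obtain ⟨s', hs', he⟩ := D.exists_preimage hU hu a ha
  refine ⟨m, hm, s', hs', ?_⟩
  rw [← he] at hag
  exact hag

include hU in
/-- Small affine pieces through every point. -/
theorem exists_piece (hu : Function.Bijective (D.u.app U).hom) (hamp : AmpleOn D.L (q ⁻¹ᵁ U)) {x : X}
    (hx : q x ∈ U) {N : X.Opens} (hxN : x ∈ N) :
    ∃ π : D.Piece, x ∈ π.T ∧ π.T ≤ N ∧ IsAffineOpen π.T ∧ IsIso (D.r ∣_ π.O) := by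
  haveI := D.hLq
  obtain ⟨n, hn, a, ha, hxa, haN, haff⟩ := exists_small_nv D.hj D.hL hamp (x := x) hx hxN
  obtain ⟨s, hs, he⟩ := D.exists_preimage hU hu a ha
  subst he
  exact ⟨⟨U, hU, n, hn, s, hs⟩, hxa, haN, haff,
    (D.isIso_restrict_iff hU hn hs haff).2 (D.bijective_φ hU hn hs haff hu hamp)⟩

include hn hs in
/-- A function on `D_+(s)` vanishing on `X_t` vanishes. -/
theorem injective_app_O (hu : Function.Injective (D.u.app U).hom) (hc : IsCompact ((q ⁻¹ᵁ U : X.Opens) : Set X))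
    (g : Γ(D.P, D.O hU s)) (hg : g ∈ RingHom.ker (D.r.app (D.O hU s)).hom) : g = 0 := by
  haveI := D.hLq
  let j := Proj.awayι (D.S.deg U hU) s hs hn ≫ RelProj.emb D.p D.chart U hU
  have hjO : j.opensRange = D.O hU s := D.opensRange_target hU hn hs
  have hjtop : (⊤ : (Spec _).Opens) ≤ j ⁻¹ᵁ D.O hU s := fun y _ => hjO.le ⟨y, rfl⟩
  haveI : IsIso (j.app (D.O hU s)) := Scheme.Hom.isIso_app _ _ hjO.ge
  have hjinj : Function.Injective (j.appLE (D.O hU s) ⊤ hjtop).hom := by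
    intro a b hab
    refine (ConcreteCategory.bijective_of_isIso (j.app (D.O hU s))).1 ?_
    have hpre : j ⁻¹ᵁ D.O hU s = ⊤ := top_le_iff.1 hjtop
    refine (ConcreteCategory.bijective_of_isIso ((Spec _).presheaf.map (eqToHom hpre.symm).op)).1 ?_
    exact hab
  refine hjinj (Eq.trans ?_ (map_zero _).symm)
  obtain ⟨c, hc'⟩ : ∃ c, (Scheme.ΓSpecIso _).inv c = (j.appLE (D.O hU s) ⊤ hjtop).hom g :=
    ⟨_, (Scheme.ΓSpecIso _).hom_inv_id_apply _⟩
  rw [← hc']
  suffices c = 0 by rw [this, map_zero]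
  obtain ⟨m, a, ha, rfl⟩ := HomogeneousLocalization.Away.mk_surjective _ hs c
  have hvan : ∀ (V : X.Opens) (hV : IsAffineOpen V) (e : Γ(D.L, V)), Gen V e → ∀ hle : V ≤ D.XT s n,
      rz (D.sec a) V (hle.trans (nv_le _ _)) = 0 := fun V hV e he hle => by
    have hVU : V ≤ q ⁻¹ᵁ U := hle.trans (nv_le _ _)
    let k : QMap.Idx (g := q) (𝒮 := D.S) := ⟨U, hU, V, hV, hVU, n, hn, s, hs⟩
    let φV := HomogeneousLocalization.Away.map (D.u.gradedAt U hU V hV hVU) s
    have hkr : QMap.lMap D.u D.pL D.chartL k ≫ D.r = Spec.map (CommRingCat.ofHom φV) ≫ j := QMap.lMap_comp D.hr k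
    have hle' : (⊤ : (Spec _).Opens) ≤ Spec.map (CommRingCat.ofHom φV) ⁻¹ᵁ (⊤ : (Spec _).Opens) := fun _ _ => trivial
    have hle'' : (⊤ : (Spec _).Opens) ≤ (QMap.lMap D.u D.pL D.chartL k ≫ D.r) ⁻¹ᵁ D.O hU s := by
      rw [hkr]
      exact fun y _ => hjtop trivial
    have e1 : ((QMap.lMap D.u D.pL D.chartL k ≫ D.r).appLE (D.O hU s) ⊤ hle'').hom g = 0 := by
      rw [Scheme.Hom.comp_appLE, CommRingCat.comp_apply, RingHom.mem_ker.1 hg, map_zero]
    have e2 : (Spec.map (CommRingCat.ofHom φV)).appTop ((j.appLE (D.O hU s) ⊤ hjtop).hom g) = 0 := by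
      rw [← e1]
      simp only [hkr]
      rw [← Scheme.Hom.appLE_comp_appLE (Spec.map (CommRingCat.ofHom φV)) j (D.O hU s) ⊤ ⊤ hjtop hle',
        CommRingCat.comp_apply, Scheme.Hom.appTop, Scheme.Hom.app_eq_appLE]
      rfl
    rw [← hc'] at e2
    have e3 : φV (HomogeneousLocalization.Away.mk (D.S.deg U hU) hs m a ha) = 0 := by
      have := ConcreteCategory.congr_hom (Scheme.ΓSpecIso_inv_naturality (CommRingCat.ofHom φV))
        (HomogeneousLocalization.Away.mk (D.S.deg U hU) hs m a ha)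
      refine (ConcreteCategory.bijective_of_isIso (Scheme.ΓSpecIso
        (CommRingCat.of (HomogeneousLocalization.Away (D.T.deg V hV) (D.u.gradedAt U hU V hV hVU s)))).inv).1 ?_
      rw [map_zero]
      exact this.trans e2
    have hv := congrArg HomogeneousLocalization.val e3
    rw [HomogeneousLocalization.Away.map_mk, HomogeneousLocalization.Away.val_mk, HomogeneousLocalization.val_zero,
      ← Localization.mk_zero 1, Localization.mk_eq_mk_iff, Localization.r_iff_exists] at hv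
    obtain ⟨⟨_, l, rfl⟩, hl⟩ := hv
    simp only [OneMemClass.coe_one, one_mul, mul_zero] at hl
    change rz (D.sec s) V hVU ^ l * rz (D.sec a) V hVU = 0 at hl
    have hzd := D.homSec_sec hU hs
    obtain ⟨r, hr, -⟩ := existsUnique_coeff hV D.hj he (hzd V hV hVU)
    obtain ⟨b, hb, -⟩ := existsUnique_coeff hV D.hj he (D.homSec_sec hU ha V hV hVU)
    have hru : IsUnit r := by
      have htopV : X.basicOpen r = V := le_antisymm (X.basicOpen_le r) fun y hy =>
        (mem_nv_iff (D.sec s) n D.hj hV hVU he hr hy).1 (hle hy)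
      have := RingedSpace.isUnit_res_basicOpen X.toRingedSpace r
      exact (isUnit_map_iff (X.presheaf.map (eqToHom htopV).op).hom r).1 this
    have hb0 : b = 0 := by
      refine (hru.pow l).mul_right_eq_zero.1 ?_
      refine str_mul_pow_injective hV D.hj he (n * l + m • n) ?_
      show (D.T.str.app (op V)).hom (r ^ l * b) * (gen₁ hV D.hj e).1 ^ (n * l + m • n) =
        (D.T.str.app (op V)).hom 0 * (gen₁ hV D.hj e).1 ^ (n * l + m • n)
      rw [map_zero, zero_mul, pow_add, pow_mul, map_mul, map_pow, ← hl, ← hr, ← hb, mul_pow]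
      ring
    rw [← hb, hb0, map_zero, zero_mul]
  obtain ⟨l, hl, hla⟩ := D.exists_pow_mul_eq_zero hU hu hc hs ha (by
    have hloc : ∀ z : D.XT s n, ∃ (V : X.Opens) (_ : IsAffineOpen V) (e : Γ(D.L, V)),
        z.1 ∈ V ∧ V ≤ D.XT s n ∧ Gen V e := fun z => exists_triv z.1 D.hL z.2
    choose V hV e hzV hle he using hloc
    refine TopCat.Sheaf.eq_of_locally_eq' ⟨D.T.presheaf, D.T.isSheaf⟩ V _ (fun z => homOfLE (hle z))
      (fun z hz => Opens.mem_iSup.2 ⟨⟨z, hz⟩, hzV _⟩) _ _ fun z => ?_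
    refine Eq.trans ?_ (map_zero _).symm
    exact (rz_res (D.sec a) (nv_le (D.sec s) n) (hle z)).trans (hvan (V z) (hV z) (e z) (he z) (hle z)))
  refine HomogeneousLocalization.val_injective _ ?_
  rw [HomogeneousLocalization.Away.val_mk, HomogeneousLocalization.val_zero, ← Localization.mk_zero 1,
    Localization.mk_eq_mk_iff, Localization.r_iff_exists]
  refine ⟨⟨s ^ l, _, rfl⟩, ?_⟩
  simp only [OneMemClass.coe_one, one_mul, mul_zero]
  exact hla


omit hU in
/-- `r` is everywhere defined and an open immersion. -/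
theorem isOpenImmersion_of_ample
    (h : ∀ x : X, ∃ U : Y.Opens, IsAffineOpen U ∧ q x ∈ U ∧ Function.Bijective (D.u.app U).hom ∧
      AmpleOn D.L (q ⁻¹ᵁ U)) :
    RelProj.domQ D.u D.pL D.chartL = ⊤ ∧ IsOpenImmersion D.r := by
  choose U hU hx hu hamp using h
  choose π hxπ _ _ hiso using fun x => D.exists_piece (hU x) (hu x) (hamp x) (hx x) (N := ⊤) trivial
  exact ⟨D.domQ_eq_top_of_cover π fun x => ⟨x, hxπ x⟩, D.isOpenImmersion_of_cover π (fun x => ⟨x, hxπ x⟩) hiso⟩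

omit hU in
/-- When `r` is everywhere defined and the fibres are quasi-compact, so is `r`. -/
theorem quasiCompact_r (htop : RelProj.domQ D.u D.pL D.chartL = ⊤)
    (h : ∀ y : Y, ∃ U : Y.Opens, IsAffineOpen U ∧ y ∈ U ∧ IsCompact ((q ⁻¹ᵁ U : X.Opens) : Set X)) :
    QuasiCompact D.r := by
  haveI := D.hLq
  haveI := D.isIso_pL
  choose U hU hyU hc using h
  have hex : ∀ v : D.P, ∃ (n : ℕ) (s : D.A (U (D.p v))), 0 < n ∧ s ∈ D.S.deg _ (hU _) n ∧
      v ∈ D.O (hU _) s ∧ D.O (hU _) s ≤ ⊤ := fun v =>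
    D.exists_O (W := ⊤) trivial (hU (D.p v)) (hyU _)
  choose n s hn hs hv _ using hex
  refine IsZariskiLocalAtTarget.of_iSup_eq_top (P := @QuasiCompact) (fun v : D.P => D.O (hU (D.p v)) (s v))
    (eq_top_iff.2 fun v _ => Opens.mem_iSup.2 ⟨v, hv v⟩) fun v => ?_
  haveI : IsAffine (D.O (hU (D.p v)) (s v) : Scheme.{u}) := D.isAffineOpen_O (hU _) (hn v) (hs v)
  refine (HasAffineProperty.iff_of_isAffine (P := @QuasiCompact)).2 (isCompact_iff_compactSpace.1 ?_)
  have h1 : IsCompact (D.XT (s v) (n v) : Set X) :=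
    isCompact_nv (D.sec (s v)) (n v) D.hj (D.homSec_sec (hU _) (hs v)) D.hL (hc _)
  haveI := isIso_ι_of_eq_top htop
  have e : (D.r ⁻¹ᵁ D.O (hU (D.p v)) (s v) : Set (RelProj.domQ D.u D.pL D.chartL)) =
      ((RelProj.domQ D.u D.pL D.chartL).ι ≫ D.pL).homeomorph ⁻¹' (D.XT (s v) (n v) : Set X) := by
    ext w
    refine ⟨fun hw => (D.preimage_O (hU _) (hn v) (hs v)).le ⟨w, hw, rfl⟩, fun hw => ?_⟩
    obtain ⟨w', hw', e⟩ := (D.preimage_O (hU _) (hn v) (hs v)).ge hw
    rwa [(RelProj.domQ D.u D.pL D.chartL).ι.isOpenEmbedding.injective e] at hw'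
  rw [e]
  exact (Homeomorph.isCompact_preimage _).2 h1

omit hU in
/-- When the graded map is injective, `r` is scheme-theoretically dominant. -/
theorem isSchemeTheoreticallyDominant_r (htop : RelProj.domQ D.u D.pL D.chartL = ⊤)
    (h : ∀ y : Y, ∃ U : Y.Opens, IsAffineOpen U ∧ y ∈ U ∧ IsCompact ((q ⁻¹ᵁ U : X.Opens) : Set X) ∧
      Function.Injective (D.u.app U).hom) :
    QuasiCompact D.r ∧ IsSchemeTheoreticallyDominant D.r := by
  haveI := D.hLq
  haveI hqc := D.quasiCompact_r htop fun y => by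
    obtain ⟨U, hU, hy, hc, -⟩ := h y
    exact ⟨U, hU, hy, hc⟩
  refine ⟨hqc, ⟨?_⟩⟩
  choose U hU hyU hc hu using h
  have hex : ∀ v : D.P, ∃ (n : ℕ) (s : D.A (U (D.p v))), 0 < n ∧ s ∈ D.S.deg _ (hU _) n ∧
      v ∈ D.O (hU _) s ∧ D.O (hU _) s ≤ ⊤ := fun v =>
    D.exists_O (W := ⊤) trivial (hU (D.p v)) (hyU _)
  choose n s hn hs hv _ using hex
  refine Scheme.IdealSheafData.ext_of_iSup_eq_top
    (fun v : D.P => ⟨D.O (hU (D.p v)) (s v), D.isAffineOpen_O (hU _) (hn v) (hs v)⟩)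
    (eq_top_iff.2 fun v _ => Opens.mem_iSup.2 ⟨v, hv v⟩) fun v => ?_
  simp only [Scheme.Hom.ker_apply, Scheme.IdealSheafData.ideal_bot, Pi.bot_apply, ← le_bot_iff]
  intro g hg
  exact D.injective_app_O (hU _) (hn v) (hs v) (hu _) (hc _) g hg

omit hU in
/-- If `r` is everywhere defined and inducing on spaces, the module is relatively ample. -/
theorem isRelAmple_of_isInducing [QuasiCompact q] (htop : RelProj.domQ D.u D.pL D.chartL = ⊤)
    (hr : Topology.IsInducing D.r.base) : RelAmple.IsRelAmple q D.L := by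
  haveI := D.hLq
  haveI := D.isIso_pL
  refine ⟨inferInstance, fun V => ampleOn_of_small D.hj D.hL (q.isCompact_preimage V.2.isCompact) fun x hx N hxN => ?_⟩
  obtain ⟨z, rfl⟩ := D.pL.homeomorph.surjective x
  let w : (RelProj.domQ D.u D.pL D.chartL : D.PL.Opens) := ⟨z, by rw [htop]; trivial⟩
  obtain ⟨W, hW, hWN⟩ := hr.isOpen_iff.1
    ((((RelProj.domQ D.u D.pL D.chartL).ι ≫ D.pL) ⁻¹ᵁ N).isOpen)
  obtain ⟨n, s, hn, hs, hws, hsW⟩ := D.exists_O (W := ⟨W, hW⟩) (v := D.r w) (hWN.ge hxN) V.2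
    (show D.p (D.r w) ∈ V.1 by rw [D.base_comp]; exact hx)
  refine ⟨n, hn, D.sec s, D.homSec_sec V.2 hs, (D.preimage_O V.2 hn hs).le ⟨w, hws, rfl⟩, fun y hy => ?_⟩
  obtain ⟨z', rfl⟩ := D.pL.homeomorph.surjective y
  obtain ⟨w', hw', rfl⟩ := (D.preimage_O V.2 hn hs).ge hy
  exact hWN.le (hsW hw')

end Groth.Agent.RelProjLib.LData
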