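import Groth.Agent.RelProjLib.RLpsiColim
import Groth.Agent.RelProjLib.RLpsiGlobal

/-! Immersions into relative Proj of a graded subalgebra. -/

set_option autoImplicit false
set_option linter.style.haveILetI false
set_option backward.isDefEq.respectTransparency false

universe u

open CategoryTheory CategoryTheory.Limits AlgebraicGeometry TopologicalSpace Opposite

noncomputable section

namespace Groth.Agent.RelProjLib.Colim

theorem isImmersion_of_restrict {A B : Scheme.{u}} (f : A ⟶ B) {κ : Type u} (O : κ → B.Opens)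
    (hO : f ⁻¹ᵁ (⨆ a, O a) = ⊤) (h : ∀ a, IsClosedImmersion (f ∣_ O a)) : IsImmersion f := by
  have h1 : IsClosedImmersion (f ∣_ ⨆ a, O a) := restrict_iSup f @IsClosedImmersion _ h
  haveI := h1
  haveI := isIso_ι_of_eq_top hO
  have e : f = inv (f ⁻¹ᵁ ⨆ a, O a).ι ≫ (f ∣_ ⨆ a, O a) ≫ (⨆ a, O a).ι := by
    rw [morphismRestrict_ι, IsIso.inv_hom_id_assoc]
  rw [e]
  infer_instance

variable {Y X PL PA PB : Scheme.{u}} {q : X ⟶ Y} {A B : RelProj.QCGrAlg Y} {T : RelProj.QCGrAlg X}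
  (φ : A.toQCAlg ⟶ B.toQCAlg) (hφ : RelProj.IsGradedHom φ)
  (u : RelProj.QGrHom q B T) (v : RelProj.QGrHom q A T)
  (hv : ∀ U : Y.Opens, v.app U = φ.hom.app (op U) ≫ u.app U)
  {pA : PA ⟶ Y}
  {chartA : ∀ (U : Y.Opens) (hU : IsAffineOpen U), (((pA ⁻¹ᵁ U : PA.Opens) : Scheme.{u}) ≅ Proj (A.deg U hU))}
  (hA : RelProj.IsRelProj A pA chartA)
  {pB : PB ⟶ Y}
  {chartB : ∀ (U : Y.Opens) (hU : IsAffineOpen U), (((pB ⁻¹ᵁ U : PB.Opens) : Scheme.{u}) ≅ Proj (B.deg U hU))}
  (hB : RelProj.IsRelProj B pB chartB)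
  (pL : PL ⟶ X)
  {chartL : ∀ (U : X.Opens) (hU : IsAffineOpen U), (((pL ⁻¹ᵁ U : PL.Opens) : Scheme.{u}) ≅ Proj (T.deg U hU))}
  (hPL : RelProj.IsRelProj T pL chartL)
  (rA : ((RelProj.domQ v pL chartL : PL.Opens) : Scheme.{u}) ⟶ PA)
  (hrA : RelProj.IsProjQMapOn v pA chartA pL chartL (RelProj.domQ v pL chartL) rA)
  (rB : ((RelProj.domQ u pL chartL : PL.Opens) : Scheme.{u}) ⟶ PB)
  (hrB : RelProj.IsProjQMapOn u pB chartB pL chartL (RelProj.domQ u pL chartL) rB)

/-- The inclusion of the domains. -/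
abbrev inclDom : ((RelProj.domQ v pL chartL : PL.Opens) : Scheme.{u}) ⟶ (RelProj.domQ u pL chartL : PL.Opens) :=
  PL.homOfLE (domQ_le φ hφ u v hv pL chartL)

include hA hB hPL hrA hrB in
/-- `r` of a graded subsystem factors through the morphism of relative Proj's. -/
theorem exists_factor :
    ∃ (vh : ((RelProj.domQ (RelProj.QGrHom.ofHom φ hφ) pB chartB : PB.Opens) : Scheme.{u}) ⟶ PA)
      (b : ((RelProj.domQ v pL chartL : PL.Opens) : Scheme.{u}) ⟶
        (RelProj.domQ (RelProj.QGrHom.ofHom φ hφ) pB chartB : PB.Opens)),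
      RelProj.IsProjQMapOn (RelProj.QGrHom.ofHom φ hφ) pA chartA pB chartB
        (RelProj.domQ (RelProj.QGrHom.ofHom φ hφ) pB chartB) vh ∧
      b ≫ (RelProj.domQ (RelProj.QGrHom.ofHom φ hφ) pB chartB).ι = inclDom φ hφ u v hv pL ≫ rB ∧
      b ≫ vh = rA := by
  obtain ⟨vh, hvh, -⟩ := QMap.existsUnique_on (RelProj.QGrHom.ofHom φ hφ) pA chartA pB chartB hA hB
  have H := QMap.isComp_ofHom_left hφ u v hv
  have hdom := QMap.domQ_comp (h := RelProj.QGrHom.ofHom φ hφ) H hB hPL hrB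
  have hr : Set.range (inclDom φ hφ u v hv pL ≫ rB).base ⊆
      Set.range (RelProj.domQ (RelProj.QGrHom.ofHom φ hφ) pB chartB).ι.base := by
    rintro _ ⟨x, rfl⟩
    rw [Scheme.Opens.range_ι]
    obtain ⟨y, hy, hyx⟩ := hdom.ge x.2
    have hxy : y = (inclDom φ hφ u v hv pL) x := (RelProj.domQ u pL chartL).ι.isOpenEmbedding.injective
      (hyx.trans (congrArg (fun g => g x) (PL.homOfLE_ι (domQ_le φ hφ u v hv pL chartL))).symm)
    rw [hxy] at hy
    exact hy
  refine ⟨vh, IsOpenImmersion.lift _ _ hr, hvh, IsOpenImmersion.lift_fac _ _ _, ?_⟩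
  refine (QMap.comp_eq' H hA hB hPL hvh hrB hrA (inclDom φ hφ u v hv pL) _ (𝟙 _)
    (IsOpenImmersion.lift_fac _ _ hr).symm (by simp)).trans (Category.id_comp _)

include hA hB hPL hrA hrB hφ hv in
/-- Being everywhere defined and an immersion passes to larger algebras. -/
theorem isImmersion_mono (htop : RelProj.domQ v pL chartL = ⊤) [IsImmersion rA] :
    RelProj.domQ u pL chartL = ⊤ ∧ IsImmersion rB := by
  obtain ⟨vh, b, -, hb, hbr⟩ := exists_factor φ hφ u v hv hA hB pL hPL rA hrA rB hrB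
  have htop' : RelProj.domQ u pL chartL = ⊤ := top_le_iff.1 (htop.ge.trans (domQ_le φ hφ u v hv pL chartL))
  refine ⟨htop', ?_⟩
  haveI : IsImmersion (b ≫ vh) := by rw [hbr]; infer_instance
  haveI := IsImmersion.of_comp b vh
  haveI := isIso_ι_of_eq_top htop
  haveI := isIso_ι_of_eq_top htop'
  haveI : IsIso (inclDom φ hφ u v hv pL (chartL := chartL)) := by
    have e : inclDom φ hφ u v hv pL (chartL := chartL) =
        (RelProj.domQ v pL chartL).ι ≫ inv (RelProj.domQ u pL chartL).ι := by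
      rw [IsIso.eq_comp_inv]
      exact PL.homOfLE_ι _
    rw [e]
    infer_instance
  have e : rB = inv (inclDom φ hφ u v hv pL) ≫ b ≫
      (RelProj.domQ (RelProj.QGrHom.ofHom φ hφ) pB chartB).ι := by
    rw [hb, IsIso.inv_hom_id_assoc]
  rw [e]
  infer_instance

/-- The standard open immersion of `D_+(f)`. -/
abbrev stdOpen {S : RelProj.QCGrAlg Y} {P : Scheme.{u}} (p : P ⟶ Y)
    (chart : ∀ (U : Y.Opens) (hU : IsAffineOpen U), (((p ⁻¹ᵁ U : P.Opens) : Scheme.{u}) ≅ Proj (S.deg U hU)))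
    (U : Y.Opens) (hU : IsAffineOpen U) {n : ℕ} (hn : 0 < n) (f : S.presheaf.obj (op U)) (hf : f ∈ S.deg U hU n) :
    Spec (CommRingCat.of (HomogeneousLocalization.Away (S.deg U hU) f)) ⟶ P :=
  Proj.awayι (S.deg U hU) f hf hn ≫ RelProj.emb p chart U hU

/-- The fractions coming from the smaller algebra. -/
def Fr (U : Y.Opens) (hU : IsAffineOpen U) (n : ℕ) (s : B.presheaf.obj (op U)) :
    Set (HomogeneousLocalization.Away (B.deg U hU) s) :=
  {c | ∃ (m : ℕ), ∃ g ∈ A.deg U hU (m • n),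
    c.val = Localization.mk ((φ.hom.app (op U)).hom g) ⟨s ^ m, pow_mem (Submonoid.mem_powers s) m⟩}

theorem Fr_mono {A' : RelProj.QCGrAlg Y} (φ' : A'.toQCAlg ⟶ B.toQCAlg) (t : A.toQCAlg ⟶ A'.toQCAlg)
    (ht : RelProj.IsGradedHom t) (h : t ≫ φ' = φ) (U : Y.Opens) (hU : IsAffineOpen U) (n : ℕ)
    (s : B.presheaf.obj (op U)) : Fr φ U hU n s ⊆ Fr φ' U hU n s := by
  rintro c ⟨m, g, hg, hc⟩
  exact ⟨m, (t.hom.app (op U)).hom g, ht U hU _ g hg, by subst h; exact hc⟩

variable (U : Y.Opens) (hU : IsAffineOpen U) {n : ℕ} (hn : 0 < n) (f : A.presheaf.obj (op U)) (hf : f ∈ A.deg U hU n)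

/-- The image of `f`. -/
abbrev imgEl : B.presheaf.obj (op U) := (RelProj.QGrHom.ofHom φ hφ).gradedAt U hU U hU le_rfl f

theorem imgEl_eq : imgEl φ hφ U hU f = (φ.hom.app (op U)).hom f :=
  congrArg (fun g => g f) (QMap.gradedAt_ofHom hφ U hU)

/-- The ring map of a graded map on degree-zero fractions. -/
abbrev awayHom : HomogeneousLocalization.Away (A.deg U hU) f →+*
    HomogeneousLocalization.Away (B.deg U hU) (imgEl φ hφ U hU f) :=
  HomogeneousLocalization.Away.map ((RelProj.QGrHom.ofHom φ hφ).gradedAt U hU U hU le_rfl) f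

include hn hf in
theorem range_awayHom : Set.range (awayHom φ hφ U hU f) = Fr φ U hU n (imgEl φ hφ U hU f) := by
  have hψ : ∀ g, (RelProj.QGrHom.ofHom φ hφ).gradedAt U hU U hU le_rfl g = (φ.hom.app (op U)).hom g :=
    fun g => congrArg (fun k => k g) (QMap.gradedAt_ofHom hφ U hU)
  refine Set.ext fun c => ⟨?_, ?_⟩
  · rintro ⟨x, rfl⟩
    obtain ⟨m, g, hg, rfl⟩ := HomogeneousLocalization.Away.mk_surjective (A.deg U hU) hf x
    refine ⟨m, g, hg, ?_⟩
    rw [HomogeneousLocalization.Away.map_mk, HomogeneousLocalization.Away.val_mk]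
    exact congrArg (fun z => Localization.mk z _) (hψ g)
  · rintro ⟨m, g, hg, hc⟩
    refine ⟨HomogeneousLocalization.Away.mk (A.deg U hU) hf m g hg, HomogeneousLocalization.val_injective _ ?_⟩
    rw [hc, HomogeneousLocalization.Away.map_mk, HomogeneousLocalization.Away.val_mk]
    exact congrArg (fun z => Localization.mk z _) (hψ g)

/-- `rB` over `D_+(s)` is cut out by a surjection on which a set of fractions is still surjective. -/
def Covers (s : B.presheaf.obj (op U)) (hs : s ∈ B.deg U hU n)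
    (S : Set (HomogeneousLocalization.Away (B.deg U hU) s)) : Prop :=
  ∃ (Q : CommRingCat.{u}) (π : CommRingCat.of (HomogeneousLocalization.Away (B.deg U hU) s) ⟶ Q)
    (e : pullback rB (stdOpen pB chartB U hU hn s hs) ≅ Spec Q),
    pullback.snd rB (stdOpen pB chartB U hU hn s hs) = e.hom ≫ Spec.map π ∧ π.hom '' S = Set.univ

theorem Covers.mono {s : B.presheaf.obj (op U)} {hs : s ∈ B.deg U hU n}
    {S S' : Set (HomogeneousLocalization.Away (B.deg U hU) s)} (h : S ⊆ S')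
    (H : Covers u pL rB U hU hn s hs S (chartB := chartB)) : Covers u pL rB U hU hn s hs S' (chartB := chartB) := by
  obtain ⟨Q, π, e, he, hS⟩ := H
  exact ⟨Q, π, e, he, Set.eq_univ_of_univ_subset (hS.symm.le.trans (Set.image_mono h))⟩

include hA hB hPL hrB hf in
theorem exists_gen (s : B.presheaf.obj (op U)) (hs : s ∈ B.deg U hU n) (e : imgEl φ hφ U hU f = s)
    [IsIso pL] [LocallyOfFiniteType q]
    (hcl : IsClosedImmersion (rB ∣_ (stdOpen pB chartB U hU hn s hs).opensRange)) :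
    ∃ C : Set (HomogeneousLocalization.Away (B.deg U hU) s), C.Finite ∧
      ∀ R : Subring (HomogeneousLocalization.Away (B.deg U hU) s), Fr φ U hU n s ⊆ (R : Set _) →
        C ⊆ (R : Set _) → Covers u pL rB U hU hn s hs (R : Set _) (chartB := chartB) := by
  subst e
  let iB := stdOpen pB chartB U hU hn (imgEl φ hφ U hU f) hs
  let iA := stdOpen pA chartA U hU hn f hf
  rw [MorphismProperty.arrow_mk_iso_iff @IsClosedImmersion (morphismRestrictOpensRange rB _)] at hcl
  obtain ⟨I, e, he⟩ := IsClosedImmersion.Spec_iff.1 hcl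
  let π := CommRingCat.ofHom (Ideal.Quotient.mk I)
  obtain ⟨vh, hvh, -⟩ := QMap.existsUnique_on (RelProj.QGrHom.ofHom φ hφ) pA chartA pB chartB hA hB
  let k : QMap.Idx (g := 𝟙 Y) (𝒮 := A) := ⟨U, hU, U, hU, le_rfl, n, hn, f, hf⟩
  have hk : Spec.map (CommRingCat.ofHom (awayHom φ hφ U hU f)) ≫ iA ≫ pA = iB ≫ pB := by
    refine (Category.assoc _ _ _).symm.trans ?_
    show QMap.dMap (RelProj.QGrHom.ofHom φ hφ) pA chartA k ≫ pA = QMap.cMap (RelProj.QGrHom.ofHom φ hφ) pB chartB k ≫ pB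
    rw [← QMap.lMap_comp hvh k, Category.assoc,
      QMap.on_comp (RelProj.QGrHom.ofHom φ hφ) pA chartA pB chartB hA hB hvh, Category.comp_id, QMap.lMap_ι_assoc]
  have hft : LocallyOfFiniteType
      ((pullback.snd rB iB ≫ Spec.map (CommRingCat.ofHom (awayHom φ hφ U hU f))) ≫ iA ≫ pA) := by
    rw [Category.assoc, hk, ← pullback.condition_assoc, QMap.on_comp u pB chartB pL chartL hB hPL hrB]
    infer_instance
  haveI := hft
  haveI := locallyOfFiniteType_of_comp (pullback.snd rB iB ≫ Spec.map (CommRingCat.ofHom (awayHom φ hφ U hU f)))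
    (iA ≫ pA)
  have h2 : LocallyOfFiniteType (Spec.map (CommRingCat.ofHom (awayHom φ hφ U hU f) ≫ π)) := by
    have e' : Spec.map (CommRingCat.ofHom (awayHom φ hφ U hU f) ≫ π) =
        e.inv ≫ pullback.snd rB iB ≫ Spec.map (CommRingCat.ofHom (awayHom φ hφ U hU f)) := by
      rw [show pullback.snd rB iB = e.hom ≫ Spec.map π from he, Category.assoc, Iso.inv_hom_id_assoc, Spec.map_comp]
    rw [e']
    infer_instance
  rw [HasRingHomProperty.Spec_iff (P := @LocallyOfFiniteType)] at h2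
  algebraize [((Ideal.Quotient.mk I).comp (awayHom φ hφ U hU f))]
  haveI : Algebra.FiniteType (HomogeneousLocalization.Away (A.deg U hU) f)
      (HomogeneousLocalization.Away (B.deg U hU) (imgEl φ hφ U hU f) ⧸ I) := h2
  obtain ⟨t, ht⟩ := Algebra.FiniteType.out (R := HomogeneousLocalization.Away (A.deg U hU) f)
    (A := HomogeneousLocalization.Away (B.deg U hU) (imgEl φ hφ U hU f) ⧸ I)
  refine ⟨Function.surjInv (Ideal.Quotient.mk_surjective (I := I)) '' (t : Set _), t.finite_toSet.image _,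
    fun R hFr hC => ⟨_, π, e, he, Set.eq_univ_of_forall fun x => ?_⟩⟩
  have hx : x ∈ Algebra.adjoin (HomogeneousLocalization.Away (A.deg U hU) f) (t : Set _) := by
    rw [ht]; trivial
  refine Algebra.adjoin_induction (p := fun y _ => y ∈ R.map (Ideal.Quotient.mk I)) (fun y hy => ?_) (fun a => ?_)
    (fun a b _ _ ha hb => add_mem ha hb) (fun a b _ _ ha hb => mul_mem ha hb) hx
  · exact ⟨_, hC ⟨y, hy, rfl⟩, Function.surjInv_eq Ideal.Quotient.mk_surjective y⟩
  · refine ⟨awayHom φ hφ U hU f a, hFr ?_, rfl⟩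
    rw [← range_awayHom φ hφ U hU hn f hf]
    exact ⟨a, rfl⟩

include hA hB hPL hrA hrB hv hf in
theorem isClosedImmersion_restrict (htop : RelProj.domQ v pL chartL = ⊤) (s : B.presheaf.obj (op U))
    (hs : s ∈ B.deg U hU n) (e : imgEl φ hφ U hU f = s)
    (H : Covers u pL rB U hU hn s hs (Fr φ U hU n s) (chartB := chartB)) :
    IsClosedImmersion (rA ∣_ (stdOpen pA chartA U hU hn f hf).opensRange) ∧
      inclDom φ hφ u v hv pL ⁻¹ᵁ (rB ⁻¹ᵁ (stdOpen pB chartB U hU hn s hs).opensRange) ≤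
        rA ⁻¹ᵁ (stdOpen pA chartA U hU hn f hf).opensRange := by
  subst e
  let iB := stdOpen pB chartB U hU hn (imgEl φ hφ U hU f) hs
  let iA := stdOpen pA chartA U hU hn f hf
  obtain ⟨Q, π, e, he, hS⟩ := H
  obtain ⟨vh, b, hvh, hb, hbr⟩ := exists_factor φ hφ u v hv hA hB pL hPL rA hrA rB hrB
  have htop' : RelProj.domQ u pL chartL = ⊤ := top_le_iff.1 (htop.ge.trans (domQ_le φ hφ u v hv pL chartL))
  haveI := isIso_ι_of_eq_top htop
  haveI := isIso_ι_of_eq_top htop'
  haveI : IsIso (inclDom φ hφ u v hv pL (chartL := chartL)) := by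
    have e : inclDom φ hφ u v hv pL (chartL := chartL) =
        (RelProj.domQ v pL chartL).ι ≫ inv (RelProj.domQ u pL chartL).ι := by
      rw [IsIso.eq_comp_inv]
      exact PL.homOfLE_ι _
    rw [e]
    infer_instance
  let k : QMap.Idx (g := 𝟙 Y) (𝒮 := A) := ⟨U, hU, U, hU, le_rfl, n, hn, f, hf⟩
  let l := QMap.lMap (RelProj.QGrHom.ofHom φ hφ) pB chartB k
  let m := Spec.map (CommRingCat.ofHom (awayHom φ hφ U hU f))
  have sq1 : IsPullback m l iA vh := IsOpenImmersion.isPullback _ _ _ _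
    ((QMap.lMap_comp hvh k).trans rfl) (QMap.on_preimage hφ hA hB hvh U hU n hn f hf)
  let fst' := pullback.fst rB iB ≫ inv (inclDom φ hφ u v hv pL)
  have w2 : pullback.snd rB iB ≫ l = fst' ≫ b := by
    rw [← cancel_mono (RelProj.domQ (RelProj.QGrHom.ofHom φ hφ) pB chartB).ι, Category.assoc, Category.assoc, hb,
      QMap.lMap_ι]
    show pullback.snd rB iB ≫ iB = (pullback.fst rB iB ≫ inv _) ≫ _ ≫ rB
    rw [Category.assoc, IsIso.inv_hom_id_assoc]
    exact pullback.condition.symm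
  have sq2 : IsPullback (pullback.snd rB iB) fst' l b := by
    refine IsOpenImmersion.isPullback _ _ _ _ w2.symm ?_
    refine TopologicalSpace.Opens.ext (Set.ext fun x => ⟨?_, ?_⟩)
    · rintro ⟨c, hc⟩
      have hx : rB ((inclDom φ hφ u v hv pL) x) ∈ Set.range iB.base := by
        refine ⟨c, ?_⟩
        refine (congrArg (fun g => g c) (QMap.lMap_ι (RelProj.QGrHom.ofHom φ hφ) pB chartB k)).symm.trans ?_
        refine (congrArg (RelProj.domQ (RelProj.QGrHom.ofHom φ hφ) pB chartB).ι.base hc).trans ?_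
        exact congrArg (fun g => g x) hb
      obtain ⟨z, hz, -⟩ := Scheme.Pullback.exists_preimage_pullback _ _ hx.choose_spec.symm
      refine ⟨z, ?_⟩
      show inv (inclDom φ hφ u v hv pL) (pullback.fst rB iB z) = x
      rw [hz]
      exact congrArg (fun g => g x) (IsIso.hom_inv_id (inclDom φ hφ u v hv pL (chartL := chartL)))
    · rintro ⟨z, rfl⟩
      exact ⟨pullback.snd rB iB z, congrArg (fun g => g z) w2⟩
  have sq := sq2.paste_horiz sq1
  rw [hbr] at sq
  refine ⟨?_, fun x ⟨c, hc⟩ => ?_⟩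
  · rw [MorphismProperty.arrow_mk_iso_iff @IsClosedImmersion (morphismRestrictOpensRange rA _),
      ← sq.flip.isoPullback_inv_snd, MorphismProperty.cancel_left_of_respectsIso (P := @IsClosedImmersion),
      show pullback.snd rB iB = e.hom ≫ Spec.map π from he, Category.assoc,
      MorphismProperty.cancel_left_of_respectsIso (P := @IsClosedImmersion), ← Spec.map_comp]
    refine IsClosedImmersion.spec_of_surjective _ fun y => ?_
    obtain ⟨c, hc, rfl⟩ := hS.ge (Set.mem_univ y)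
    rw [← range_awayHom φ hφ U hU hn f hf] at hc
    obtain ⟨a, rfl⟩ := hc
    exact ⟨a, rfl⟩
  · obtain ⟨z, hz, -⟩ := Scheme.Pullback.exists_preimage_pullback ((inclDom φ hφ u v hv pL) x) c hc.symm
    refine ⟨m (pullback.snd rB iB z), ?_⟩
    refine (congrArg (fun g => g z) sq.w).trans ?_
    show rA (inv (inclDom φ hφ u v hv pL) (pullback.fst rB iB z)) = rA x
    rw [hz]
    exact congrArg (fun g => rA (g x)) (IsIso.hom_inv_id (inclDom φ hφ u v hv pL (chartL := chartL)))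

omit U hU in
include hB hPL hrB in
/-- Over a standard open, a finite piece of a directed union already cuts out `rB`. -/
theorem exists_eventually_covers {Λ : Type u} [Preorder Λ] [IsDirected Λ (· ≤ ·)] [Nonempty Λ]
    (Ai : Λ → RelProj.QCGrAlg Y) (φi : ∀ i, (Ai i).toQCAlg ⟶ B.toQCAlg) (hφi : ∀ i, RelProj.IsGradedHom (φi i))
    (t : ∀ i j, i ≤ j → ((Ai i).toQCAlg ⟶ (Ai j).toQCAlg)) (ht : ∀ i j (h : i ≤ j), RelProj.IsGradedHom (t i j h))
    (hφt : ∀ i j (h : i ≤ j), t i j h ≫ φi j = φi i)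
    (hsurj : ∀ (U : Y.Opens), IsAffineOpen U → ∀ x : B.presheaf.obj (op U),
      ∃ (i : Λ) (y : (Ai i).presheaf.obj (op U)), ((φi i).hom.app (op U)).hom y = x)
    {Pi : Λ → Scheme.{u}} (pi : ∀ i, Pi i ⟶ Y)
    (charti : ∀ i (U : Y.Opens) (hU : IsAffineOpen U), ((((pi i) ⁻¹ᵁ U : (Pi i).Opens) : Scheme.{u}) ≅ Proj ((Ai i).deg U hU)))
    (hPi : ∀ i, RelProj.IsRelProj (Ai i) (pi i) (charti i))
    [IsIso pL] [LocallyOfFiniteType q]
    (U : Y.Opens) (hU : IsAffineOpen U) (f₀ : B.presheaf.obj (op U)) (hf₀ : f₀ ∈ B.deg U hU n)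
    (hcl : IsClosedImmersion (rB ∣_ (stdOpen pB chartB U hU hn f₀ hf₀).opensRange)) :
    ∃ i, ∀ k, i ≤ k → ∃ (f : (Ai k).presheaf.obj (op U)) (_ : f ∈ (Ai k).deg U hU n)
      (_ : imgEl (φi k) (hφi k) U hU f = f₀),
      Covers u pL rB U hU hn f₀ hf₀ (Fr (φi k) U hU n f₀) (chartB := chartB) := by
  classical
  obtain ⟨i, y, hy⟩ := hsurj U hU f₀
  obtain ⟨f, hf, hff⟩ := exists_homogeneous (φi i) (hφi i) hU hf₀ y hy
  obtain ⟨C, hC, hgen⟩ := exists_gen (φi i) (hφi i) u (hPi i) hB pL hPL rB hrB U hU hn f hf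
    f₀ hf₀ ((imgEl_eq (φi i) (hφi i) U hU f).trans hff) hcl
  have hc : ∀ c : HomogeneousLocalization.Away (B.deg U hU) f₀, ∃ l, c ∈ Fr (φi l) U hU n f₀ := fun c => by
    obtain ⟨m, g, hg, rfl⟩ := HomogeneousLocalization.Away.mk_surjective (B.deg U hU) hf₀ c
    obtain ⟨l, y', hy'⟩ := hsurj U hU g
    obtain ⟨g', hg', hgg⟩ := exists_homogeneous (φi l) (hφi l) hU hg y' hy'
    exact ⟨l, m, g', hg', by rw [HomogeneousLocalization.Away.val_mk, hgg]⟩
  choose ic hic using hc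
  obtain ⟨b, hb⟩ := Finset.exists_le (insert i (hC.toFinset.image ic))
  refine ⟨b, fun k hk => ?_⟩
  have hik : i ≤ k := (hb i (Finset.mem_insert_self _ _)).trans hk
  have hfk := ht i k hik U hU n f hf
  have he : imgEl (φi k) (hφi k) U hU (((t i k hik).hom.app (op U)).hom f) = f₀ := by
    rw [imgEl_eq, ← hff, ← hφt i k hik]
    rfl
  refine ⟨_, hfk, he, ?_⟩
  obtain ⟨R, hR⟩ : ∃ R : Subring (HomogeneousLocalization.Away (B.deg U hU) f₀),
      (R : Set _) = Fr (φi k) U hU n f₀ := by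
    clear hcl hgen hC hb hic ic C hff
    subst he
    exact ⟨(awayHom (φi k) (hφi k) U hU _).range, range_awayHom (φi k) (hφi k) U hU hn _ hfk⟩
  rw [← hR]
  refine hgen R ?_ ?_
  · rw [hR]
    exact Fr_mono (φi i) (φi k) (t i k hik) (ht i k hik) (hφt i k hik) U hU n f₀
  · rw [hR]
    intro c hc
    have hl : ic c ≤ k :=
      (hb _ (Finset.mem_insert_of_mem (Finset.mem_image_of_mem ic (hC.mem_toFinset.2 hc)))).trans hk
    exact Fr_mono (φi (ic c)) (φi k) (t _ k hl) (ht _ k hl) (hφt _ k hl) U hU n f₀ (hic c)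

end Groth.Agent.RelProjLib.Colim
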