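import Mathlib
import Groth.Agent.RelProjLib.QMap
import Groth.Agent.ProjBC.Bridge

/-!
# Relative Proj commutes with base change
-/

set_option autoImplicit false
set_option linter.style.haveILetI false
set_option backward.isDefEq.respectTransparency false
set_option backward.defeqAttrib.useBackward true

universe u

open CategoryTheory CategoryTheory.Limits AlgebraicGeometry TopologicalSpace Opposite
open scoped HomogeneousIdeal

noncomputable section

namespace Groth.Agent.RelProjLib.QMap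

/-- In a pushout of graded rings the irrelevant ideal comes from the irrelevant ideal. -/
lemma irrelevant_le_map_of_isPushout {R' R B A : CommRingCat.{u}} {t : R' ⟶ R} {sB : R' ⟶ B} {sA : R ⟶ A}
    {f : B ⟶ A} (hpo : IsPushout t sB sA f) {ℬ : ℕ → AddSubgroup B} [GradedRing ℬ]
    {𝒜 : ℕ → AddSubgroup A} [GradedRing 𝒜] (hsA : ∀ r, sA.hom r ∈ 𝒜 0)
    (φ : ℬ →+*ᵍ 𝒜) (hφf : φ.toRingHom = f.hom) : 𝒜₊ ≤ (ℬ₊).map φ := by
  classical
  letI := t.hom.toAlgebra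
  letI := sB.hom.toAlgebra
  letI := sA.hom.toAlgebra
  letI := f.hom.toAlgebra
  letI : Algebra R' A := (sA.hom.comp t.hom).toAlgebra
  haveI : IsScalarTower R' R A := .of_algebraMap_eq fun _ => rfl
  haveI : IsScalarTower R' B A := .of_algebraMap_eq fun r => congrArg (fun h => h.hom r) hpo.w
  haveI : Algebra.IsPushout R' R B A := CommRingCat.isPushout_iff_isPushout.mp hpo
  rw [HomogeneousIdeal.irrelevant_le]
  intro i hi a ha
  change a ∈ Ideal.map φ (ℬ₊).toIdeal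
  obtain ⟨w, rfl⟩ := (ProjBC.bijective_productMap (R' := R') (R := R) (A := A) (B := B)).2 a
  suffices h : ((DirectSum.decompose 𝒜 (Algebra.TensorProduct.productMap (IsScalarTower.toAlgHom R' R A)
      (IsScalarTower.toAlgHom R' B A) w)) i : A) ∈ Ideal.map φ (ℬ₊).toIdeal by
    rwa [DirectSum.decompose_of_mem_same 𝒜 ha] at h
  clear ha
  induction w with
  | zero => simp
  | add x y hx hy =>
    rw [map_add, DirectSum.decompose_add, DirectSum.add_apply, AddMemClass.coe_add]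
    exact add_mem hx hy
  | tmul r b =>
    rw [Algebra.TensorProduct.productMap_apply_tmul]
    show ((DirectSum.decompose 𝒜 (sA.hom r * f.hom b)) i : A) ∈ _
    rw [DirectSum.coe_decompose_mul_of_left_mem_zero 𝒜 (hsA r), ← RingHom.congr_fun hφf b]
    show sA.hom r * ((DirectSum.decompose 𝒜 (φ b)) i : A) ∈ _
    rw [← GradedRingHom.map_directSumDecompose]
    exact Ideal.mul_mem_left _ _ (Ideal.mem_map_of_mem φ
      (HomogeneousIdeal.mem_irrelevant_of_mem ℬ hi (SetLike.coe_mem _)))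

lemma mem_domOpen_of_le_map {A σ B τ : Type u} [CommRing A] [SetLike σ A] [AddSubgroupClass σ A] {𝒜 : ℕ → σ}
    [GradedRing 𝒜] [CommRing B] [SetLike τ B] [AddSubgroupClass τ B] {ℬ : ℕ → τ} [GradedRing ℬ]
    (φ : 𝒜 →+*ᵍ ℬ) (h : ℬ₊ ≤ (𝒜₊).map φ) (y : Proj ℬ) : y ∈ RelCone.domOpen φ := by
  by_contra hy
  rw [RelCone.mem_domOpen] at hy
  push Not at hy
  refine y.not_irrelevant_le fun b hb => ?_
  have hb' : b ∈ Ideal.map φ (𝒜₊).toIdeal := h hb
  exact Ideal.map_le_iff_le_comap.mpr (fun a ha => hy a ha) hb'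

variable {S S' : Scheme.{u}} {g : S' ⟶ S} {𝒮 : RelProj.QCGrAlg S} {𝒮' : RelProj.QCGrAlg S'}
  (u : RelProj.QGrHom g 𝒮 𝒮')
  {P : Scheme.{u}} {p : P ⟶ S}
  {chart : ∀ (U : S.Opens) (hU : IsAffineOpen U), (((p ⁻¹ᵁ U : P.Opens) : Scheme.{u}) ≅ Proj (𝒮.deg U hU))}
  {P' : Scheme.{u}} {p' : P' ⟶ S'}
  {chart' : ∀ (U' : S'.Opens) (hU' : IsAffineOpen U'), (((p' ⁻¹ᵁ U' : P'.Opens) : Scheme.{u}) ≅ Proj (𝒮'.deg U' hU'))}

lemma domQ_eq_top
    (hirr : ∀ (U : S.Opens) (hU : IsAffineOpen U) (U' : S'.Opens) (hU' : IsAffineOpen U') (hle : U' ≤ g ⁻¹ᵁ U),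
      (𝒮'.deg U' hU')₊ ≤ ((𝒮.deg U hU)₊).map (u.gradedAt U hU U' hU' hle)) :
    RelProj.domQ u p' chart' = ⊤ := by
  refine top_le_iff.mp fun x _ => ?_
  obtain ⟨U, hU, hxU, -⟩ := exists_isAffineOpen_mem_and_subset (U := (⊤ : S.Opens))
    (show g (p' x) ∈ (⊤ : S.Opens) from trivial)
  obtain ⟨U', hU', hxU', hle⟩ := exists_isAffineOpen_mem_and_subset (U := g ⁻¹ᵁ U)
    (show p' x ∈ g ⁻¹ᵁ U from hxU)
  refine Opens.mem_iSup.mpr ⟨⟨(⟨U, hU⟩, ⟨U', hU'⟩), hle⟩, (chart' U' hU').hom ⟨x, hxU'⟩,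
    mem_domOpen_of_le_map _ (hirr U hU U' hU' hle) _, ?_⟩
  show ((chart' U' hU').hom ≫ (chart' U' hU').inv ≫ (p' ⁻¹ᵁ U').ι) ⟨x, hxU'⟩ = x
  rw [Iso.hom_inv_id_assoc]
  rfl

variable {u}

lemma emb_comp {h : P' ⟶ P} (hh : RelProj.IsProjQMap u p chart p' chart' h)
    (U : S.Opens) (hU : IsAffineOpen U) (U' : S'.Opens) (hU' : IsAffineOpen U') (hle : U' ≤ g ⁻¹ᵁ U)
    (hirr : (𝒮'.deg U' hU')₊ ≤ ((𝒮.deg U hU)₊).map (u.gradedAt U hU U' hU' hle)) :
    RelProj.emb p' chart' U' hU' ≫ h =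
      Proj.map (u.gradedAt U hU U' hU' hle) hirr ≫ RelProj.emb p chart U hU := by
  refine (Proj.mapAffineOpenCover (u.gradedAt U hU U' hU' hle) hirr).openCover.hom_ext _ _ fun s => ?_
  simp only [Scheme.AffineOpenCover.openCover_f, Proj.mapAffineOpenCover_f]
  erw [Proj.awayι_comp_map_assoc (u.gradedAt U hU U' hU' hle) hirr s.1.2 _ s.2.2]
  exact (Category.assoc _ _ _).symm.trans (hh.2 U hU U' hU' hle s.1 s.1.2 s.2 s.2.2)

lemma isPullback_emb {Z Q : Scheme.{u}} {𝒯 : RelProj.QCGrAlg Z} {q : Q ⟶ Z}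
    {ch : ∀ (V : Z.Opens) (hV : IsAffineOpen V), (((q ⁻¹ᵁ V : Q.Opens) : Scheme.{u}) ≅ Proj (𝒯.deg V hV))}
    (hQ : RelProj.IsRelProj 𝒯 q ch) (V : Z.Opens) (hV : IsAffineOpen V) :
    IsPullback (Proj.toSpecZero (𝒯.deg V hV) ≫ Spec.map (𝒯.strZero V hV)) (RelProj.emb q ch V hV) hV.fromSpec q := by
  refine IsOpenImmersion.isPullback _ _ _ _ ?_ ?_
  · show ((ch V hV).inv ≫ (q ⁻¹ᵁ V).ι) ≫ q = _
    rw [Category.assoc, ← hQ.chart_over V hV, Iso.inv_hom_id_assoc, Category.assoc]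
  · rw [hV.opensRange_fromSpec]
    change _ = ((ch V hV).inv ≫ (q ⁻¹ᵁ V).ι).opensRange
    rw [Scheme.Hom.opensRange_comp_of_isIso, Scheme.Opens.opensRange_ι]

theorem isPullback_of_isQBaseChange (hu : RelSpec.IsQBaseChange u.toQHom)
    (hP : RelProj.IsRelProj 𝒮 p chart) (hP' : RelProj.IsRelProj 𝒮' p' chart')
    {h : P' ⟶ P} (hh : RelProj.IsProjQMap u p chart p' chart' h) : IsPullback h p' p g := by
  refine IsPullback.flip ?_
  let ι := {W : S'.affineOpens // ∃ U : S.affineOpens, (W : S'.Opens) ≤ g ⁻¹ᵁ (U : S.Opens)}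
  have hcov : ∀ x : S', ∃ W : ι, x ∈ (W.1.1 : S'.Opens) := fun x => by
    obtain ⟨U, hU, hxU, -⟩ := exists_isAffineOpen_mem_and_subset (U := (⊤ : S.Opens))
      (show g x ∈ (⊤ : S.Opens) from trivial)
    obtain ⟨W, hW, hxW, hWle⟩ := exists_isAffineOpen_mem_and_subset (U := g ⁻¹ᵁ U) hxU
    exact ⟨⟨⟨W, hW⟩, ⟨⟨U, hU⟩, hWle⟩⟩, hxW⟩
  choose c hc using hcov
  let 𝒰 : S'.OpenCover := Scheme.Cover.mkOfCovers ι (fun W => Spec Γ(S', W.1.1)) (fun W => W.1.2.fromSpec)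
    (fun x => by
      have hx : x ∈ Set.range (c x).1.2.fromSpec := by rw [IsAffineOpen.range_fromSpec]; exact hc x
      exact ⟨c x, hx⟩) (fun _ => inferInstance)
  refine Scheme.isPullback_of_openCover _ _ _ _ 𝒰 ?_
  intro i
  obtain ⟨⟨W, hW⟩, ⟨U, hU⟩, hle⟩ := i
  have hirr := irrelevant_le_map_of_isPushout (hu U hU W hW hle) (fun r => 𝒮'.str_mem W hW r)
    (u.gradedAt U hU W hW hle) rfl
  have h1 := isPullback_emb hP' W hW
  have h2 := isPullback_emb hP U hU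
  have h3 := ProjBC.isPullback_of_isPushout (g.appLE U W hle) (𝒮.str.app (op U))
    (𝒮'.str.app (op W)) _ (hu U hU W hW hle) (𝒮.deg U hU) (𝒮'.deg W hW) (𝒮.strZero U hU)
    (𝒮'.strZero W hW) (fun _ => rfl) (fun _ => rfl) (u.gradedAt U hU W hW hle) rfl hirr
  have h4 := h3.flip.paste_vert h2
  rw [hU.SpecMap_appLE_fromSpec g hW hle, ← emb_comp hh U hU W hW hle hirr] at h4
  let e := h1.flip.isoPullback
  refine h4.of_iso e (Iso.refl _) (Iso.refl _) (Iso.refl _) ?_ ?_ ?_ ?_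
  · simp only [Iso.refl_hom, Category.comp_id]
    exact h1.flip.isoPullback_hom_snd.symm
  · simp only [Iso.refl_hom, Category.comp_id]
    exact (h1.flip.isoPullback_hom_fst_assoc h).symm
  · simp only [Iso.refl_hom, Category.id_comp, Category.comp_id]
    rfl
  · simp only [Iso.refl_hom, Category.id_comp, Category.comp_id]

variable (u chart chart') in
theorem exists_isProjQMap (htop : RelProj.domQ u p' chart' = ⊤)
    (hP : RelProj.IsRelProj 𝒮 p chart) (hP' : RelProj.IsRelProj 𝒮' p' chart') :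
    ∃ h : P' ⟶ P, RelProj.IsProjQMap u p chart p' chart' h := by
  obtain ⟨v, hv, -⟩ := existsUnique_on u p chart p' chart' hP hP'
  haveI : IsIso (RelProj.domQ u p' chart').ι := by
    haveI : Surjective (RelProj.domQ u p' chart').ι :=
      ⟨fun x => ⟨⟨x, by rw [htop]; trivial⟩, rfl⟩⟩
    exact (isIso_iff_isOpenImmersion_and_surjective _).mpr ⟨inferInstance, inferInstance⟩
  refine ⟨inv (RelProj.domQ u p' chart').ι ≫ v, htop, fun U hU U' hU' hle d hd f hf => ?_⟩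
  have hW := RelProj.range_awayEmb_subset_domQ u p' chart' U hU U' hU' hle hd f hf
  have h1 := hv U hU U' hU' hle d hd f hf hW
  rw [← h1, ← Category.assoc]
  congr 1
  rw [IsIso.comp_inv_eq, IsOpenImmersion.lift_fac]

end Groth.Agent.RelProjLib.QMap

end
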