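import Groth.Agent.RelProjLib.Basic

/-! The opens `X_f` of a relative `Proj`. -/

set_option autoImplicit false
set_option linter.style.haveILetI false
set_option backward.isDefEq.respectTransparency false
universe u
open CategoryTheory CategoryTheory.Limits AlgebraicGeometry TopologicalSpace Opposite
open scoped HomogeneousIdeal

noncomputable section

namespace Groth.Agent.RelProjLib

variable {S : Scheme.{u}} {𝒮 : RelProj.QCGrAlg S} {P : Scheme.{u}} {p : P ⟶ S}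
  {chart : ∀ (U : S.Opens) (hU : IsAffineOpen U), (((p ⁻¹ᵁ U : P.Opens) : Scheme.{u}) ≅ Proj (𝒮.deg U hU))}

variable (chart) in
/-- `f` is invertible at `x`, seen in the chart over `U`. -/
def MemAt (f : 𝒮.presheaf.obj (op ⊤)) (U : S.Opens) (hU : IsAffineOpen U) (x : P) : Prop :=
  ∃ h : x ∈ p ⁻¹ᵁ U, (chart U hU).hom ⟨x, h⟩ ∈
    Proj.basicOpen (𝒮.deg U hU) ((𝒮.presheaf.map (homOfLE le_top).op).hom f)

lemma memAt_basicOpen (hP : RelProj.IsRelProj 𝒮 p chart) (f : 𝒮.presheaf.obj (op ⊤))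
    (U : S.Opens) (hU : IsAffineOpen U) (r : Γ(S, U)) (x : P) (hx : x ∈ p ⁻¹ᵁ S.basicOpen r) :
    MemAt chart f U hU x ↔ MemAt chart f (S.basicOpen r) (hU.basicOpen r) x := by
  have h := congr(($(hP.chart_res U hU r)) ⟨x, hx⟩)
  rw [Scheme.Hom.comp_apply, Scheme.Hom.comp_apply] at h
  have hres : (𝒮.res hU (hU.basicOpen r) (S.basicOpen_le r))
      ((𝒮.presheaf.map (homOfLE le_top).op).hom f) = (𝒮.presheaf.map (homOfLE le_top).op).hom f := by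
    change (𝒮.presheaf.map _).hom ((𝒮.presheaf.map _).hom f) = _
    rw [← CommRingCat.comp_apply, ← Functor.map_comp]
    rfl
  have key : (chart U hU).hom ⟨x, p.preimage_mono (S.basicOpen_le r) hx⟩ ∈
      Proj.basicOpen (𝒮.deg U hU) ((𝒮.presheaf.map (homOfLE le_top).op).hom f) ↔
    (chart (S.basicOpen r) (hU.basicOpen r)).hom ⟨x, hx⟩ ∈
      Proj.basicOpen (𝒮.deg (S.basicOpen r) (hU.basicOpen r))
        ((𝒮.presheaf.map (homOfLE le_top).op).hom f) := by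
    rw [← hres, ← Proj.map_preimage_basicOpen _ (𝒮.irrelevant_le_map U hU r)]
    have e : (P.homOfLE (p.preimage_mono (S.basicOpen_le r))) ⟨x, hx⟩ =
        ⟨x, p.preimage_mono (S.basicOpen_le r) hx⟩ := Subtype.ext (by simp)
    rw [e] at h
    rw [h]
    rfl
  exact ⟨fun ⟨_, h⟩ => ⟨hx, key.1 h⟩, fun ⟨_, h⟩ => ⟨_, key.2 h⟩⟩

lemma memAt_iff (hP : RelProj.IsRelProj 𝒮 p chart) (f : 𝒮.presheaf.obj (op ⊤))
    (U : S.Opens) (hU : IsAffineOpen U) (V : S.Opens) (hV : IsAffineOpen V) (x : P)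
    (hxU : x ∈ p ⁻¹ᵁ U) (hxV : x ∈ p ⁻¹ᵁ V) :
    MemAt chart f U hU x ↔ MemAt chart f V hV x := by
  obtain ⟨r, r', e, hx⟩ := exists_basicOpen_le_affine_inter hU hV (p.base x) ⟨hxU, hxV⟩
  have key : ∀ (D D' : S.Opens) (hD : IsAffineOpen D) (hD' : IsAffineOpen D') (_ : D = D'),
      MemAt chart f D hD x ↔ MemAt chart f D' hD' x := by
    rintro D _ hD hD' rfl; rfl
  rw [memAt_basicOpen hP f U hU r x hx, memAt_basicOpen hP f V hV r' x (e ▸ hx)]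
  exact key _ _ _ _ e

lemma mem_image_iff (f : 𝒮.presheaf.obj (op ⊤)) (U : S.Opens) (hU : IsAffineOpen U) (x : P) :
    x ∈ (p ⁻¹ᵁ U).ι ''ᵁ ((chart U hU).hom ⁻¹ᵁ
      Proj.basicOpen (𝒮.deg U hU) ((𝒮.presheaf.map (homOfLE le_top).op).hom f)) ↔
    MemAt chart f U hU x := by
  constructor
  · rintro ⟨⟨y, hy⟩, hy', rfl⟩
    exact ⟨hy, hy'⟩
  · rintro ⟨h, h'⟩
    exact ⟨⟨x, h⟩, h', rfl⟩

variable (chart) in
/-- The open `X_f`. -/
def xOpen (f : 𝒮.presheaf.obj (op ⊤)) : P.Opens :=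
  ⨆ U : S.affineOpens, (p ⁻¹ᵁ (U : S.Opens)).ι ''ᵁ ((chart U U.2).hom ⁻¹ᵁ
      Proj.basicOpen (𝒮.deg U U.2) ((𝒮.presheaf.map (homOfLE le_top).op).hom f))

lemma xOpen_inf (hP : RelProj.IsRelProj 𝒮 p chart) (f : 𝒮.presheaf.obj (op ⊤))
    (U : S.Opens) (hU : IsAffineOpen U) :
    xOpen chart f ⊓ p ⁻¹ᵁ U =
      (p ⁻¹ᵁ U).ι ''ᵁ ((chart U hU).hom ⁻¹ᵁ
        Proj.basicOpen (𝒮.deg U hU) ((𝒮.presheaf.map (homOfLE le_top).op).hom f)) := by
  refine TopologicalSpace.Opens.ext (Set.ext fun x => ⟨?_, fun h => ⟨?_, ?_⟩⟩)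
  · rintro ⟨h, hxU⟩
    obtain ⟨V, hV⟩ := Opens.mem_iSup.1 h
    have hV' := (mem_image_iff f V.1 V.2 x).1 hV
    exact (mem_image_iff f U hU x).2 ((memAt_iff hP f U hU V.1 V.2 x hxU hV'.1).2 hV')
  · exact Opens.mem_iSup.2 ⟨⟨U, hU⟩, h⟩
  · exact ((mem_image_iff f U hU x).1 h).1

end Groth.Agent.RelProjLib
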