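import Mathlib
import Groth.Agent.RelProjLib.QComp
import Groth.Agent.RelSpecLib.Cone

/-!
# (TN)-surjective and (TN)-injective homomorphisms; restriction of a composite to the domain
-/

set_option autoImplicit false
set_option linter.style.haveILetI false
set_option linter.unusedVariables false
set_option backward.isDefEq.respectTransparency false
set_option backward.defeqAttrib.useBackward true

universe u

open CategoryTheory CategoryTheory.Limits AlgebraicGeometry TopologicalSpace Opposite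
open scoped HomogeneousIdeal

noncomputable section

namespace Groth.Agent.RelProjLib.QMap

section TN

variable {Y PA PB : Scheme.{u}} {𝒜 ℬ : RelProj.QCGrAlg Y} {φ : 𝒜.toQCAlg ⟶ ℬ.toQCAlg} (hφ : RelProj.IsGradedHom φ)
  {pA : PA ⟶ Y} {chartA : ∀ (U : Y.Opens) (hU : IsAffineOpen U), (((pA ⁻¹ᵁ U : PA.Opens) : Scheme.{u}) ≅ Proj (𝒜.deg U hU))}
  {pB : PB ⟶ Y} {chartB : ∀ (U : Y.Opens) (hU : IsAffineOpen U), (((pB ⁻¹ᵁ U : PB.Opens) : Scheme.{u}) ≅ Proj (ℬ.deg U hU))}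

theorem tn_domQ_top (hB : RelProj.IsRelProj ℬ pB chartB)
    (hTN : ∃ n : ℕ, ∀ k, n ≤ k → ∀ (U : Y.Opens) (hU : IsAffineOpen U), ∀ y ∈ ℬ.deg U hU k,
      ∃ x ∈ 𝒜.deg U hU k, (φ.hom.app (op U)).hom x = y) :
    RelProj.domQ (RelProj.QGrHom.ofHom φ hφ) pB chartB = ⊤ := by
  obtain ⟨n, hsur⟩ := hTN
  refine top_le_iff.mp fun x _ => ?_
  obtain ⟨U, hU, hxU, -⟩ := exists_isAffineOpen_mem_and_subset (U := (⊤ : Y.Opens))
    (show pB x ∈ (⊤ : Y.Opens) from trivial)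
  have hdom : RelCone.domOpen (RelProj.gradedHomAt φ hφ U hU) = ⊤ := by
    rw [Groth.Agent.RelSpecLib.domOpen_eq_top_iff]
    intro P hP hψ
    refine (HomogeneousIdeal.toIdeal_irrelevant_le _).mpr fun i hi b hb => ?_
    have hmem : b ^ (n + 1) ∈ ℬ.deg U hU ((n + 1) • i) := SetLike.pow_mem_graded (n + 1) hb
    have hk : n ≤ (n + 1) • i := by simp only [smul_eq_mul]; nlinarith
    obtain ⟨a, ha, hab⟩ := hsur ((n + 1) • i) hk U hU _ hmem
    refine hP.mem_of_pow_mem (n + 1) ?_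
    rw [← hab]
    exact hψ a (HomogeneousIdeal.mem_irrelevant_of_mem _ (by simp only [smul_eq_mul]; nlinarith) ha)
  have h : x ∈ (RelProj.domQ (RelProj.QGrHom.ofHom φ hφ) pB chartB ⊓ pB ⁻¹ᵁ U) := by
    rw [domQ_inf hφ hB U hU, hdom]
    refine ⟨(chartB U hU).hom ⟨x, hxU⟩, trivial, ?_⟩
    show ((chartB U hU).hom ≫ (chartB U hU).inv ≫ (pB ⁻¹ᵁ U).ι) ⟨x, hxU⟩ = x
    rw [Iso.hom_inv_id_assoc]
    rfl
  exact h.1

theorem tn_isClosedImmersion (hA : RelProj.IsRelProj 𝒜 pA chartA) (hB : RelProj.IsRelProj ℬ pB chartB)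
    (hTN : ∃ n : ℕ, ∀ k, n ≤ k → ∀ (U : Y.Opens) (hU : IsAffineOpen U), ∀ y ∈ ℬ.deg U hU k,
      ∃ x ∈ 𝒜.deg U hU k, (φ.hom.app (op U)).hom x = y)
    {v : ((RelProj.domQ (RelProj.QGrHom.ofHom φ hφ) pB chartB : PB.Opens) : Scheme.{u}) ⟶ PA}
    (hv : RelProj.IsProjQMapOn (RelProj.QGrHom.ofHom φ hφ) pA chartA pB chartB
      (RelProj.domQ (RelProj.QGrHom.ofHom φ hφ) pB chartB) v) :
    IsClosedImmersion v := by
  classical
  obtain ⟨n, hsur⟩ := hTN
  refine of_charts_on hφ hA hB hv @IsClosedImmersion fun U hU d hd f hf => ?_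
  refine IsClosedImmersion.spec_of_surjective _ ?_
  intro z
  obtain ⟨k, b, hb, rfl⟩ := HomogeneousLocalization.Away.mk_surjective _ ((RelProj.gradedHomAt φ hφ U hU).map_mem hf) z
  have hb' : (RelProj.gradedHomAt φ hφ U hU) f ^ n * b ∈ ℬ.deg U hU ((n + k) • d) := by
    have h1 : (RelProj.gradedHomAt φ hφ U hU) f ^ n ∈ ℬ.deg U hU (n • d) :=
      SetLike.pow_mem_graded n ((RelProj.gradedHomAt φ hφ U hU).map_mem hf)
    rw [add_smul]
    exact SetLike.mul_mem_graded h1 hb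
  obtain ⟨a, ha, hab⟩ := hsur ((n + k) • d) (by simp only [smul_eq_mul]; nlinarith) U hU _ hb'
  refine ⟨HomogeneousLocalization.Away.mk _ hf (n + k) a ha, ?_⟩
  ext
  show HomogeneousLocalization.val (HomogeneousLocalization.Away.map _ _ _) = _
  rw [HomogeneousLocalization.Away.map_mk, HomogeneousLocalization.Away.val_mk,
    HomogeneousLocalization.Away.val_mk, Localization.mk_eq_mk_iff, Localization.r_iff_exists]
  refine ⟨1, ?_⟩
  have hab' : (RelProj.gradedHomAt φ hφ U hU) a = (RelProj.gradedHomAt φ hφ U hU) f ^ n * b := hab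
  simp only [OneMemClass.coe_one, one_mul]
  rw [hab', pow_add]
  generalize hu : (RelProj.gradedHomAt φ hφ U hU) f = w
  ring

theorem tn_isDominant (hA : RelProj.IsRelProj 𝒜 pA chartA) (hB : RelProj.IsRelProj ℬ pB chartB)
    (hTN : ∃ n : ℕ, ∀ k, n ≤ k → ∀ (U : Y.Opens) (hU : IsAffineOpen U), ∀ x ∈ 𝒜.deg U hU k,
      (φ.hom.app (op U)).hom x = 0 → x = 0)
    {v : ((RelProj.domQ (RelProj.QGrHom.ofHom φ hφ) pB chartB : PB.Opens) : Scheme.{u}) ⟶ PA}
    (hv : RelProj.IsProjQMapOn (RelProj.QGrHom.ofHom φ hφ) pA chartA pB chartB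
      (RelProj.domQ (RelProj.QGrHom.ofHom φ hφ) pB chartB) v) :
    IsDominant v := by
  classical
  obtain ⟨n, hinj⟩ := hTN
  refine of_charts_on hφ hA hB hv @IsDominant fun U hU d hd f hf => ?_
  set ψ := RelProj.gradedHomAt φ hφ U hU
  refine ⟨(PrimeSpectrum.denseRange_comap_iff_ker_le_nilRadical _).mpr fun z hz => ?_⟩
  obtain ⟨k, a, ha, rfl⟩ := HomogeneousLocalization.Away.mk_surjective _ hf z
  have hz' : (HomogeneousLocalization.Away.map ψ f (HomogeneousLocalization.Away.mk _ hf k a ha)).val =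
      (0 : HomogeneousLocalization.Away (ℬ.deg U hU) (ψ f)).val := congrArg _ hz
  rw [HomogeneousLocalization.Away.map_mk, HomogeneousLocalization.Away.val_mk, HomogeneousLocalization.val_zero,
    Localization.mk_eq_mk', IsLocalization.mk'_eq_zero_iff] at hz'
  obtain ⟨⟨_, m, rfl⟩, hm⟩ := hz'
  have hm' : ψ (f ^ (n + m) * a) = 0 := by
    rw [map_mul, map_pow, pow_add, mul_assoc]
    exact (congrArg (ψ f ^ n * ·) hm).trans (mul_zero _)
  have hmem : f ^ (n + m) * a ∈ 𝒜.deg U hU ((n + m + k) • d) := by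
    have h1 : f ^ (n + m) ∈ 𝒜.deg U hU ((n + m) • d) := SetLike.pow_mem_graded (n + m) hf
    rw [add_smul]
    exact SetLike.mul_mem_graded h1 ha
  have h0 := hinj ((n + m + k) • d) (by simp only [smul_eq_mul]; nlinarith) U hU _ hmem hm'
  refine ⟨1, ?_⟩
  rw [pow_one]
  ext
  rw [HomogeneousLocalization.Away.val_mk, HomogeneousLocalization.val_zero, Localization.mk_eq_mk',
    IsLocalization.mk'_eq_zero_iff]
  exact ⟨⟨f ^ (n + m), n + m, rfl⟩, h0⟩

end TN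

section comp

variable {S S' S'' : Scheme.{u}} {g : S' ⟶ S} {g' : S'' ⟶ S'} {g'' : S'' ⟶ S}
  {𝒮 : RelProj.QCGrAlg S} {𝒮' : RelProj.QCGrAlg S'} {𝒮'' : RelProj.QCGrAlg S''}
  {h : RelProj.QGrHom g 𝒮 𝒮'} {k : RelProj.QGrHom g' 𝒮' 𝒮''} {w : RelProj.QGrHom g'' 𝒮 𝒮''}
  {P : Scheme.{u}} {p : P ⟶ S}
  {chart : ∀ (U : S.Opens) (hU : IsAffineOpen U), (((p ⁻¹ᵁ U : P.Opens) : Scheme.{u}) ≅ Proj (𝒮.deg U hU))}
  {P' : Scheme.{u}} {p' : P' ⟶ S'}
  {chart' : ∀ (U' : S'.Opens) (hU' : IsAffineOpen U'), (((p' ⁻¹ᵁ U' : P'.Opens) : Scheme.{u}) ≅ Proj (𝒮'.deg U' hU'))}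
  {P'' : Scheme.{u}} {p'' : P'' ⟶ S''}
  {chart'' : ∀ (U'' : S''.Opens) (hU'' : IsAffineOpen U''), (((p'' ⁻¹ᵁ U'' : P''.Opens) : Scheme.{u}) ≅ Proj (𝒮''.deg U'' hU''))}

/-- The induced map of a composite is the composite of the induced maps. -/
theorem exists_comp_restrict (H : IsComp h k w) (hP : RelProj.IsRelProj 𝒮 p chart) (hP' : RelProj.IsRelProj 𝒮' p' chart')
    (hP'' : RelProj.IsRelProj 𝒮'' p'' chart'')
    {vh : ((RelProj.domQ h p' chart' : P'.Opens) : Scheme.{u}) ⟶ P}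
    (hh : RelProj.IsProjQMapOn h p chart p' chart' (RelProj.domQ h p' chart') vh)
    {vk : ((RelProj.domQ k p'' chart'' : P''.Opens) : Scheme.{u}) ⟶ P'}
    (hk : RelProj.IsProjQMapOn k p' chart' p'' chart'' (RelProj.domQ k p'' chart'') vk)
    {vw : ((RelProj.domQ w p'' chart'' : P''.Opens) : Scheme.{u}) ⟶ P}
    (hw : RelProj.IsProjQMapOn w p chart p'' chart'' (RelProj.domQ w p'' chart'') vw) :
    ∃ e : ((vk ⁻¹ᵁ RelProj.domQ h p' chart' : _) : Scheme.{u}) ≅ (RelProj.domQ w p'' chart'' : P''.Opens),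
      e.hom ≫ (RelProj.domQ w p'' chart'').ι = (vk ⁻¹ᵁ RelProj.domQ h p' chart').ι ≫ (RelProj.domQ k p'' chart'').ι ∧
      (vk ∣_ RelProj.domQ h p' chart') ≫ vh = e.hom ≫ vw := by
  let W := vk ⁻¹ᵁ RelProj.domQ h p' chart'
  have hr : Set.range (W.ι ≫ (RelProj.domQ k p'' chart'').ι).base = Set.range (RelProj.domQ w p'' chart'').ι.base := by
    rw [Scheme.Opens.range_ι, ← domQ_comp H hP' hP'' hk, Scheme.Hom.comp_base, TopCat.coe_comp, Set.range_comp,
      Scheme.Opens.range_ι]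
    rfl
  let e := IsOpenImmersion.isoOfRangeEq (W.ι ≫ (RelProj.domQ k p'' chart'').ι) (RelProj.domQ w p'' chart'').ι hr
  refine ⟨e, IsOpenImmersion.isoOfRangeEq_hom_fac _ _ _, ?_⟩
  exact comp_eq' H hP hP' hP'' hh hk hw W.ι _ _ (morphismRestrict_ι _ _).symm
    (IsOpenImmersion.isoOfRangeEq_hom_fac _ _ _).symm

end comp

end Groth.Agent.RelProjLib.QMap

end
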