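import Mathlib
import Groth.Prelude.Def_RelProj4
import Groth.Prelude.Def_RelSpec2
import Groth.Agent.RelProjLib.TN
import Groth.Agent.RelSpecLib.ProjCone

/-!
# Functoriality of projective cones
-/

set_option autoImplicit false
set_option linter.style.haveILetI false
set_option linter.unusedVariables false
set_option backward.isDefEq.respectTransparency false
set_option backward.defeqAttrib.useBackward true

universe u

open CategoryTheory CategoryTheory.Limits AlgebraicGeometry TopologicalSpace Opposite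
open scoped HomogeneousIdeal

noncomputable section

namespace Groth.Agent.RelProjLib.QMap

section compHom

variable {S S' : Scheme.{u}} {q : S' ⟶ S} {𝒮 : RelProj.QCGrAlg S} {𝒮' : RelProj.QCGrAlg S'}

/-- A graded `q`-morphism followed by a graded homomorphism. -/
def compHom {𝒯 : RelProj.QCGrAlg S'} (u : RelProj.QGrHom q 𝒮 𝒮') (v : 𝒮'.toQCAlg ⟶ 𝒯.toQCAlg)
    (hv : RelProj.IsGradedHom v) : RelProj.QGrHom q 𝒮 𝒯 where
  app U := u.app U ≫ v.hom.app (op (q ⁻¹ᵁ U))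
  naturality {U V} i := by
    rw [Category.assoc, ← v.hom.naturality, ← Category.assoc, u.naturality, Category.assoc]
  str_app U := by
    rw [← Category.assoc, u.str_app, Category.assoc, ← NatTrans.comp_app, v.comm]
  map_mem U hU U' hU' hle {d x} hx := by
    have h := congrArg (fun t => (t : 𝒮'.presheaf.obj (op (q ⁻¹ᵁ U)) ⟶ 𝒯.presheaf.obj (op U')).hom ((u.app U).hom x))
      (v.hom.naturality (homOfLE hle).op).symm
    exact (congrArg (· ∈ 𝒯.deg U' hU' d) h).mpr (hv U' hU' d _ (u.map_mem U hU U' hU' hle hx))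

/-- A graded homomorphism followed by a graded `q`-morphism. -/
def homComp {𝒯 : RelProj.QCGrAlg S} (v : 𝒯.toQCAlg ⟶ 𝒮.toQCAlg) (hv : RelProj.IsGradedHom v)
    (u : RelProj.QGrHom q 𝒮 𝒮') : RelProj.QGrHom q 𝒯 𝒮' where
  app U := v.hom.app (op U) ≫ u.app U
  naturality {U V} i := by
    rw [Category.assoc, u.naturality, ← Category.assoc, ← v.hom.naturality, Category.assoc]
  str_app U := by
    rw [← Category.assoc, ← NatTrans.comp_app, v.comm, u.str_app]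
  map_mem U hU U' hU' hle {d x} hx := u.map_mem U hU U' hU' hle (hv U hU d x hx)

end compHom

section cone

variable {Y : Scheme.{u}} {𝒮 𝒮h : RelProj.QCGrAlg Y} {ι : 𝒮.toQCAlg ⟶ 𝒮h.toQCAlg} {z : 𝒮h.presheaf.obj (op ⊤)}
  (hz : RelCone.IsPolyOver 𝒮 𝒮h ι z)
  {PC : Scheme.{u}} {pC : PC ⟶ Y}
  {chartC : ∀ (U : Y.Opens) (hU : IsAffineOpen U), (((pC ⁻¹ᵁ U : PC.Opens) : Scheme.{u}) ≅ Proj (𝒮h.deg U hU))}

theorem pointedProjCone_eq_domQ (hC : RelProj.IsRelProj 𝒮h pC chartC) :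
    RelCone.pointedProjCone 𝒮 hz pC chartC =
      RelProj.domQ (RelProj.QGrHom.ofHom ι hz.graded) pC chartC := by
  refine le_antisymm (iSup_le fun U => ?_) ?_
  · rw [← domQ_inf hz.graded hC U.1 U.2]
    exact inf_le_left
  · intro x hx
    obtain ⟨U, hU, hxU, -⟩ := exists_isAffineOpen_mem_and_subset (U := (⊤ : Y.Opens))
      (show pC x ∈ (⊤ : Y.Opens) from trivial)
    have h : x ∈ (RelProj.domQ (RelProj.QGrHom.ofHom ι hz.graded) pC chartC ⊓ pC ⁻¹ᵁ U : PC.Opens) := ⟨hx, hxU⟩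
    rw [domQ_inf hz.graded hC U hU] at h
    exact Opens.mem_iSup.mpr ⟨⟨U, hU⟩, h⟩

include hz in
/-- On `V₊(z) ∩ V₊(ι(S₊))` there are no points. -/
theorem mem_basicOpen_or_domOpen (U : Y.Opens) (hU : IsAffineOpen U) (x : Proj (𝒮h.deg U hU)) :
    RelCone.restrictTop 𝒮h z U ∉ x.asHomogeneousIdeal ∨
      x ∈ RelCone.domOpen (RelProj.gradedHomAt ι hz.graded U hU) := by
  rw [RelCone.mem_domOpen]
  by_contra hcon
  push Not at hcon
  obtain ⟨hzx, hI⟩ := hcon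
  refine x.not_irrelevant_le ((HomogeneousIdeal.irrelevant_le _).mpr fun i hi b hb => ?_)
  obtain ⟨c, hc, rfl⟩ := Groth.Agent.RelSpecLib.exists_decomp hz U hU hb
  refine Ideal.sum_mem _ fun j hj => ?_
  rcases (Nat.le_of_lt_succ (Finset.mem_range.mp hj)).lt_or_eq with hlt | rfl
  · exact Ideal.mul_mem_right _ _ (hI _ (HomogeneousIdeal.mem_irrelevant_of_mem _ (Nat.sub_pos_of_lt hlt) (hc j)))
  · exact Ideal.mul_mem_left _ _ (Ideal.pow_mem_of_mem _ hzx j hi)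

variable {Y' : Scheme.{u}} {q : Y' ⟶ Y} {𝒮' 𝒮h' : RelProj.QCGrAlg Y'} {ι' : 𝒮'.toQCAlg ⟶ 𝒮h'.toQCAlg}
  {z' : 𝒮h'.presheaf.obj (op ⊤)} {u : RelProj.QGrHom q 𝒮 𝒮'} {uh : RelProj.QGrHom q 𝒮h 𝒮h'}

theorem appLE_z (huhz : (uh.app ⊤).hom z = RelCone.restrictTop 𝒮h' z' (q ⁻¹ᵁ ⊤))
    (U : Y.Opens) (U' : Y'.Opens) (hle : U' ≤ q ⁻¹ᵁ U) :
    (uh.appLE U U' hle).hom (RelCone.restrictTop 𝒮h z U) = RelCone.restrictTop 𝒮h' z' U' := by
  have h := congrArg (fun t => (t : 𝒮h.presheaf.obj (op ⊤) ⟶ 𝒮h'.presheaf.obj (op U')).hom z)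
    (uh.toQHom.map_appLE (le_top : U ≤ ⊤) hle)
  refine h.trans ?_
  show (𝒮h'.presheaf.map (homOfLE _).op).hom ((uh.app ⊤).hom z) = _
  rw [huhz]
  show (𝒮h'.presheaf.map _ ≫ 𝒮h'.presheaf.map _).hom z' = _
  rw [← Functor.map_comp]
  rfl

theorem appLE_ι (huh : ∀ U : Y.Opens, ι.hom.app (op U) ≫ uh.app U = u.app U ≫ ι'.hom.app (op (q ⁻¹ᵁ U)))
    (U : Y.Opens) (U' : Y'.Opens) (hle : U' ≤ q ⁻¹ᵁ U) :
    ι.hom.app (op U) ≫ uh.appLE U U' hle = u.appLE U U' hle ≫ ι'.hom.app (op U') := by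
  rw [RelSpec.QHom.appLE, RelSpec.QHom.appLE, ← Category.assoc, huh, Category.assoc, Category.assoc,
    ← ι'.hom.naturality]

theorem evalOne_appLE (hz' : RelCone.IsPolyOver 𝒮' 𝒮h' ι' z')
    (huh : ∀ U : Y.Opens, ι.hom.app (op U) ≫ uh.app U = u.app U ≫ ι'.hom.app (op (q ⁻¹ᵁ U)))
    (huhz : (uh.app ⊤).hom z = RelCone.restrictTop 𝒮h' z' (q ⁻¹ᵁ ⊤))
    (U : Y.Opens) (hU : IsAffineOpen U) (U' : Y'.Opens) (hU' : IsAffineOpen U') (hle : U' ≤ q ⁻¹ᵁ U)
    (x : 𝒮h.presheaf.obj (op U)) :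
    hz'.evalOne U' hU' ((uh.appLE U U' hle).hom x) = (u.appLE U U' hle).hom (hz.evalOne U hU x) := by
  obtain ⟨P, rfl⟩ := (hz.bij U hU).2 x
  have h : ((hz'.evalOne U' hU').comp (uh.appLE U U' hle).hom).comp
      (Polynomial.eval₂RingHom (ι.hom.app (op U)).hom (RelCone.restrictTop 𝒮h z U)) =
      ((u.appLE U U' hle).hom.comp (hz.evalOne U hU)).comp
      (Polynomial.eval₂RingHom (ι.hom.app (op U)).hom (RelCone.restrictTop 𝒮h z U)) := by
    refine Polynomial.ringHom_ext (fun a => ?_) ?_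
    · simp only [RingHom.comp_apply, Polynomial.coe_eval₂RingHom, Polynomial.eval₂_C]
      rw [hz.evalOne_ι, show (uh.appLE U U' hle).hom ((ι.hom.app (op U)).hom a) =
        (ι'.hom.app (op U')).hom ((u.appLE U U' hle).hom a) from
        congrArg (fun t => (t : 𝒮.presheaf.obj (op U) ⟶ 𝒮h'.presheaf.obj (op U')).hom a) (appLE_ι huh U U' hle),
        hz'.evalOne_ι]
    · simp only [RingHom.comp_apply, Polynomial.coe_eval₂RingHom, Polynomial.eval₂_X]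
      rw [hz.evalOne_z, appLE_z huhz, hz'.evalOne_z, map_one]
  exact congrArg (fun t : Polynomial _ →+* _ => t P) h

variable {PC' : Scheme.{u}} {pC' : PC' ⟶ Y'}
  {chartC' : ∀ (U : Y'.Opens) (hU : IsAffineOpen U), (((pC' ⁻¹ᵁ U : PC'.Opens) : Scheme.{u}) ≅ Proj (𝒮h'.deg U hU))}

/-- Points where `z'` does not vanish are in the domain of `uh`. -/
theorem emb_mem_domQ (hz : RelCone.IsPolyOver 𝒮 𝒮h ι z) (huhz : (uh.app ⊤).hom z = RelCone.restrictTop 𝒮h' z' (q ⁻¹ᵁ ⊤))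
    (U : Y.Opens) (hU : IsAffineOpen U) (U' : Y'.Opens) (hU' : IsAffineOpen U') (hle : U' ≤ q ⁻¹ᵁ U)
    (x : Proj (𝒮h'.deg U' hU')) (hx : RelCone.restrictTop 𝒮h' z' U' ∉ x.asHomogeneousIdeal) :
    RelProj.emb pC' chartC' U' hU' x ∈ RelProj.domQ uh pC' chartC' := by
  let k : Idx (g := q) (𝒮 := 𝒮h) := ⟨U, hU, U', hU', hle, 1, one_pos, RelCone.restrictTop 𝒮h z U, hz.deg_z U hU⟩
  have h : RelProj.emb pC' chartC' U' hU' x ∈ Set.range (cMap uh pC' chartC' k).base := by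
    rw [range_cMap]
    refine ⟨x, (ProjectiveSpectrum.mem_basicOpen _ _ _).mpr fun hcon => hx ?_, rfl⟩
    rw [← appLE_z huhz U U' hle]
    exact hcon
  obtain ⟨y, hy⟩ := h
  rw [← hy]
  exact cMap_mem_domQ uh pC' chartC' k y

end cone

end Groth.Agent.RelProjLib.QMap

end
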