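import Groth.Agent.RelProjLib.RLocSec
import Groth.Agent.S12143

/-! The morphism attached to an invertible module, over standard opens of a general base. -/

set_option autoImplicit false
set_option linter.style.haveILetI false
set_option linter.unusedSectionVars false
set_option backward.isDefEq.respectTransparency false

universe u

open CategoryTheory CategoryTheory.Limits AlgebraicGeometry TopologicalSpace Opposite
open Groth.Agent.ParaFLib Groth.Agent.RelSpecLib

noncomputable section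

namespace Groth.Agent.RelProjLib

/-- All the data of `r_{L,ψ}` over an affine base. -/
structure LData {Y X : Scheme.{u}} (q : X ⟶ Y) where
  L : X.Modules
  hL : PicF.IsInvertible L
  hLq : Coh.IsQCoh L
  S : RelProj.QCGrAlg Y
  T : RelProj.QCGrAlg X
  j : L ⟶ T.toModule
  hj : RelProj.IsGrSymAlg L T j
  u : RelProj.QGrHom q S T
  P : Scheme.{u}
  p : P ⟶ Y
  chart : ∀ (U : Y.Opens) (hU : IsAffineOpen U), (((p ⁻¹ᵁ U : P.Opens) : Scheme.{u}) ≅ Proj (S.deg U hU))
  hP : RelProj.IsRelProj S p chart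
  PL : Scheme.{u}
  pL : PL ⟶ X
  chartL : ∀ (U : X.Opens) (hU : IsAffineOpen U), (((pL ⁻¹ᵁ U : PL.Opens) : Scheme.{u}) ≅ Proj (T.deg U hU))
  hPL : RelProj.IsRelProj T pL chartL
  r : ((RelProj.domQ u pL chartL : PL.Opens) : Scheme.{u}) ⟶ P
  hr : RelProj.IsProjQMapOn u p chart pL chartL (RelProj.domQ u pL chartL) r

namespace LData

variable {Y X : Scheme.{u}} {q : X ⟶ Y} (D : LData q)

variable {U : Y.Opens} (hU : IsAffineOpen U)

/-- The ring of sections of the algebra on `U`. -/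
abbrev A (U : Y.Opens) : Type u := D.S.presheaf.obj (op U)

/-- The image of a section. -/
abbrev sec (s : D.A U) : D.T.presheaf.obj (op (q ⁻¹ᵁ U)) := (D.u.app U).hom s

theorem homSec_sec {n : ℕ} {s : D.A U} (hs : s ∈ D.S.deg U hU n) : HomSec (D.sec s) n :=
  fun W hW h => D.u.map_mem U hU W hW h hs

/-- The standard open of `s`. -/
abbrev O (s : D.A U) : D.P.Opens :=
  (RelProj.emb D.p D.chart U hU) ''ᵁ Proj.basicOpen (D.S.deg U hU) s

/-- Where `ψ(s)` does not vanish. -/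
abbrev XT (s : D.A U) (n : ℕ) : X.Opens := nv (D.sec s) n

theorem base_comp (w : (RelProj.domQ D.u D.pL D.chartL : D.PL.Opens)) :
    D.p (D.r w) = q (D.pL ((RelProj.domQ D.u D.pL D.chartL).ι w)) :=
  congrArg (fun g => g w) (QMap.on_comp D.u D.p D.chart D.pL D.chartL D.hP D.hPL D.hr)

theorem isIso_pL : IsIso D.pL := Groth.Agent.S12143.result D.L D.hL D.hLq D.T D.j D.hj D.pL D.chartL D.hPL

theorem preimage_O {n : ℕ} (hn : 0 < n) {s : D.A U} (hs : s ∈ D.S.deg U hU n) :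
    (RelProj.domQ D.u D.pL D.chartL).ι ''ᵁ (D.r ⁻¹ᵁ D.O hU s) = D.pL ⁻¹ᵁ D.XT s n := by
  haveI := D.hLq
  have hzd := D.homSec_sec hU hs
  have hmem : ∀ {V : X.Opens} (hV : IsAffineOpen V) (hVU : V ≤ q ⁻¹ᵁ U) (e : Γ(D.L, V)), Gen V e → ∀ {z : D.PL},
      D.pL z ∈ V → (z ∈ Set.range (QMap.cMap D.u D.pL D.chartL ⟨U, hU, V, hV, hVU, n, hn, s, hs⟩).base ↔
        D.pL z ∈ D.XT s n) := fun {V} hV hVU e he {z} hz => by
    have h := fun y => mem_basicOpen_iff_nv (D.sec s) n D.hj hzd D.hPL hV hVU he y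
    rw [QMap.range_cMap]
    refine ⟨?_, fun hzT => ?_⟩
    · rintro ⟨y, hy, rfl⟩
      exact (h y).1 hy
    · obtain ⟨y, rfl⟩ : z ∈ (RelProj.emb D.pL D.chartL V hV).opensRange := by
        refine ⟨(D.chartL V hV).hom ⟨z, hz⟩, ?_⟩
        show ((D.chartL V hV).hom ≫ (D.chartL V hV).inv ≫ (D.pL ⁻¹ᵁ V).ι) ⟨z, hz⟩ = z
        rw [Iso.hom_inv_id_assoc]
        rfl
      exact ⟨y, (h y).2 hzT, rfl⟩
  have hU' : ∀ w, D.r w ∈ D.p ⁻¹ᵁ U → D.pL ((RelProj.domQ D.u D.pL D.chartL).ι w) ∈ q ⁻¹ᵁ U := fun w hw => by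
    show q (D.pL _) ∈ U
    rw [← D.base_comp w]
    exact hw
  refine TopologicalSpace.Opens.ext (Set.ext fun z => ?_)
  constructor
  · rintro ⟨w, ⟨v, hv, hvw⟩, rfl⟩
    have hwU : D.r w ∈ D.p ⁻¹ᵁ U := by
      show D.r w ∈ _
      rw [← hvw]
      exact ((D.chart U hU).inv v).2
    obtain ⟨V, hV, e, hxV, hVU, he⟩ := exists_triv _ D.hL (hU' w hwU)
    refine (hmem hV hVU e he hxV).1
      (QMap.mem_chart_of_map_mem D.hP D.hPL D.hr U hU V hV hVU n hn s hs w hxV ?_)
    obtain ⟨c, hc⟩ : v ∈ (Proj.awayι (D.S.deg U hU) s hs hn).opensRange := by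
      rw [Proj.opensRange_awayι]; exact hv
    exact ⟨c, (congrArg (RelProj.emb D.p D.chart U hU).base hc).trans hvw⟩
  · intro hz
    obtain ⟨V, hV, e, hxV, hVU, he⟩ := exists_triv _ D.hL (nv_le (D.sec s) n hz)
    obtain ⟨y, rfl⟩ := (hmem hV hVU e he hxV).2 hz
    let k : QMap.Idx (g := q) (𝒮 := D.S) := ⟨U, hU, V, hV, hVU, n, hn, s, hs⟩
    refine ⟨QMap.lMap D.u D.pL D.chartL k y, ?_,
      congrArg (fun g => g y) (QMap.lMap_ι D.u D.pL D.chartL k)⟩
    refine ⟨Proj.awayι (D.S.deg U hU) s hs hn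
      (Spec.map (CommRingCat.ofHom (HomogeneousLocalization.Away.map (D.u.gradedAt U hU V hV hVU) s)) y), ?_,
      (congrArg (fun g => g y) (QMap.lMap_comp D.hr k)).symm⟩
    show _ ∈ Proj.basicOpen (D.S.deg U hU) s
    rw [← Proj.opensRange_awayι (D.S.deg U hU) s hs hn]
    exact ⟨_, rfl⟩

theorem isAffineOpen_O {n : ℕ} (hn : 0 < n) {s : D.A U} (hs : s ∈ D.S.deg U hU n) : IsAffineOpen (D.O hU s) :=
  (Proj.isAffineOpen_basicOpen (D.S.deg U hU) s hs hn).image_of_isOpenImmersion (RelProj.emb D.p D.chart U hU)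

theorem isAffineOpen_XT {n : ℕ} (hn : 0 < n) {s : D.A U} (hs : s ∈ D.S.deg U hU n) [IsAffineHom (D.r ∣_ D.O hU s)] :
    IsAffineOpen (D.XT s n) := by
  haveI := D.isIso_pL
  haveI : IsAffine (D.O hU s : Scheme.{u}) := D.isAffineOpen_O hU hn hs
  have h1 : IsAffineOpen (D.r ⁻¹ᵁ D.O hU s) := isAffine_of_isAffineHom (D.r ∣_ D.O hU s)
  have h2 := (h1.image_of_isOpenImmersion (RelProj.domQ D.u D.pL D.chartL).ι).image_of_isOpenImmersion D.pL
  rwa [D.preimage_O hU hn hs, Scheme.Hom.image_preimage_eq_opensRange_inf, Scheme.Hom.opensRange_of_isIso,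
    top_inf_eq] at h2

variable {n : ℕ} (hn : 0 < n) {s : D.A U} (hs : s ∈ D.S.deg U hU n) (hW : IsAffineOpen (D.XT s n))

/-- The chart over `X_t`. -/
abbrev idx : QMap.Idx (g := q) (𝒮 := D.S) :=
  ⟨U, hU, D.XT s n, hW, (nv_le (D.sec s) n), n, hn, s, hs⟩

/-- `ψ` over `X_t`. -/
abbrev ψ : D.S.deg U hU →+*ᵍ D.T.deg (D.XT s n) hW :=
  D.u.gradedAt U hU (D.XT s n) hW ((nv_le (D.sec s) n))

/-- The ring map of `r` over `D_+(s)`. -/
abbrev φ : HomogeneousLocalization.Away (D.S.deg U hU) s →+*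
    HomogeneousLocalization.Away (D.T.deg (D.XT s n) hW) (D.ψ hU hW s) :=
  HomogeneousLocalization.Away.map (D.ψ hU hW) s

theorem range_cMap_idx :
    Set.range (QMap.cMap D.u D.pL D.chartL (D.idx hU hn hs hW)).base = ↑(D.pL ⁻¹ᵁ D.XT s n) := by
  refine Set.ext fun z => ⟨?_, fun hz => ?_⟩
  · rw [QMap.range_cMap]
    rintro ⟨y, -, rfl⟩
    exact ((D.chartL (D.XT s n) hW).inv y).2
  · obtain ⟨w, hw, rfl⟩ := (D.preimage_O hU hn hs).ge hz
    obtain ⟨v, hv, hvw⟩ := hw
    refine QMap.mem_chart_of_map_mem D.hP D.hPL D.hr U hU _ hW _ n hn s hs w hz ?_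
    obtain ⟨c, hc⟩ : v ∈ (Proj.awayι (D.S.deg U hU) s hs hn).opensRange := by
      rw [Proj.opensRange_awayι]; exact hv
    exact ⟨c, (congrArg (RelProj.emb D.p D.chart U hU).base hc).trans hvw⟩

theorem opensRange_target :
    (Proj.awayι (D.S.deg U hU) s hs hn ≫ RelProj.emb D.p D.chart U hU).opensRange = D.O hU s := by
  rw [Scheme.Hom.opensRange_comp, Proj.opensRange_awayι]

/-- `r` over `D_+(s)` is the map of the degree-zero localisations. -/
theorem isPullback :
    IsPullback (Spec.map (CommRingCat.ofHom (D.φ hU hW)))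
      (QMap.lMap D.u D.pL D.chartL (D.idx hU hn hs hW))
      (Proj.awayι (D.S.deg U hU) s hs hn ≫ RelProj.emb D.p D.chart U hU) D.r := by
  refine IsOpenImmersion.isPullback _ _ _ _ (QMap.lMap_comp D.hr (D.idx hU hn hs hW)) ?_
  rw [D.opensRange_target hU hn hs]
  refine TopologicalSpace.Opens.ext (Set.ext fun w => ?_)
  have hiff : w ∈ D.r ⁻¹ᵁ D.O hU s ↔ (RelProj.domQ D.u D.pL D.chartL).ι w ∈ D.pL ⁻¹ᵁ D.XT s n := by
    rw [← D.preimage_O hU hn hs]
    exact ((RelProj.domQ D.u D.pL D.chartL).ι.isOpenEmbedding.injective.mem_set_image).symm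
  refine hiff.trans ?_
  have hr2 := Set.ext_iff.1 (D.range_cMap_idx hU hn hs hW) ((RelProj.domQ D.u D.pL D.chartL).ι w)
  refine hr2.symm.trans ⟨?_, ?_⟩
  · rintro ⟨y, hy⟩
    refine ⟨y, (RelProj.domQ D.u D.pL D.chartL).ι.isOpenEmbedding.injective ?_⟩
    exact (congrArg (fun g => g y) (QMap.lMap_ι D.u D.pL D.chartL (D.idx hU hn hs hW))).trans hy
  · rintro ⟨y, rfl⟩
    exact ⟨y, (congrArg (fun g => g y) (QMap.lMap_ι D.u D.pL D.chartL (D.idx hU hn hs hW))).symm⟩

include hn hs in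
theorem restrict_iff (Q : MorphismProperty Scheme.{u}) [Q.RespectsIso] :
    Q (D.r ∣_ D.O hU s) ↔ Q (Spec.map (CommRingCat.ofHom (D.φ hU hW))) := by
  have h := D.isPullback hU hn hs hW
  rw [← D.opensRange_target hU hn hs, MorphismProperty.arrow_mk_iso_iff Q (morphismRestrictOpensRange D.r _),
    ← h.flip.isoPullback_inv_snd, MorphismProperty.cancel_left_of_respectsIso (P := Q)]

include hn hs in
/-- On `X_t` every degree-zero fraction is a function. -/
theorem bijective_strAway :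
    Function.Bijective ((HomogeneousLocalization.fromZeroRingHom (D.T.deg (D.XT s n) hW)
      (Submonoid.powers (D.ψ hU hW s))).comp (D.T.strZero (D.XT s n) hW).hom) := by
  haveI := D.isIso_pL
  let k := D.idx hU hn hs hW
  let φ' := D.T.strZero (D.XT s n) hW ≫ CommRingCat.ofHom
    (HomogeneousLocalization.fromZeroRingHom (D.T.deg (D.XT s n) hW) (Submonoid.powers (D.ψ hU hW s)))
  have hcomp : QMap.cMap D.u D.pL D.chartL k ≫ D.pL = Spec.map φ' ≫ hW.fromSpec := by
    show (Proj.awayι _ _ _ _ ≫ RelProj.emb D.pL D.chartL _ hW) ≫ D.pL = _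
    rw [Category.assoc]
    exact QMap.awayι_emb D.hPL (D.XT s n) hW hn _ _
  have hopen : IsOpenImmersion (Spec.map φ' ≫ hW.fromSpec) := by rw [← hcomp]; infer_instance
  haveI : IsOpenImmersion (Spec.map φ') := IsOpenImmersion.of_comp _ hW.fromSpec
  have hsurj : Function.Surjective (Spec.map φ').base := fun x => by
    obtain ⟨z, hz⟩ := D.pL.homeomorph.surjective (hW.fromSpec x)
    have hzW : z ∈ D.pL ⁻¹ᵁ D.XT s n := by
      show D.pL z ∈ D.XT s n
      rw [show D.pL z = hW.fromSpec x from hz]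
      exact hW.opensRange_fromSpec.le ⟨x, rfl⟩
    obtain ⟨y, rfl⟩ := (D.range_cMap_idx hU hn hs hW).ge hzW
    exact ⟨y, hW.fromSpec.isOpenEmbedding.injective ((congrArg (fun g => g y) hcomp).symm.trans hz)⟩
  haveI : Epi (Spec.map φ').base := (TopCat.epi_iff_surjective _).2 hsurj
  haveI : IsIso (Spec.map φ') := IsOpenImmersion.isIso _
  have : IsIso φ' := isIso_of_fully_faithful_op_Spec φ'
  exact (ConcreteCategory.isIso_iff_bijective φ').1 this
where
  isIso_of_fully_faithful_op_Spec {R R' : CommRingCat.{u}} (g : R ⟶ R') [IsIso (Spec.map g)] : IsIso g := by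
    haveI : IsIso (Scheme.Spec.map g.op) := inferInstanceAs (IsIso (Spec.map g))
    haveI := isIso_of_fully_faithful Scheme.Spec g.op
    exact isIso_of_op g

theorem val_strAway (t : Γ(X, D.XT s n)) :
    (((HomogeneousLocalization.fromZeroRingHom (D.T.deg (D.XT s n) hW) (Submonoid.powers (D.ψ hU hW s))).comp
      (D.T.strZero (D.XT s n) hW).hom) t).val = Localization.mk ((D.T.str.app (op (D.XT s n))).hom t) 1 := rfl

include hn hs in
/-- Surjectivity of `φ`, spelled out. -/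
theorem surjective_φ_iff :
    Function.Surjective (D.φ hU hW) ↔
      ∀ t : Γ(X, D.XT s n), ∃ (m : ℕ) (_ : 0 < m) (s' : D.A U) (_ : s' ∈ D.S.deg U hU (m * n)),
        (D.T.str.app (op (D.XT s n))).hom t * (D.ψ hU hW s) ^ m = D.ψ hU hW s' := by
  constructor
  · intro h t
    obtain ⟨z, hz⟩ := h (((HomogeneousLocalization.fromZeroRingHom (D.T.deg (D.XT s n) hW)
      (Submonoid.powers (D.ψ hU hW s))).comp (D.T.strZero (D.XT s n) hW).hom) t)
    obtain ⟨i, a, ha, rfl⟩ := HomogeneousLocalization.Away.mk_surjective _ hs z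
    have hv := congrArg HomogeneousLocalization.val hz
    rw [HomogeneousLocalization.Away.map_mk, HomogeneousLocalization.Away.val_mk, D.val_strAway,
      Localization.mk_eq_mk_iff, Localization.r_iff_exists] at hv
    obtain ⟨⟨_, k, rfl⟩, hk⟩ := hv
    refine ⟨k + i + 1, Nat.succ_pos _, s ^ (k + 1) * a, ?_, ?_⟩
    · have := SetLike.mul_mem_graded (SetLike.pow_mem_graded (k + 1) hs) ha
      simp only [smul_eq_mul] at this
      rwa [show (k + i + 1) * n = (k + 1) * n + i * n by ring]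
    · rw [map_mul, map_pow]
      simp only [OneMemClass.coe_one, one_mul] at hk
      linear_combination (-(D.ψ hU hW s)) * hk
  · intro h w
    obtain ⟨t, rfl⟩ := (D.bijective_strAway hU hn hs hW).2 w
    obtain ⟨m, -, s', hs', he⟩ := h t
    refine ⟨HomogeneousLocalization.Away.mk _ hs m s' (by simpa using hs'), HomogeneousLocalization.val_injective _ ?_⟩
    rw [HomogeneousLocalization.Away.map_mk, HomogeneousLocalization.Away.val_mk, D.val_strAway,
      Localization.mk_eq_mk_iff, Localization.r_iff_exists]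
    refine ⟨1, ?_⟩
    simp only [OneMemClass.coe_one, one_mul]
    linear_combination -he

include hn hs in
/-- Injectivity of `φ`, spelled out. -/
theorem injective_φ_iff :
    Function.Injective (D.φ hU hW) ↔
      ∀ m : ℕ, 0 < m → ∀ s' ∈ D.S.deg U hU (m * n), D.ψ hU hW s' = 0 → ∃ k : ℕ, 0 < k ∧ s ^ k * s' = 0 := by
  constructor
  · intro h m _ s' hs' h0
    have hz : D.φ hU hW (HomogeneousLocalization.Away.mk _ hs m s' (by simpa using hs')) = 0 := by
      refine HomogeneousLocalization.val_injective _ ?_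
      rw [HomogeneousLocalization.Away.map_mk, HomogeneousLocalization.Away.val_mk, HomogeneousLocalization.val_zero, h0,
        Localization.mk_zero]
    have hv := congrArg HomogeneousLocalization.val (h (hz.trans (map_zero (D.φ hU hW)).symm))
    rw [HomogeneousLocalization.Away.val_mk, HomogeneousLocalization.val_zero, ← Localization.mk_zero 1,
      Localization.mk_eq_mk_iff, Localization.r_iff_exists] at hv
    obtain ⟨⟨_, k, rfl⟩, hk⟩ := hv
    simp only [OneMemClass.coe_one, one_mul, mul_zero] at hk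
    exact ⟨k + 1, Nat.succ_pos _, by linear_combination s * hk⟩
  · intro h
    refine (injective_iff_map_eq_zero _).2 fun z hz => ?_
    obtain ⟨i, a, ha, rfl⟩ := HomogeneousLocalization.Away.mk_surjective _ hs z
    have hv := congrArg HomogeneousLocalization.val hz
    rw [HomogeneousLocalization.Away.map_mk, HomogeneousLocalization.Away.val_mk, HomogeneousLocalization.val_zero,
      ← Localization.mk_zero 1, Localization.mk_eq_mk_iff, Localization.r_iff_exists] at hv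
    obtain ⟨⟨_, k, rfl⟩, hk⟩ := hv
    simp only [OneMemClass.coe_one, one_mul, mul_zero] at hk
    have hmem : s ^ (k + 1) * a ∈ D.S.deg U hU ((k + 1 + i) * n) := by
      have := SetLike.mul_mem_graded (SetLike.pow_mem_graded (k + 1) hs) ha
      simp only [smul_eq_mul] at this
      rwa [show (k + 1 + i) * n = (k + 1) * n + i * n by ring]
    obtain ⟨l, -, hl⟩ := h (k + 1 + i) (by omega) _ hmem (by
      rw [map_mul, map_pow]
      linear_combination (D.ψ hU hW s) * hk)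
    refine HomogeneousLocalization.val_injective _ ?_
    rw [HomogeneousLocalization.Away.val_mk, HomogeneousLocalization.val_zero, ← Localization.mk_zero 1,
      Localization.mk_eq_mk_iff, Localization.r_iff_exists]
    refine ⟨⟨s ^ (l + (k + 1)), _, rfl⟩, ?_⟩
    simp only [OneMemClass.coe_one, one_mul, mul_zero]
    rw [pow_add, mul_assoc]
    exact hl

include hn hs in
theorem isClosedImmersion_restrict_iff :
    IsClosedImmersion (D.r ∣_ D.O hU s) ↔ Function.Surjective (D.φ hU hW) := by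
  refine (D.restrict_iff hU hn hs hW (@IsClosedImmersion)).trans ⟨fun h => ?_, fun h =>
    IsClosedImmersion.spec_of_surjective _ h⟩
  have h2 := (IsClosedImmersion.isAffine_surjective_of_isAffine (f := Spec.map (CommRingCat.ofHom (D.φ hU hW)))).2
  intro w
  obtain ⟨z, hz⟩ := h2 ((Scheme.ΓSpecIso _).inv w)
  refine ⟨(Scheme.ΓSpecIso _).hom z, ?_⟩
  have := ConcreteCategory.congr_hom (Scheme.ΓSpecIso_naturality (CommRingCat.ofHom (D.φ hU hW))) z
  refine this.symm.trans ?_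
  show (Scheme.ΓSpecIso _).hom ((Spec.map (CommRingCat.ofHom (D.φ hU hW))).appTop z) = w
  rw [hz]
  exact ConcreteCategory.congr_hom
    (Scheme.ΓSpecIso (CommRingCat.of (HomogeneousLocalization.Away (D.T.deg (D.XT s n) hW) (D.ψ hU hW s)))).inv_hom_id w

include hn hs in
theorem isIso_restrict_iff : IsIso (D.r ∣_ D.O hU s) ↔ Function.Bijective (D.φ hU hW) := by
  refine (D.restrict_iff hU hn hs hW (MorphismProperty.isomorphisms Scheme.{u})).trans ⟨fun h => ?_, fun h => ?_⟩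
  · haveI : IsIso (Spec.map (CommRingCat.ofHom (D.φ hU hW))) := h
    exact (ConcreteCategory.isIso_iff_bijective (CommRingCat.ofHom (D.φ hU hW))).1
      (bijective_strAway.isIso_of_fully_faithful_op_Spec _)
  · haveI : IsIso (CommRingCat.ofHom (D.φ hU hW)) := (ConcreteCategory.isIso_iff_bijective _).2 h
    exact inferInstanceAs (IsIso (Spec.map (CommRingCat.ofHom (D.φ hU hW))))

end LData

namespace LData

variable {Y X : Scheme.{u}} {q : X ⟶ Y} (D : LData q)

theorem exists_O {v : D.P} {W : D.P.Opens} (hv : v ∈ W) {U : Y.Opens} (hU : IsAffineOpen U) (hvU : D.p v ∈ U) :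
    ∃ (n : ℕ) (s : D.A U), 0 < n ∧ s ∈ D.S.deg U hU n ∧ v ∈ D.O hU s ∧ D.O hU s ≤ W := by
  let e := RelProj.emb D.p D.chart U hU
  obtain ⟨y, rfl⟩ : v ∈ e.opensRange := by
    refine ⟨(D.chart U hU).hom ⟨v, hvU⟩, ?_⟩
    show ((D.chart U hU).hom ≫ (D.chart U hU).inv ≫ (D.p ⁻¹ᵁ U).ι) ⟨v, hvU⟩ = v
    rw [Iso.hom_inv_id_assoc]
    rfl
  obtain ⟨n, s, hn, hs, hys, hsU⟩ := GrModLib.exists_basicOpen_le (𝒜 := D.S.deg U hU) (V := e ⁻¹ᵁ W) hv
  exact ⟨n, s, hn, hs, ⟨y, hys, rfl⟩, fun x ⟨z, hz, hzx⟩ => hzx ▸ hsU hz⟩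

/-- An index for a standard open. -/
structure Piece where
  U : Y.Opens
  hU : IsAffineOpen U
  n : ℕ
  hn : 0 < n
  s : D.A U
  hs : s ∈ D.S.deg U hU n

/-- The part of the source of a standard open. -/
abbrev Piece.T {D : LData q} (a : D.Piece) : X.Opens := D.XT a.s a.n

/-- The standard open. -/
abbrev Piece.O {D : LData q} (a : D.Piece) : D.P.Opens := D.O a.hU a.s

theorem cover_of_top (htop : RelProj.domQ D.u D.pL D.chartL = ⊤) (x : X) {W : D.P.Opens}
    (hW : D.r ⁻¹ᵁ W = ⊤) {U : Y.Opens} (hU : IsAffineOpen U) (hx : q x ∈ U) :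
    ∃ (n : ℕ) (s : D.A U), 0 < n ∧ s ∈ D.S.deg U hU n ∧ D.O hU s ≤ W ∧ x ∈ D.XT s n := by
  haveI := D.isIso_pL
  obtain ⟨z, rfl⟩ := D.pL.homeomorph.surjective x
  let w : (RelProj.domQ D.u D.pL D.chartL : D.PL.Opens) := ⟨z, by rw [htop]; trivial⟩
  obtain ⟨n, s, hn, hs, hws, hsU⟩ := D.exists_O (show D.r w ∈ W from hW.ge
    (show w ∈ (⊤ : Scheme.Opens (RelProj.domQ D.u D.pL D.chartL : Scheme.{u})) from trivial)) hU
    (show D.p (D.r w) ∈ U by rw [D.base_comp]; exact hx)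
  exact ⟨n, s, hn, hs, hsU, (D.preimage_O hU hn hs).le ⟨w, hws, rfl⟩⟩

variable {κ : Type u} (π : κ → D.Piece) (hcov : ∀ x : X, ∃ a, x ∈ (π a).T)

include hcov in
theorem domQ_eq_top_of_cover : RelProj.domQ D.u D.pL D.chartL = ⊤ := by
  refine eq_top_iff.2 fun z _ => ?_
  obtain ⟨a, ha⟩ := hcov (D.pL z)
  obtain ⟨w, -, rfl⟩ := (D.preimage_O (π a).hU (π a).hn (π a).hs).ge ha
  exact w.2

include hcov in
theorem preimage_iSup_O : D.r ⁻¹ᵁ (⨆ a, (π a).O) = ⊤ := by
  refine eq_top_iff.2 fun w _ => ?_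
  obtain ⟨a, ha⟩ := hcov (D.pL ((RelProj.domQ D.u D.pL D.chartL).ι w))
  obtain ⟨w', hw', e⟩ := (D.preimage_O (π a).hU (π a).hn (π a).hs).ge ha
  rw [(RelProj.domQ D.u D.pL D.chartL).ι.isOpenEmbedding.injective e] at hw'
  exact (Opens.mem_iSup.2 ⟨a, hw'⟩ : D.r w ∈ ⨆ a, (π a).O)

include hcov in
theorem isImmersion_of_cover (h : ∀ a, IsClosedImmersion (D.r ∣_ (π a).O)) : IsImmersion D.r := by
  have h1 : IsClosedImmersion (D.r ∣_ ⨆ a, (π a).O) := restrict_iSup D.r @IsClosedImmersion _ h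
  haveI := h1
  haveI := isIso_ι_of_eq_top (D.preimage_iSup_O π hcov)
  have e : D.r = inv (D.r ⁻¹ᵁ ⨆ a, (π a).O).ι ≫ (D.r ∣_ ⨆ a, (π a).O) ≫ (⨆ a, (π a).O).ι := by
    rw [morphismRestrict_ι, IsIso.inv_hom_id_assoc]
  rw [e]
  infer_instance

include hcov in
theorem isOpenImmersion_of_cover (h : ∀ a, IsIso (D.r ∣_ (π a).O)) : IsOpenImmersion D.r := by
  have h1 : IsIso (D.r ∣_ ⨆ a, (π a).O) := restrict_iSup D.r (MorphismProperty.isomorphisms Scheme.{u}) _ h
  haveI := h1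
  haveI := isIso_ι_of_eq_top (D.preimage_iSup_O π hcov)
  have e : D.r = inv (D.r ⁻¹ᵁ ⨆ a, (π a).O).ι ≫ (D.r ∣_ ⨆ a, (π a).O) ≫ (⨆ a, (π a).O).ι := by
    rw [morphismRestrict_ι, IsIso.inv_hom_id_assoc]
  rw [e]
  infer_instance

end LData

end Groth.Agent.RelProjLib
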