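import Groth.Agent.RelProjLib.RLpsiGlobal
import Groth.Agent.AmpleLib.RelLocal
import Groth.Agent.AmpleLib.Rel

/-! Sections of powers of an invertible module over an open, and their non-vanishing loci. -/

set_option autoImplicit false
set_option linter.style.haveILetI false
set_option backward.isDefEq.respectTransparency false

universe u

open CategoryTheory CategoryTheory.Limits AlgebraicGeometry TopologicalSpace Opposite
open Groth.Agent.ParaFLib Groth.Agent.RelSpecLib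

noncomputable section

namespace Groth.Agent.RelProjLib

variable {X : Scheme.{u}} {𝒮L : RelProj.QCGrAlg X} {PL : Scheme.{u}} {pL : PL ⟶ X}
  {chartL : ∀ (U : X.Opens) (hU : IsAffineOpen U), (((pL ⁻¹ᵁ U : PL.Opens) : Scheme.{u}) ≅ Proj (𝒮L.deg U hU))}
  {O : X.Opens} (z : 𝒮L.presheaf.obj (op O)) (d : ℕ)

/-- The restriction of a section. -/
abbrev rz (W : X.Opens) (h : W ≤ O) : 𝒮L.presheaf.obj (op W) := (𝒮L.presheaf.map (homOfLE h).op).hom z

theorem rz_res {W W' : X.Opens} (h : W ≤ O) (h' : W' ≤ W) :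
    (𝒮L.presheaf.map (homOfLE h').op).hom (rz z W h) = rz z W' (h'.trans h) := by
  show ((𝒮L.presheaf.map (homOfLE h).op) ≫ (𝒮L.presheaf.map (homOfLE h').op)).hom z = _
  rw [← Functor.map_comp]
  rfl

theorem rz_rz {W W' : X.Opens} (h : W ≤ O) (h' : W' ≤ W) : rz (rz z W h) W' h' = rz z W' (h'.trans h) := rz_res z h h'

/-- A section which is of degree `d` on every affine open. -/
def HomSec : Prop := ∀ (W : X.Opens) (hW : IsAffineOpen W) (h : W ≤ O), rz z W h ∈ 𝒮L.deg W hW d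

/-- The part of `O` where the section does not vanish. -/
def nv : X.Opens :=
  ⨆ W : {W : X.affineOpens // ∃ h : (W : X.Opens) ≤ O,
    ((𝒮L.deg W.1 W.2 d : AddSubgroup (𝒮L.presheaf.obj (op (W.1 : X.Opens)))) :
        Set (𝒮L.presheaf.obj (op (W.1 : X.Opens)))) ⊆
      (Ideal.span {rz z W.1 h} : Set (𝒮L.presheaf.obj (op (W.1 : X.Opens))))},
    (W.1.1 : X.Opens)

theorem nv_le : nv z d ≤ O := iSup_le fun W => W.2.1

variable {L : X.Modules} [Coh.IsQCoh L] {j : L ⟶ 𝒮L.toModule} (hj : RelProj.IsGrSymAlg L 𝒮L j) (hzd : HomSec z d)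

include hj in
/-- Over a trivialising open, the section does not vanish where its coefficient is a unit. -/
theorem mem_nv_iff {V : X.Opens} (hV : IsAffineOpen V) (hVO : V ≤ O) {e : Γ(L, V)} (he : Gen V e) {r : Γ(X, V)}
    (hr : (𝒮L.str.app (op V)).hom r * (gen₁ hV hj e).1 ^ d = rz z V hVO) {x : X} (hx : x ∈ V) :
    x ∈ nv z d ↔ x ∈ X.basicOpen r := by
  constructor
  · intro h
    obtain ⟨⟨⟨W, hW⟩, hWO, hWs⟩, hxW⟩ := Opens.mem_iSup.1 h
    obtain ⟨f, hfV, hxf⟩ := hW.exists_basicOpen_le (V := V) ⟨x, hx⟩ hxW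
    have hfW : X.basicOpen f ≤ W := X.basicOpen_le f
    obtain ⟨n, l, hl⟩ := (QCohLib.locAt L hW).extend f (L.presheaf.map (homOfLE hfV).op e)
    rw [CohBase.sc_apply] at hl
    have hmem : (gen₁ hW hj l).1 ^ d ∈ 𝒮L.deg W hW d := by
      simpa using SetLike.pow_mem_graded d (gen₁ hW hj l).2
    obtain ⟨c, hc⟩ := Ideal.mem_span_singleton'.1 (hWs hmem)
    have hD := hW.basicOpen f
    let ρ := (𝒮L.presheaf.map (homOfLE hfW).op).hom
    let e' := L.presheaf.map (homOfLE hfV).op e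
    have h1 : ρ (gen₁ hW hj l).1 = (𝒮L.str.app (op (X.basicOpen f))).hom
        (X.presheaf.map (homOfLE hfW).op (f ^ n)) * (gen₁ hD hj e').1 := by
      refine ((res_gen₁ hj hW hD hfW l).trans (congrArg (fun z => (gen₁ hD hj z).1) hl)).trans ?_
      exact jsec_smul 𝒮L.toQCAlg j _ _
    have h2 : ρ (rz z W hWO) = (𝒮L.str.app (op (X.basicOpen f))).hom (X.presheaf.map (homOfLE hfV).op r) *
        (gen₁ hD hj e').1 ^ d := by
      refine (rz_res z hWO hfW).trans ((rz_res z hVO hfV).symm.trans ?_)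
      rw [← hr, map_mul, map_pow]
      exact congrArg₂ (fun a b => a * b ^ d) (res_str 𝒮L.toQCAlg hfV r) (res_gen₁ hj hV hD hfV e)
    have hρ := congrArg ρ hc
    rw [map_mul, map_pow, h1, h2] at hρ
    classical
    let c₀ := DirectSum.decompose (𝒮L.deg (X.basicOpen f) hD) (ρ c) 0
    obtain ⟨a, ha, -⟩ := existsUnique_coeff hD hj (he.res hfV) (SetLike.coe_mem c₀)
    have hdeg : (𝒮L.str.app (op (X.basicOpen f))).hom (X.presheaf.map (homOfLE hfV).op r) *
        (gen₁ hD hj e').1 ^ d ∈ 𝒮L.deg (X.basicOpen f) hD d := str_mul_pow_mem hD hj e' _ d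
    have hunit : IsUnit (X.presheaf.map (homOfLE hfW).op (f ^ n)) := by
      rw [map_pow]
      exact (RingedSpace.isUnit_res_basicOpen _ f).pow n
    have key : X.presheaf.map (homOfLE hfV).op r * a =
        X.presheaf.map (homOfLE hfW).op (f ^ n) ^ d := by
      refine str_mul_pow_injective hD hj (he.res hfV) d ?_
      have hproj := congrArg
        (fun z => (DirectSum.decompose (𝒮L.deg (X.basicOpen f) hD) z d : 𝒮L.presheaf.obj (op (X.basicOpen f)))) hρ
      dsimp only at hproj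
      rw [DirectSum.coe_decompose_mul_of_right_mem_of_le _ hdeg le_rfl, Nat.sub_self, mul_pow, ← map_pow,
        DirectSum.decompose_of_mem_same _ (str_mul_pow_mem hD hj e' _ d)] at hproj
      show (𝒮L.str.app (op (X.basicOpen f))).hom (X.presheaf.map (homOfLE hfV).op r * a) * (gen₁ hD hj e').1 ^ d =
        (𝒮L.str.app (op (X.basicOpen f))).hom (X.presheaf.map (homOfLE hfW).op (f ^ n) ^ d) * (gen₁ hD hj e').1 ^ d
      refine Eq.trans ?_ hproj
      rw [← show (𝒮L.str.app (op (X.basicOpen f))).hom a = (c₀ : 𝒮L.presheaf.obj (op (X.basicOpen f))) by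
        simpa using ha, map_mul]
      ring
    have hu : IsUnit (X.presheaf.map (homOfLE hfV).op r) := by
      refine isUnit_of_mul_isUnit_left (y := a) ?_
      rw [key]
      exact hunit.pow d
    have hx' : x ∈ X.basicOpen (X.presheaf.map (homOfLE hfV).op r) := by
      rw [X.basicOpen_of_isUnit hu]
      exact hxf
    rw [X.basicOpen_res] at hx'
    exact hx'.2
  · intro h
    have hW := hV.basicOpen r
    have hle : X.basicOpen r ≤ V := X.basicOpen_le r
    refine Opens.mem_iSup.2 ⟨⟨⟨X.basicOpen r, hW⟩, hle.trans hVO, fun a ha => ?_⟩, h⟩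
    obtain ⟨c, hc, -⟩ := existsUnique_coeff hW hj (he.res hle) ha
    obtain ⟨v, hv⟩ : ∃ v : Γ(X, X.basicOpen r), v * X.presheaf.map (homOfLE hle).op r = 1 :=
      (RingedSpace.isUnit_res_basicOpen X.toRingedSpace r).exists_left_inv
    refine Ideal.mem_span_singleton'.2 ⟨(𝒮L.str.app (op (X.basicOpen r))).hom (c * v), ?_⟩
    have htW : rz z (X.basicOpen r) (hle.trans hVO) = (𝒮L.str.app (op (X.basicOpen r))).hom (X.presheaf.map (homOfLE hle).op r) *
        (gen₁ hW hj (L.presheaf.map (homOfLE hle).op e)).1 ^ d := by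
      refine (rz_res z hVO hle).symm.trans ?_
      rw [← hr, map_mul, map_pow]
      exact congrArg₂ (fun a b => a * b ^ d) (res_str 𝒮L.toQCAlg hle r) (res_gen₁ hj hV hW hle e)
    rw [htW, ← hc, ← mul_assoc, ← map_mul, mul_assoc,
      hv, mul_one]

include hj hzd in
/-- Membership in `D_+(t)`, globally. -/
theorem mem_basicOpen_iff_nv (hPL : RelProj.IsRelProj 𝒮L pL chartL) {V : X.Opens} (hV : IsAffineOpen V) (hVO : V ≤ O)
    {e : Γ(L, V)} (he : Gen V e) (y : Proj (𝒮L.deg V hV)) :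
    y ∈ Proj.basicOpen (𝒮L.deg V hV) (rz z V hVO) ↔ (RelProj.emb pL chartL V hV ≫ pL) y ∈ nv z d := by
  obtain ⟨r, hr, -⟩ := existsUnique_coeff hV hj he (hzd V hV hVO)
  refine (mem_basicOpen_iff hj hPL hV he hr y).trans (mem_nv_iff z d hj hV hVO he hr ?_).symm
  exact ((chartL V hV).inv y).2

omit [Coh.IsQCoh L] in
include hj in
theorem coeff_res {V W : X.Opens} (hV : IsAffineOpen V) (hW : IsAffineOpen W) (h : W ≤ V) (e : Γ(L, V)) (r : Γ(X, V))
    (n : ℕ) : (𝒮L.presheaf.map (homOfLE h).op).hom ((𝒮L.str.app (op V)).hom r * (gen₁ hV hj e).1 ^ n) =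
      (𝒮L.str.app (op W)).hom (X.presheaf.map (homOfLE h).op r) *
        (gen₁ hW hj (L.presheaf.map (homOfLE h).op e)).1 ^ n := by
  rw [map_mul, map_pow]
  exact congrArg₂ (fun a b => a * b ^ n) (res_str 𝒮L.toQCAlg h r) (res_gen₁ hj hV hW h e)

/-- Being of degree `m` is local. -/
theorem mem_deg_of_local {W : X.Opens} (hW : IsAffineOpen W) {m : ℕ} (a : 𝒮L.presheaf.obj (op W))
    (h : ∀ x ∈ W, ∃ (W' : X.Opens) (hW' : IsAffineOpen W') (hle : W' ≤ W), x ∈ W' ∧
      (𝒮L.presheaf.map (homOfLE hle).op).hom a ∈ 𝒮L.deg W' hW' m) : a ∈ 𝒮L.deg W hW m := by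
  classical
  have hd : ∀ (W' : X.Opens) (hW' : IsAffineOpen W') (hle : W' ≤ W) (a : 𝒮L.presheaf.obj (op W)) (k : ℕ),
      (𝒮L.presheaf.map (homOfLE hle).op).hom (DirectSum.decompose (𝒮L.deg W hW) a k : 𝒮L.presheaf.obj (op W)) =
        (DirectSum.decompose (𝒮L.deg W' hW') ((𝒮L.presheaf.map (homOfLE hle).op).hom a) k :
          𝒮L.presheaf.obj (op W')) := by
    intro W' hW' hle a k
    refine DirectSum.Decomposition.inductionOn (𝒮L.deg W hW) ?_ ?_ ?_ a
    · simp
    · rintro i ⟨b, hb⟩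
      rcases eq_or_ne i k with rfl | hik
      · rw [DirectSum.decompose_of_mem_same _ hb, DirectSum.decompose_of_mem_same _ (𝒮L.map_mem hW hW' hle hb)]
      · rw [DirectSum.decompose_of_mem_ne _ hb hik, DirectSum.decompose_of_mem_ne _ (𝒮L.map_mem hW hW' hle hb) hik,
          map_zero]
    · intro b b' e1 e2
      simp [e1, e2]
  have key : ∀ k, k ≠ m → (DirectSum.decompose (𝒮L.deg W hW) a k : 𝒮L.presheaf.obj (op W)) = 0 := fun k hk => by
    choose W' hW' hle hx hmem using h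
    refine TopCat.Sheaf.eq_of_locally_eq' ⟨𝒮L.presheaf, 𝒮L.isSheaf⟩ (fun x : W => W' x.1 x.2) W
      (fun x => homOfLE (hle x.1 x.2)) (fun x hxW => Opens.mem_iSup.2 ⟨⟨x, hxW⟩, hx x hxW⟩) _ _ fun x => ?_
    refine Eq.trans ?_ (map_zero _).symm
    exact (hd _ (hW' x.1 x.2) (hle x.1 x.2) a k).trans
      (DirectSum.decompose_of_mem_ne _ (hmem x.1 x.2) hk.symm)
  rw [← DirectSum.sum_support_decompose (𝒮L.deg W hW) a]
  refine sum_mem fun k _ => ?_
  rcases eq_or_ne k m with rfl | hk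
  · exact SetLike.coe_mem _
  · rw [key k hk]
    exact zero_mem _

theorem nv_rz_le {O' : X.Opens} (h : O' ≤ O) : nv (rz z O' h) d ≤ nv z d ⊓ O' := by
  refine le_inf (iSup_le fun W => ?_) (nv_le _ d)
  obtain ⟨W, hWO, hW⟩ := W
  refine le_iSup_of_le ⟨W, hWO.trans h, ?_⟩ le_rfl
  rwa [rz_rz z h hWO] at hW

theorem homSec_rz {O' : X.Opens} (hz : HomSec z d) (h : O' ≤ O) : HomSec (rz z O' h) d := fun W hW hle => by
  show (𝒮L.presheaf.map (homOfLE hle).op).hom (rz z O' h) ∈ _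
  rw [rz_res z h hle]
  exact hz W hW (hle.trans h)

omit [Coh.IsQCoh L] in
include hj in
/-- Finitely many trivialising affine opens cover a compact open. -/
theorem exists_cover (hL : PicF.IsInvertible L) (hO : IsCompact (O : Set X)) :
    ∃ (t : Finset X) (W : X → X.Opens) (e : ∀ x, Γ(L, W x)),
      (∀ x ∈ t, IsAffineOpen (W x) ∧ W x ≤ O ∧ Gen (W x) (e x)) ∧ (O : Set X) ⊆ ⋃ x ∈ t, (W x : Set X) :=
  AmpleLib.exists_affine_gen_cover hL hO

include hj hzd in
theorem isCompact_nv (hL : PicF.IsInvertible L) (hO : IsCompact (O : Set X)) : IsCompact (nv z d : Set X) := by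
  classical
  obtain ⟨t, W, e, hWe, hcov⟩ := exists_cover hj hL hO
  have h1 : ∀ x ∈ t, ∃ r : Γ(X, W x), ∀ y ∈ W x, y ∈ nv z d ↔ y ∈ X.basicOpen r := fun x hx => by
    obtain ⟨hW, hle, he⟩ := hWe x hx
    obtain ⟨r, hr, -⟩ := existsUnique_coeff hW hj he (hzd _ hW hle)
    exact ⟨r, fun y hy => mem_nv_iff z d hj hW hle he hr hy⟩
  choose r hr using h1
  have : (nv z d : Set X) = ⋃ x : t, (X.basicOpen (r x.1 x.2) : Set X) := by
    ext y
    refine ⟨fun hy => ?_, fun hy => ?_⟩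
    · obtain ⟨x, hx, hyW⟩ := Set.mem_iUnion₂.1 (hcov (nv_le z d hy))
      exact Set.mem_iUnion.2 ⟨⟨x, hx⟩, (hr x hx y hyW).1 hy⟩
    · obtain ⟨x, hy⟩ := Set.mem_iUnion.1 hy
      exact (hr x.1 x.2 y (X.basicOpen_le _ hy)).2 hy
  rw [this]
  exact isCompact_iUnion fun x => ((hWe x.1 x.2).1.basicOpen _).isCompact

include hj hzd in
/-- A homogeneous section vanishing where `z` does not is killed by a power of `z`. -/
theorem exists_pow_mul_eq_zero (hL : PicF.IsInvertible L) (hO : IsCompact (O : Set X))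
    (a : 𝒮L.presheaf.obj (op O)) {m : ℕ} (ha : HomSec a m) (h0 : rz a (nv z d) (nv_le z d) = 0) :
    ∃ k : ℕ, z ^ k * a = 0 := by
  classical
  obtain ⟨t, W, e, hWe, hcov⟩ := exists_cover hj hL hO
  have loc : ∀ x ∈ t, ∃ k, ∀ h : W x ≤ O, rz z (W x) h ^ k * rz a (W x) h = 0 := fun x hx => by
    obtain ⟨hW, hle, he⟩ := hWe x hx
    obtain ⟨r, hr, -⟩ := existsUnique_coeff hW hj he (hzd _ hW hle)
    obtain ⟨c, hc, -⟩ := existsUnique_coeff hW hj he (ha _ hW hle)
    have hD := hW.basicOpen r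
    have hDW : X.basicOpen r ≤ W x := X.basicOpen_le r
    have hDn : X.basicOpen r ≤ nv z d := fun y hy => (mem_nv_iff z d hj hW hle he hr (hDW hy)).2 hy
    have hc0 : X.presheaf.map (homOfLE hDW).op c = 0 := by
      refine str_mul_pow_injective hD hj (he.res hDW) m ?_
      dsimp only
      rw [map_zero, zero_mul, ← coeff_res hj hW hD hDW (e x) c m, hc, rz_res a hle hDW,
        ← rz_res a (nv_le z d) hDn, h0, map_zero]
    letI := hW.isLocalization_basicOpen r
    obtain ⟨⟨_, k, rfl⟩, hk⟩ := (IsLocalization.map_eq_zero_iff (Submonoid.powers r) Γ(X, X.basicOpen r) c).1 hc0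
    refine ⟨k, fun _ => ?_⟩
    rw [← hr, ← hc, mul_pow, ← map_pow, ← pow_mul]
    have : (𝒮L.str.app (op (W x))).hom (r ^ k) * (𝒮L.str.app (op (W x))).hom c = 0 := by
      rw [← map_mul]; simp only at hk; rw [hk, map_zero]
    linear_combination ((gen₁ hW hj (e x)).1 ^ (d * k) * (gen₁ hW hj (e x)).1 ^ m) * this
  choose k hk using loc
  refine ⟨t.attach.sup fun x => k x.1 x.2, ?_⟩
  refine TopCat.Sheaf.eq_of_locally_eq' ⟨𝒮L.presheaf, 𝒮L.isSheaf⟩ (fun x : {x // x ∈ t} => W x.1) O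
    (fun x => homOfLE (hWe x.1 x.2).2.1) (fun y hy => by
      obtain ⟨x, hx, hyx⟩ := Set.mem_iUnion₂.1 (hcov hy)
      exact Opens.mem_iSup.2 ⟨⟨x, hx⟩, hyx⟩) _ _ fun x => ?_
  obtain ⟨i, hi⟩ := Nat.exists_eq_add_of_le
    (Finset.le_sup (f := fun x : {x // x ∈ t} => k x.1 x.2) (Finset.mem_attach t x))
  refine Eq.trans ?_ (map_zero _).symm
  show (𝒮L.presheaf.map (homOfLE (hWe x.1 x.2).2.1).op).hom (z ^ _ * a) = 0
  rw [map_mul, map_pow, hi, pow_add]
  linear_combination (rz z (W x.1) (hWe x.1 x.2).2.1 ^ i) * hk x.1 x.2 (hWe x.1 x.2).2.1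

include hj hzd in
/-- A function where `z` does not vanish, times a power of `z`, extends. -/
theorem exists_extend (hL : PicF.IsInvertible L) (hO : IsCompact (O : Set X))
    (hqs : ∀ A B : X.Opens, IsAffineOpen A → IsAffineOpen B → A ≤ O → B ≤ O → IsCompact ((A ⊓ B : X.Opens) : Set X))
    (g : Γ(X, nv z d)) :
    ∃ (m : ℕ) (_ : 0 < m) (a : 𝒮L.presheaf.obj (op O)), HomSec a (m * d) ∧
      (𝒮L.str.app (op (nv z d))).hom g * rz z (nv z d) (nv_le z d) ^ m = rz a (nv z d) (nv_le z d) := by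
  classical
  obtain ⟨t, W, e, hWe, hcov⟩ := exists_cover hj hL hO
  have loc : ∀ x ∈ t, ∃ n, ∀ (i : ℕ) (hle : W x ≤ O), n ≤ i → ∃ a : 𝒮L.presheaf.obj (op (W x)),
      HomSec a (i * d) ∧ ∀ (D : X.Opens) (h1 : D ≤ nv z d) (h2 : D ≤ W x),
        rz a D h2 = (𝒮L.str.app (op D)).hom (X.presheaf.map (homOfLE h1).op g) *
          rz z D (h1.trans (nv_le z d)) ^ i := fun x hx => by
    obtain ⟨hW, hle, he⟩ := hWe x hx
    obtain ⟨r, hr, -⟩ := existsUnique_coeff hW hj he (hzd _ hW hle)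
    have hDW : X.basicOpen r ≤ W x := X.basicOpen_le r
    have hDn : X.basicOpen r ≤ nv z d := fun y hy => (mem_nv_iff z d hj hW hle he hr (hDW hy)).2 hy
    letI := hW.isLocalization_basicOpen r
    obtain ⟨⟨c, ⟨_, n, rfl⟩⟩, hc⟩ := IsLocalization.surj (Submonoid.powers r) (X.presheaf.map (homOfLE hDn).op g)
    refine ⟨n, fun i _ hi => ?_⟩
    obtain ⟨l, rfl⟩ := Nat.exists_eq_add_of_le hi
    refine ⟨(𝒮L.str.app (op (W x))).hom (r ^ l * c) * (gen₁ hW hj (e x)).1 ^ ((n + l) * d), fun A hA hAW => ?_,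
      fun D h1 h2 => ?_⟩
    · show (𝒮L.presheaf.map (homOfLE hAW).op).hom _ ∈ _
      rw [coeff_res hj hW hA hAW]
      exact str_mul_pow_mem hA hj _ _ _
    · have hDr : D ≤ X.basicOpen r := fun y hy => (mem_nv_iff z d hj hW hle he hr (h2 hy)).1 (h1 hy)
      show (𝒮L.presheaf.map (homOfLE h2).op).hom _ = _
      rw [← rz_res z hle h2, ← hr]
      simp only at hc
      have e1 : X.presheaf.map (homOfLE h1).op g * X.presheaf.map (homOfLE h2).op r ^ n =
          X.presheaf.map (homOfLE h2).op c := by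
        have := congrArg (X.presheaf.map (homOfLE hDr).op).hom hc
        simp only [map_mul] at this
        rw [← map_pow]
        refine Eq.trans ?_ (this.trans ?_)
        · exact congrArg₂ (· * ·) (AmpleLib.rres hDn hDr g).symm (AmpleLib.rres hDW hDr _).symm
        · exact AmpleLib.rres hDW hDr c
      have e2 := congrArg (𝒮L.str.app (op D)).hom e1
      rw [map_mul, map_pow] at e2
      have er : (𝒮L.presheaf.map (homOfLE h2).op).hom ((𝒮L.str.app (op (W x))).hom r) =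
          (𝒮L.str.app (op D)).hom (X.presheaf.map (homOfLE h2).op r) := res_str 𝒮L.toQCAlg h2 r
      have ec : (𝒮L.presheaf.map (homOfLE h2).op).hom ((𝒮L.str.app (op (W x))).hom c) =
          (𝒮L.str.app (op D)).hom (X.presheaf.map (homOfLE h2).op c) := res_str 𝒮L.toQCAlg h2 c
      simp only [map_mul, map_pow, er, ec, ← e2]
      ring
  choose n hn using loc
  let N := t.attach.sup fun x => n x.1 x.2
  have hN : ∀ x : {x // x ∈ t}, n x.1 x.2 ≤ N := fun x =>
    Finset.le_sup (f := fun x : {x // x ∈ t} => n x.1 x.2) (Finset.mem_attach t x)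
  choose a ha hag using fun x : {x // x ∈ t} => hn x.1 x.2 (N + 1) (hWe x.1 x.2).2.1 ((hN x).trans (Nat.le_succ _))
  have hpair : ∀ x y : {x // x ∈ t}, ∃ k, ∀ i, k ≤ i →
      rz z (W x.1 ⊓ W y.1) (inf_le_left.trans (hWe x.1 x.2).2.1) ^ i * rz (a x) _ inf_le_left =
        rz z (W x.1 ⊓ W y.1) (inf_le_left.trans (hWe x.1 x.2).2.1) ^ i * rz (a y) _ inf_le_right := fun x y => by
    obtain ⟨hWx, hlex, -⟩ := hWe x.1 x.2
    obtain ⟨hWy, hley, -⟩ := hWe y.1 y.2
    have hle : W x.1 ⊓ W y.1 ≤ O := inf_le_left.trans hlex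
    obtain ⟨k, hk⟩ := exists_pow_mul_eq_zero (rz z _ hle) d hj (homSec_rz z d hzd hle) hL (hqs _ _ hWx hWy hlex hley)
      (rz (a x) _ inf_le_left - rz (a y) _ inf_le_right) (m := (N + 1) * d) (fun A hA hAW => by
        show (𝒮L.presheaf.map (homOfLE hAW).op).hom (_ - _) ∈ _
        rw [map_sub, rz_res, rz_res]
        exact sub_mem (ha x A hA _) (ha y A hA _)) (by
        show (𝒮L.presheaf.map (homOfLE (nv_le _ d)).op).hom (_ - _) = 0
        have h1 := (nv_rz_le z d hle).trans inf_le_left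
        rw [map_sub, rz_res, rz_res, sub_eq_zero, hag x _ h1, hag y _ h1])
    refine ⟨k, fun i hi => ?_⟩
    obtain ⟨l, rfl⟩ := Nat.exists_eq_add_of_le hi
    rw [pow_add]
    linear_combination (rz z (W x.1 ⊓ W y.1) hle ^ l) * hk
  choose k hk using hpair
  let K := Finset.univ.sup fun p : {x // x ∈ t} × {x // x ∈ t} => k p.1 p.2
  let b : ∀ x : {x // x ∈ t}, 𝒮L.presheaf.obj (op (W x.1)) := fun x =>
    rz z (W x.1) (hWe x.1 x.2).2.1 ^ K * a x
  have hb : TopCat.Presheaf.IsCompatible 𝒮L.presheaf (fun x : {x // x ∈ t} => W x.1) b := fun x y => by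
    show (𝒮L.presheaf.map (homOfLE inf_le_left).op).hom (_ * a x) =
      (𝒮L.presheaf.map (homOfLE inf_le_right).op).hom (_ * a y)
    rw [map_mul, map_mul, map_pow, map_pow, rz_res, rz_res]
    exact hk x y K (Finset.le_sup (f := fun p : {x // x ∈ t} × {x // x ∈ t} => k p.1 p.2) (Finset.mem_univ (x, y)))
  have hcov' : O ≤ iSup fun x : {x // x ∈ t} => W x.1 := fun y hy => by
    obtain ⟨x, hx, hyx⟩ := Set.mem_iUnion₂.1 (hcov hy)
    exact Opens.mem_iSup.2 ⟨⟨x, hx⟩, hyx⟩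
  obtain ⟨A, hA, -⟩ := TopCat.Sheaf.existsUnique_gluing' ⟨𝒮L.presheaf, 𝒮L.isSheaf⟩ (fun x : {x // x ∈ t} => W x.1) O
    (fun x => homOfLE (hWe x.1 x.2).2.1) hcov' b hb
  refine ⟨K + (N + 1), by omega, A, fun B hB hBO => ?_, ?_⟩
  · refine mem_deg_of_local hB _ fun y hy => ?_
    obtain ⟨x, hyx⟩ := Opens.mem_iSup.1 (hcov' (hBO hy))
    obtain ⟨_, ⟨B', hB', rfl⟩, hyB', hle⟩ :=
      X.isBasis_affineOpens.exists_subset_of_mem_open (show y ∈ B ⊓ W x.1 from ⟨hy, hyx⟩) (B ⊓ W x.1).2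
    have hle' : B' ≤ B ⊓ W x.1 := hle
    refine ⟨B', hB', hle'.trans inf_le_left, hyB', ?_⟩
    rw [rz_res, ← rz_res A (hWe x.1 x.2).2.1 (hle'.trans inf_le_right)]
    show (𝒮L.presheaf.map _).hom ((𝒮L.presheaf.map (homOfLE (hWe x.1 x.2).2.1).op).hom A) ∈ _
    erw [hA x]
    rw [map_mul, map_pow, rz_res, show (K + (N + 1)) * d = K • d + (N + 1) * d by rw [smul_eq_mul]; ring]
    exact SetLike.mul_mem_graded (SetLike.pow_mem_graded _ (hzd B' hB' _)) (ha x B' hB' _)
  · refine TopCat.Sheaf.eq_of_locally_eq' ⟨𝒮L.presheaf, 𝒮L.isSheaf⟩ (fun x : {x // x ∈ t} => nv z d ⊓ W x.1)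
      (nv z d) (fun x => homOfLE inf_le_left) (fun y hy => by
        obtain ⟨x, hyx⟩ := Opens.mem_iSup.1 (hcov' (nv_le z d hy))
        exact Opens.mem_iSup.2 ⟨x, hy, hyx⟩) _ _ fun x => ?_
    show (𝒮L.presheaf.map (homOfLE inf_le_left).op).hom _ = (𝒮L.presheaf.map (homOfLE inf_le_left).op).hom _
    rw [map_mul, map_pow, rz_res, rz_res, ← rz_res A (hWe x.1 x.2).2.1 inf_le_right]
    refine Eq.trans ?_ (congrArg (𝒮L.presheaf.map (homOfLE inf_le_right).op).hom (hA x).symm)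
    rw [map_mul, map_pow, rz_res]
    refine Eq.trans ?_ (congrArg (_ * ·) (hag x (nv z d ⊓ W x.1) inf_le_left inf_le_right).symm)
    rw [show (𝒮L.presheaf.map (homOfLE (inf_le_left : nv z d ⊓ W x.1 ≤ nv z d)).op).hom
      ((𝒮L.str.app (op (nv z d))).hom g) = _ from res_str 𝒮L.toQCAlg inf_le_left g]
    ring

end Groth.Agent.RelProjLib
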