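import Groth.Agent.RelProjLib.RLpsiImm
import Groth.Agent.GrModLib.Sections

/-! Graded subsystems of the source algebra of a graded morphism over a morphism of schemes. -/

set_option autoImplicit false
set_option linter.style.haveILetI false
set_option backward.isDefEq.respectTransparency false

universe u

open CategoryTheory AlgebraicGeometry TopologicalSpace Opposite

noncomputable section

namespace Groth.Agent.RelProjLib.Colim

variable {Y X PL : Scheme.{u}} {q : X ⟶ Y} {A B : RelProj.QCGrAlg Y} {T : RelProj.QCGrAlg X}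
  (φ : A.toQCAlg ⟶ B.toQCAlg) (hφ : RelProj.IsGradedHom φ)

include hφ in
/-- A homogeneous element in the image of a graded map has a homogeneous preimage. -/
theorem exists_homogeneous {U : Y.Opens} (hU : IsAffineOpen U) {d : ℕ} {x : B.presheaf.obj (op U)}
    (hx : x ∈ B.deg U hU d) (y : A.presheaf.obj (op U)) (hy : (φ.hom.app (op U)).hom y = x) :
    ∃ z ∈ A.deg U hU d, (φ.hom.app (op U)).hom z = x := by
  classical
  refine ⟨(DirectSum.decompose (A.deg U hU) y d : A.presheaf.obj (op U)), SetLike.coe_mem _, ?_⟩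
  have key : ∀ w, (φ.hom.app (op U)).hom (DirectSum.decompose (A.deg U hU) w d : A.presheaf.obj (op U)) =
      (DirectSum.decompose (B.deg U hU) ((φ.hom.app (op U)).hom w) d : B.presheaf.obj (op U)) := by
    intro w
    induction w using DirectSum.Decomposition.inductionOn (A.deg U hU) with
    | zero => simp
    | homogeneous m =>
      rename_i n
      have hm := hφ U hU n _ (SetLike.coe_mem m)
      by_cases h : n = d
      · subst h
        rw [DirectSum.decompose_of_mem_same _ (SetLike.coe_mem m), DirectSum.decompose_of_mem_same _ hm]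
      · rw [DirectSum.decompose_of_mem_ne _ (SetLike.coe_mem m) h, DirectSum.decompose_of_mem_ne _ hm h, map_zero]
    | add a b ha hb =>
      simp only [map_add, DirectSum.decompose_add, DirectSum.add_apply, AddMemClass.coe_add, ha, hb]
  rw [key, hy, DirectSum.decompose_of_mem_same _ hx]

variable (u : RelProj.QGrHom q B T) (v : RelProj.QGrHom q A T)
  (hv : ∀ U : Y.Opens, v.app U = φ.hom.app (op U) ≫ u.app U)

include hv in
theorem appLE_eq (U : Y.Opens) (V : X.Opens) (h : V ≤ q ⁻¹ᵁ U) (y : A.presheaf.obj (op U)) :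
    (v.appLE U V h).hom y = (u.appLE U V h).hom ((φ.hom.app (op U)).hom y) := by
  show (T.presheaf.map (homOfLE h).op).hom ((v.app U).hom y) = _
  rw [hv]
  rfl

include hv in
theorem xT_eq (f : A.presheaf.obj (op ⊤)) (d : ℕ) : xT v f d = xT u ((φ.hom.app (op ⊤)).hom f) d := by
  have h : secFam v f = secFam u ((φ.hom.app (op ⊤)).hom f) := funext fun W => appLE_eq φ u v hv ⊤ W _ f
  show nonVanish _ d = nonVanish _ d
  rw [h]

variable (pL : PL ⟶ X)
  (chartL : ∀ (U : X.Opens) (hU : IsAffineOpen U), (((pL ⁻¹ᵁ U : PL.Opens) : Scheme.{u}) ≅ Proj (T.deg U hU)))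

/-- The image of a chart index. -/
def pushIdx (k : QMap.Idx (g := q) (𝒮 := A)) : QMap.Idx (g := q) (𝒮 := B) :=
  ⟨k.U, k.hU, k.U', k.hU', k.hle, k.d, k.hd, (φ.hom.app (op k.U)).hom k.f, hφ k.U k.hU k.d k.f k.hf⟩

include hv in
theorem range_cMap_push (k : QMap.Idx (g := q) (𝒮 := A)) :
    Set.range (QMap.cMap v pL chartL k).base = Set.range (QMap.cMap u pL chartL (pushIdx φ hφ k)).base := by
  rw [QMap.range_cMap, QMap.range_cMap]
  have h := appLE_eq φ u v hv k.U k.U' k.hle k.f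
  exact congrArg (fun w => (RelProj.emb pL chartL k.U' k.hU').base ''
    ((Proj.basicOpen (T.deg k.U' k.hU') w : (Proj (T.deg k.U' k.hU')).Opens) : Set (Proj (T.deg k.U' k.hU')))) h

include hφ hv in
theorem domQ_le : RelProj.domQ v pL chartL ≤ RelProj.domQ u pL chartL := fun x hx => by
  obtain ⟨k, hk⟩ := QMap.exists_chart v pL chartL x hx
  rw [range_cMap_push φ hφ u v hv pL chartL k] at hk
  obtain ⟨y, rfl⟩ := hk
  exact QMap.cMap_mem_domQ u pL chartL _ y

theorem exists_mem_basicOpen_iff {U : Y.Opens} (hU : IsAffineOpen U) {d : ℕ} (hd : 0 < d)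
    {f : A.presheaf.obj (op U)} (hf : f ∈ A.deg U hU d) :
    (∃ y : Proj (A.deg U hU), y ∈ Proj.basicOpen (A.deg U hU) f) ↔ ¬ IsNilpotent f := by
  constructor
  · rintro ⟨y, hy⟩ ⟨k, hk⟩
    refine (ProjectiveSpectrum.mem_basicOpen _ _ _).1 hy (y.isPrime.mem_of_pow_mem k ?_)
    rw [hk]
    exact zero_mem _
  · intro h
    by_contra hne
    push Not at hne
    refine h ?_
    have := GrModLib.mem_radical_of_forall_basicOpen (𝒜 := A.deg U hU) ⊥ hd hf
      fun x hx => absurd hx (fun hx' => hne x hx')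
    rwa [HomogeneousIdeal.toIdeal_bot, ← Ideal.zero_eq_bot, Ideal.mem_radical_iff] at this

/-- Some chart of the given element is non-empty. -/
def Hit (U : Y.Opens) (hU : IsAffineOpen U) (d : ℕ) (hd : 0 < d) (f : A.presheaf.obj (op U))
    (hf : f ∈ A.deg U hU d) : Prop :=
  ∃ (V : X.Opens) (hV : IsAffineOpen V) (hle : V ≤ q ⁻¹ᵁ U),
    (Set.range (QMap.cMap v pL chartL ⟨U, hU, V, hV, hle, d, hd, f, hf⟩).base).Nonempty

include hv in
theorem hit_iff (U : Y.Opens) (hU : IsAffineOpen U) (d : ℕ) (hd : 0 < d) (f : A.presheaf.obj (op U))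
    (hf : f ∈ A.deg U hU d) :
    Hit v pL chartL U hU d hd f hf ↔ Hit u pL chartL U hU d hd _ (hφ U hU d f hf) := by
  refine exists_congr fun V => exists_congr fun hV => exists_congr fun hle => ?_
  rw [range_cMap_push φ hφ u v hv pL chartL]
  rfl

variable {P : Scheme.{u}} {p : P ⟶ Y}
  {chart : ∀ (U : Y.Opens) (hU : IsAffineOpen U), (((p ⁻¹ᵁ U : P.Opens) : Scheme.{u}) ≅ Proj (A.deg U hU))}
  (hP : RelProj.IsRelProj A p chart) (hPL : RelProj.IsRelProj T pL chartL)
  (r : ((RelProj.domQ v pL chartL : PL.Opens) : Scheme.{u}) ⟶ P)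
  (hr : RelProj.IsProjQMapOn v p chart pL chartL (RelProj.domQ v pL chartL) r)

include hP hPL hr in
theorem isDominant_iff :
    IsDominant r ↔ ∀ (U : Y.Opens) (hU : IsAffineOpen U) (d : ℕ) (hd : 0 < d) (f : A.presheaf.obj (op U))
      (hf : f ∈ A.deg U hU d), (∃ y : Proj (A.deg U hU), y ∈ Proj.basicOpen (A.deg U hU) f) →
        Hit v pL chartL U hU d hd f hf := by
  constructor
  · intro hdom U hU d hd f hf ⟨y, hy⟩
    obtain ⟨w, hw⟩ := r.denseRange.exists_mem_open
      ((RelProj.emb p chart U hU) ''ᵁ Proj.basicOpen (A.deg U hU) f).2 ⟨_, y, hy, rfl⟩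
    obtain ⟨z, hz, hzw⟩ := hw
    have hU' : q (pL w.1) ∈ U := by
      have e : p (r w) = q (pL w.1) := congrArg (fun g => g w) (QMap.on_comp v p chart pL chartL hP hPL hr)
      rw [← e, ← hzw]
      exact ((chart U hU).inv z).2
    obtain ⟨_, ⟨V, hV, rfl⟩, hxV, hVU⟩ :=
      X.isBasis_affineOpens.exists_subset_of_mem_open (show pL w.1 ∈ q ⁻¹ᵁ U from hU') (q ⁻¹ᵁ U).2
    refine ⟨V, hV, hVU, w.1, QMap.mem_chart_of_map_mem hP hPL hr U hU V hV hVU d hd f hf w hxV ?_⟩
    obtain ⟨c, hc⟩ : z ∈ (Proj.awayι (A.deg U hU) f hf hd).opensRange := by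
      rw [Proj.opensRange_awayι]; exact hz
    exact ⟨c, (congrArg (RelProj.emb p chart U hU).base hc).trans hzw⟩
  · intro h
    refine ⟨dense_iff_inter_open.2 fun O hO ⟨x, hx⟩ => ?_⟩
    obtain ⟨_, ⟨U, hU, rfl⟩, hxU, -⟩ :=
      Y.isBasis_affineOpens.exists_subset_of_mem_open (show p x ∈ (⊤ : Y.Opens) from trivial) isOpen_univ
    obtain ⟨y, rfl⟩ : x ∈ (RelProj.emb p chart U hU).opensRange := by
      refine ⟨(chart U hU).hom ⟨x, hxU⟩, ?_⟩
      show ((chart U hU).hom ≫ (chart U hU).inv ≫ (p ⁻¹ᵁ U).ι) ⟨x, hxU⟩ = x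
      rw [Iso.hom_inv_id_assoc]
      rfl
    obtain ⟨d, f, hd, hf, hyf, hfO⟩ := GrModLib.exists_basicOpen_le (𝒜 := A.deg U hU)
      (V := (RelProj.emb p chart U hU) ⁻¹ᵁ ⟨O, hO⟩) (x := y) hx
    obtain ⟨V, hV, hle, _, ⟨c, rfl⟩⟩ := h U hU d hd f hf ⟨y, hyf⟩
    let k : QMap.Idx (g := q) (𝒮 := A) := ⟨U, hU, V, hV, hle, d, hd, f, hf⟩
    refine ⟨r (QMap.lMap v pL chartL k c), ?_, _, rfl⟩
    have e : r (QMap.lMap v pL chartL k c) = QMap.dMap v p chart k c :=
      congrArg (fun g => g c) (QMap.lMap_comp hr k)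
    rw [e]
    exact hfO (by rw [← Proj.opensRange_awayι (A.deg U hU) f hf hd]; exact ⟨_, rfl⟩)

end Groth.Agent.RelProjLib.Colim
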